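import Groth.Agent.Lib.WtMu19.Op
import Groth.Agent.Lib.DiagGL.Points
import Groth.Agent.Lib.RedLR15.Fixed
import Groth.Agent.Lib.RedLR15.Scalar
import Groth.Agent.Lib.CoalgH23.Dual
import Groth.Agent.Lib.HopfRedH28.Basic
import Groth.Prelude.Def_GLin

/-!
# The representation on a finite space of functions on the total space
-/

set_option autoImplicit false
set_option linter.style.haveILetI false
set_option backward.isDefEq.respectTransparency.types false
universe u

open CategoryTheory Limits MonoidalCategory CartesianMonoidalCategory MonObj AlgebraicGeometry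
open scoped TensorProduct
open WithConv

noncomputable section

namespace Groth.Agent.GITHM15

open Groth.Agent.WtMu19
open Groth.Agent.FixLine19 (sp str)

attribute [local instance] HomSch19.algW

variable {k : Type u} [Field k] {A : Type u} [CommRing A] [HopfAlgebra k A]

section Model

variable {G : Over (Spec (CommRingCat.of k))} [GrpObj G] (ei : G ⟶ CoactBr.sp k A)

/-- The coordinates of a point of the group. -/
def evA {T : Over (Spec (CommRingCat.of k))} (g : T ⟶ G) : A →ₐ[k] Γ(T.left, ⊤) :=
  { DiagGL.ev (g ≫ ei) with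
    commutes' := fun r => (DiagGL.ev_algebraMap (g ≫ ei) r).trans (algebraMap_eq_str T r).symm }

omit [GrpObj G] in
theorem evA_comp {T T' : Over (Spec (CommRingCat.of k))} (t : T' ⟶ T) (g : T ⟶ G) (x : A) :
    evA ei (t ≫ g) x = t.left.appTop (evA ei g x) := by
  show DiagGL.ev ((t ≫ g) ≫ ei) x = _
  rw [Category.assoc, DiagGL.ev_comp]
  rfl

/-- A rational point of the affine model. -/
def spPt (χ : A →ₐ[k] k) : 𝟙_ (Over (Spec (CommRingCat.of k))) ⟶ CoactBr.sp k A :=
  DiagGL.mk ((str (𝟙_ (Over (Spec (CommRingCat.of k))))).comp χ.toRingHom) fun r => by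
    show str (𝟙_ (Over (Spec (CommRingCat.of k)))) (χ (algebraMap k A r)) = _
    rw [AlgHom.commutes, Algebra.algebraMap_self, RingHom.id_apply]
    rfl

theorem ev_spPt (χ : A →ₐ[k] k) (x : A) : DiagGL.ev (spPt χ) x = str _ (χ x) :=
  RingHom.congr_fun (DiagGL.ev_mk _ _) x

theorem spPt_conv (χ ξ : A →ₐ[k] k) : spPt (toConv χ * toConv ξ).ofConv = spPt χ * spPt ξ := by
  refine DiagGL.ev_injective fun x => ?_
  rw [ev_spPt, DiagGL.ev_mul, AlgHom.convMul_apply, Bialgebra.comulAlgHom_apply]
  generalize CoalgebraStruct.comul (R := k) x = z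
  induction z with
  | zero => simp
  | add p q hp hq => simp only [map_add, hp, hq]
  | tmul p q =>
    simp only [Algebra.TensorProduct.lift_tmul, ofConv_toConv, map_mul]
    exact congrArg₂ (· * ·) (ev_spPt χ p).symm (ev_spPt ξ q).symm

variable [IsIso ei] [IsMonHom ei]

/-- The rational point of the group given by an algebra map. -/
def gPt (χ : A →ₐ[k] k) : 𝟙_ (Over (Spec (CommRingCat.of k))) ⟶ G := spPt χ ≫ inv ei

omit [GrpObj G] [IsMonHom ei] in
theorem evA_gPt (χ : A →ₐ[k] k) (x : A) : evA ei (gPt ei χ) x = str _ (χ x) := by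
  show DiagGL.ev ((spPt χ ≫ inv ei) ≫ ei) x = _
  rw [Category.assoc, IsIso.inv_hom_id, Category.comp_id, ev_spPt]

theorem gPt_conv (χ ξ : A →ₐ[k] k) : gPt ei (toConv χ * toConv ξ).ofConv = gPt ei χ * gPt ei ξ := by
  apply (cancel_mono ei).1
  rw [MonObj.mul_comp, gPt, gPt, gPt, Category.assoc, Category.assoc, Category.assoc, IsIso.inv_hom_id,
    Category.comp_id, Category.comp_id, Category.comp_id, spPt_conv]

theorem gPt_counit : gPt ei (Bialgebra.counitAlgHom k A) = 1 := by
  have h := gPt_conv ei (Bialgebra.counitAlgHom k A) (Bialgebra.counitAlgHom k A)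
  have e : (toConv (Bialgebra.counitAlgHom k A) * toConv (Bialgebra.counitAlgHom k A)).ofConv =
      Bialgebra.counitAlgHom k A := by
    have e1 : toConv (Bialgebra.counitAlgHom k A) = (1 : WithConv (A →ₐ[k] k)) := by
      apply WithConv.ofConv_injective
      exact AlgHom.ext fun x => by simp
    rw [e1, _root_.mul_one]
    rfl
  rw [e] at h
  exact left_eq_mul.1 h

end Model

section Matrix

variable [IsAlgClosed k] [CharZero k] [Algebra.FiniteType k A]
  {G X : Over (Spec (CommRingCat.of k))} [GrpObj G] {a : AlgGrp.Action G X} (B : GLinSh.LinBun G a)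
  (ei : G ⟶ CoactBr.sp k A) [IsIso ei] [IsMonHom ei] {κ : Type u} [Fintype κ] (b : κ → Γ(B.V.left, ⊤))

/-- The matrix of the action on the functions `b`. -/
def IsMatrix (m : κ → κ → A) : Prop :=
  ∀ (T : Over (Spec (CommRingCat.of k))) (g : T ⟶ G) (v : T ⟶ B.V) (i : κ),
    (lift g v ≫ B.lift.act).left.appTop (b i) = ∑ j, evA ei g (m i j) * v.left.appTop (b j)

set_option maxHeartbeats 800000 in
omit [IsMonHom ei] in
theorem exists_matrix [CompactSpace X.left] [IsAffine G.left] (hb : LinearIndependent k b)
    (hst : ∀ d i, Op B d (b i) ∈ Submodule.span k (Set.range b)) :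
    ∃ m : κ → κ → A, IsMatrix B ei b m := by
  classical
  haveI := compactSpace_V B
  obtain ⟨Φ, hΦ⟩ : ∃ Φ : κ → Module.Dual k Γ(B.V.left, ⊤), ∀ i j, Φ i (b j) = if j = i then 1 else 0 := by
    obtain ⟨Q, hQ⟩ := (Fintype.linearCombination k b).exists_leftInverse_of_injective
      (LinearMap.ker_eq_bot.2 hb.fintypeLinearCombination_injective)
    refine ⟨fun i => LinearMap.proj i ∘ₗ Q, fun i j => ?_⟩
    have h := congrFun (LinearMap.congr_fun hQ (Pi.single j 1)) i
    rw [LinearMap.comp_apply, Fintype.linearCombination_apply_single, one_smul] at h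
    rw [LinearMap.comp_apply, LinearMap.proj_apply, h, LinearMap.id_apply, Pi.single_apply]
    simp [eq_comm]
  have hproj : ∀ x ∈ Submodule.span k (Set.range b), x = ∑ j, Φ j x • b j := by
    intro x hx
    induction hx using Submodule.span_induction with
    | mem x hx =>
      obtain ⟨i, rfl⟩ := hx
      simp [hΦ, ite_smul]
    | zero => simp
    | add x y _ _ hx hy =>
      conv_lhs => rw [hx, hy]
      simp only [map_add, add_smul, Finset.sum_add_distrib]
    | smul r x _ hx =>
      conv_lhs => rw [hx]
      simp only [map_smul, smul_eq_mul, mul_smul, Finset.smul_sum]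
  -- functions on the group are the algebra
  let eA : A →ₐ[k] Γ(G.left, ⊤) := evA ei (𝟙 G)
  have heA : Function.Surjective eA := fun t => by
    obtain ⟨x, hx⟩ := (ConcreteCategory.bijective_of_isIso
      ((Scheme.ΓSpecIso (CommRingCat.of A)).inv)).2 ((inv ei).left.appTop t)
    refine ⟨x, ?_⟩
    show ((𝟙 G ≫ ei).left.appTop) ((Scheme.ΓSpecIso (CommRingCat.of A)).inv x) = t
    rw [Category.id_comp]
    refine (congrArg ei.left.appTop hx).trans ?_
    show ((inv ei).left.appTop ≫ ei.left.appTop) t = t
    rw [← Scheme.Hom.comp_appTop, ← Over.comp_left, IsIso.hom_inv_id]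
    simp
  haveI : IsReduced A := Groth.Agent.HopfRedH28.isReduced_of_charZero k A
  have hkey : ∀ i, ∃ c : κ → A, ∀ (T : Over (Spec (CommRingCat.of k))) (g : T ⟶ G) (v : T ⟶ B.V),
      (lift g v ≫ B.lift.act).left.appTop (b i) = ∑ j, evA ei g (c j) * v.left.appTop (b j) := by
    intro i
    obtain ⟨z₀, hz₀⟩ := (HomSch19.theta_bijective B.V G).2
      ((lift (snd B.V G) (fst _ _) ≫ B.lift.act).left.appTop (b i))
    obtain ⟨z, hz⟩ := LinearMap.lTensor_surjective Γ(B.V.left, ⊤) (g := eA.toLinearMap) heA z₀
    have hz' : ∀ (T : Over (Spec (CommRingCat.of k))) (g : T ⟶ G) (v : T ⟶ B.V),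
        (lift g v ≫ B.lift.act).left.appTop (b i) =
          (lift v g).left.appTop (thetaT B.V G (LinearMap.lTensor _ eA.toLinearMap z)) := by
      intro T g v
      rw [hz, show thetaT B.V G z₀ = _ from hz₀, ← CommRingCat.comp_apply, ← Scheme.Hom.comp_appTop,
        ← Over.comp_left, comp_lift_assoc, lift_snd, lift_fst]
    let c : κ → A := fun j => TensorProduct.lid k A (LinearMap.rTensor A (Φ j) z)
    have hzero : z = ∑ j, b j ⊗ₜ[k] c j := by
      rw [← sub_eq_zero]
      let bV := Module.Free.chooseBasis k Γ(B.V.left, ⊤)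
      let eV := TensorProduct.equivFinsuppOfBasisLeft (N := A) bV
      apply eV.injective
      rw [map_zero]
      ext α
      refine RedLR15.eq_zero_of_forall_pts (k := k) fun χ => ?_
      let E : Γ(B.V.left, ⊤) ⊗[k] A →ₗ[k] Γ(B.V.left, ⊤) :=
        (TensorProduct.rid k _).toLinearMap ∘ₗ LinearMap.lTensor _ χ.toLinearMap
      have hOp : E z = Op B (gPt ei χ) (b i) := by
        rw [Op_apply, hz' B.V (toUnit _ ≫ gPt ei χ) (𝟙 _)]
        generalize z = w
        induction w with
        | zero => simp
        | add p q hp hq => simp only [map_add, hp, hq]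
        | tmul p q =>
          rw [LinearMap.lTensor_tmul, pair_theta, AlgHom.toLinearMap_apply]
          have e : (toUnit B.V ≫ gPt ei χ).left.appTop (eA q) = str B.V (χ q) := by
            rw [← evA_comp, Category.comp_id, evA_comp, evA_gPt, str_nat]
          rw [e]
          simp [E, smul_eq_str, mul_comm]
      have hE : E (z - ∑ j, b j ⊗ₜ[k] c j) = 0 := by
        rw [map_sub, map_sum, sub_eq_zero, hOp]
        conv_lhs => rw [hproj _ (hst (gPt ei χ) i), ← hOp]
        refine Finset.sum_congr rfl fun j _ => ?_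
        simp only [E, LinearMap.comp_apply, LinearMap.lTensor_tmul, LinearEquiv.coe_coe, TensorProduct.rid_tmul,
          AlgHom.toLinearMap_apply]
        congr 1
        simp only [c]
        generalize z = w
        induction w with
        | zero => simp
        | add p q hp hq => simp only [map_add, hp, hq]
        | tmul p q => simp [mul_comm]
      have hrepr : ∀ w, bV.repr (E w) α = χ (eV w α) := by
        intro w
        induction w with
        | zero => simp
        | add p q hp hq => simp only [map_add, Finsupp.add_apply, hp, hq]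
        | tmul p q => simp [E, eV, TensorProduct.equivFinsuppOfBasisLeft_apply_tmul_apply, mul_comm]
      rw [← hrepr, hE, map_zero, Finsupp.zero_apply]
    refine ⟨c, fun T g v => ?_⟩
    rw [hz', hzero, map_sum, map_sum, map_sum]
    refine Finset.sum_congr rfl fun j _ => ?_
    rw [LinearMap.lTensor_tmul, pair_theta, AlgHom.toLinearMap_apply, mul_comm, ← evA_comp, Category.comp_id]
  choose m hm using hkey
  exact ⟨m, fun T g v i => hm i T g v⟩

variable {b} {m : κ → κ → A}

omit [IsMonHom ei] [IsAlgClosed k] [CharZero k] [Algebra.FiniteType k A] in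
theorem IsMatrix.Op_gPt (hm : IsMatrix B ei b m) (χ : A →ₐ[k] k) (i : κ) :
    Op B (gPt ei χ) (b i) = ∑ j, χ (m i j) • b j := by
  rw [Op_apply, hm]
  refine Finset.sum_congr rfl fun j _ => ?_
  rw [evA_comp, evA_gPt, str_nat, smul_eq_str]
  simp

omit [IsAlgClosed k] [CharZero k] [Algebra.FiniteType k A] in
theorem IsMatrix.conv (hm : IsMatrix B ei b m) (hb : LinearIndependent k b) (χ ξ : A →ₐ[k] k) (i l : κ) :
    (toConv χ * toConv ξ).ofConv (m i l) = ∑ j, χ (m i j) * ξ (m j l) := by
  have h := hm.Op_gPt B ei (toConv χ * toConv ξ).ofConv i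
  rw [gPt_conv, ← Op_Op, hm.Op_gPt B ei χ i, map_sum] at h
  simp only [map_smul, hm.Op_gPt B ei ξ, Finset.smul_sum, smul_smul] at h
  rw [Finset.sum_comm] at h
  simp only [← Finset.sum_smul] at h
  exact (congrFun (hb.fintypeLinearCombination_injective (R := k)
    (a₁ := fun l => ∑ j, χ (m i j) * ξ (m j l)) (a₂ := fun l => (toConv χ * toConv ξ).ofConv (m i l))
    (by simpa [Fintype.linearCombination_apply] using h)) l).symm

omit [IsAlgClosed k] [CharZero k] [Algebra.FiniteType k A] in
theorem IsMatrix.counit [DecidableEq κ] (hm : IsMatrix B ei b m) (hb : LinearIndependent k b) (i l : κ) :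
    Bialgebra.counitAlgHom k A (m i l) = if i = l then 1 else 0 := by
  have h := hm.Op_gPt B ei (Bialgebra.counitAlgHom k A) i
  rw [gPt_counit, Op_one] at h
  exact congrFun (hb.fintypeLinearCombination_injective (R := k)
    (a₁ := fun l => Bialgebra.counitAlgHom k A (m i l)) (a₂ := fun l => if i = l then (1 : k) else 0)
    (by simpa [Fintype.linearCombination_apply, ite_smul] using h.symm)) l

/-- The coefficients of the coaction. -/
def coef (m : κ → κ → A) (i j : κ) : A := HopfAlgebra.antipodeAlgHom k A (m i j)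

omit [IsAlgClosed k] [CharZero k] [Algebra.FiniteType k A] in
theorem ptInv_conv (χ ξ : A →ₐ[k] k) :
    RedLR15.ptInv (toConv χ * toConv ξ).ofConv =
      (toConv (RedLR15.ptInv ξ) * toConv (RedLR15.ptInv χ)).ofConv := by
  refine congrArg WithConv.ofConv (a₁ := toConv _) ?_
  refine left_inv_eq_right_inv (RedLR15.toConv_ptInv_mul _) ?_
  rw [toConv_ofConv, _root_.mul_assoc, ← _root_.mul_assoc (toConv ξ), RedLR15.toConv_mul_ptInv, _root_.one_mul,
    RedLR15.toConv_mul_ptInv]

theorem comul_coef (hm : IsMatrix B ei b m) (hb : LinearIndependent k b) (i l : κ) :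
    CoalgebraStruct.comul (R := k) (coef (k := k) m i l) = ∑ j, coef (k := k) m j l ⊗ₜ[k] coef (k := k) m i j := by
  haveI : Algebra.FiniteType k (A ⊗[k] A) :=
    Algebra.FiniteType.trans (inferInstance : Algebra.FiniteType k A) inferInstance
  haveI : IsReduced (A ⊗[k] A) := Groth.Agent.HopfRedH28.isReduced_of_charZero k (A ⊗[k] A)
  rw [← sub_eq_zero]
  refine RedLR15.eq_zero_of_forall_pts (k := k) fun Φ => ?_
  let χ := Φ.comp (Algebra.TensorProduct.includeLeft : A →ₐ[k] A ⊗[k] A)
  let ξ := Φ.comp (Algebra.TensorProduct.includeRight : A →ₐ[k] A ⊗[k] A)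
  have hΦ : ∀ p q : A, Φ (p ⊗ₜ[k] q) = χ p * ξ q := fun p q => by
    simp only [χ, ξ, AlgHom.comp_apply, Algebra.TensorProduct.includeLeft_apply,
      Algebra.TensorProduct.includeRight_apply, ← map_mul, Algebra.TensorProduct.tmul_mul_tmul, _root_.mul_one,
      _root_.one_mul]
  have e : Φ (CoalgebraStruct.comul (R := k) (coef (k := k) m i l)) =
      (toConv χ * toConv ξ).ofConv (coef (k := k) m i l) := by
    rw [AlgHom.convMul_apply]
    generalize CoalgebraStruct.comul (R := k) (coef (k := k) m i l) = z
    induction z with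
    | zero => simp
    | add p q hp hq => simp only [map_add, hp, hq]
    | tmul p q => simp [hΦ]
  rw [map_sub, map_sum, e, sub_eq_zero]
  show RedLR15.ptInv (toConv χ * toConv ξ).ofConv (m i l) = _
  rw [ptInv_conv, hm.conv B ei hb]
  refine Finset.sum_congr rfl fun j _ => ?_
  rw [hΦ, mul_comm]
  rfl

omit [IsAlgClosed k] [CharZero k] [Algebra.FiniteType k A] in
theorem counit_coef [DecidableEq κ] (hm : IsMatrix B ei b m) (hb : LinearIndependent k b) (i l : κ) :
    Bialgebra.counitAlgHom k A (coef (k := k) m i l) = if i = l then 1 else 0 := by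
  rw [← hm.counit B ei hb i l]
  have e : RedLR15.ptInv (Bialgebra.counitAlgHom k A) = Bialgebra.counitAlgHom k A :=
    AlgHom.ext fun x => HopfAlgebra.counit_antipode x
  exact AlgHom.congr_fun e _

end Matrix

section Coaction

variable {κ : Type u} [Fintype κ] (c : κ → κ → A)

/-- The linear coaction on polynomials with coefficients `c`. -/
def coactA : MvPolynomial κ k →ₐ[k] MvPolynomial κ k ⊗[k] A :=
  MvPolynomial.aeval fun i => ∑ j, MvPolynomial.X j ⊗ₜ[k] c i j

/-- The comodule of a matrix. -/
@[reducible] def matComod [DecidableEq κ]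
    (hcomul : ∀ i l, CoalgebraStruct.comul (R := k) (c i l) = ∑ j, c j l ⊗ₜ[k] c i j)
    (hcounit : ∀ i l, Bialgebra.counitAlgHom k A (c i l) = if i = l then 1 else 0) :
    HopfRep.Comod k A (MvPolynomial κ k) where
  coact := (coactA (k := k) c).toLinearMap
  coassoc := by
    have h : ((Algebra.TensorProduct.assoc k k k (MvPolynomial κ k) A A).toAlgHom.comp
        ((Algebra.TensorProduct.map (coactA (k := k) c) (AlgHom.id k A)).comp (coactA (k := k) c))) =
        (Algebra.TensorProduct.map (AlgHom.id k (MvPolynomial κ k)) (Bialgebra.comulAlgHom k A)).comp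
          (coactA (k := k) c) := by
      refine MvPolynomial.algHom_ext fun i => ?_
      simp only [AlgHom.comp_apply, coactA, MvPolynomial.aeval_X, map_sum, Algebra.TensorProduct.map_tmul,
        AlgHom.id_apply, Bialgebra.comulAlgHom_apply, hcomul, TensorProduct.tmul_sum, TensorProduct.sum_tmul]
      rw [Finset.sum_comm]
      simp [MvPolynomial.aeval_X]
    refine LinearMap.ext fun p => ?_
    have h1 := AlgHom.congr_fun h p
    simp only [LinearMap.comp_apply, AlgHom.toLinearMap_apply, LinearEquiv.coe_coe]
    simp only [AlgHom.comp_apply] at h1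
    refine Eq.trans ?_ (h1.trans ?_)
    · generalize coactA (k := k) c p = z
      induction z with
      | zero => simp
      | add u v hu hv => simp only [map_add, hu, hv]
      | tmul u v => rfl
    · generalize coactA (k := k) c p = z
      induction z with
      | zero => simp
      | add u v hu hv => simp only [map_add, hu, hv]
      | tmul u v => rfl
  counit_comp := by
    have h : (Algebra.TensorProduct.map (AlgHom.id k (MvPolynomial κ k)) (Bialgebra.counitAlgHom k A)).comp
        (coactA (k := k) c) = (Algebra.TensorProduct.includeLeft : MvPolynomial κ k →ₐ[k] MvPolynomial κ k ⊗[k] k) := by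
      refine MvPolynomial.algHom_ext fun i => ?_
      simp only [AlgHom.comp_apply, coactA, MvPolynomial.aeval_X, map_sum, Algebra.TensorProduct.map_tmul,
        AlgHom.id_apply, hcounit, Algebra.TensorProduct.includeLeft_apply]
      rw [Finset.sum_eq_single i (fun j _ hj => by simp [Ne.symm hj]) (fun hi => absurd (Finset.mem_univ i) hi)]
      simp
    refine LinearMap.ext fun p => ?_
    have h1 := AlgHom.congr_fun h p
    simp only [AlgHom.comp_apply, Algebra.TensorProduct.includeLeft_apply] at h1
    simp only [LinearMap.comp_apply, AlgHom.toLinearMap_apply, LinearMap.flip_apply, TensorProduct.mk_apply]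
    refine Eq.trans ?_ h1
    generalize coactA (k := k) c p = z
    induction z with
    | zero => simp
    | add u v hu hv => simp only [map_add, hu, hv]
    | tmul u v => rfl

variable [DecidableEq κ] (hcomul : ∀ i l, CoalgebraStruct.comul (R := k) (c i l) = ∑ j, c j l ⊗ₜ[k] c i j)
  (hcounit : ∀ i l, Bialgebra.counitAlgHom k A (c i l) = if i = l then 1 else 0)

theorem isCoactAlg_matComod :
    letI := matComod c hcomul hcounit
    GLin.IsCoactAlg k A (MvPolynomial κ k) :=
  letI := matComod c hcomul hcounit
  { coact_one := map_one (coactA (k := k) c)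
    coact_mul := fun f g => map_mul (coactA (k := k) c) f g }

theorem isLinear_matComod :
    letI := matComod c hcomul hcounit
    GLin.IsLinear k A κ := fun i => ⟨c i, MvPolynomial.aeval_X _ i⟩

theorem orbitHom_matComod (w : κ → k) (i : κ) :
    letI := matComod c hcomul hcounit
    haveI := isCoactAlg_matComod c hcomul hcounit
    GLin.orbitHom k A (GLin.vecPt k κ w) (MvPolynomial.X i) = ∑ j, w j • c i j := by
  letI := matComod c hcomul hcounit
  haveI := isCoactAlg_matComod c hcomul hcounit
  show Algebra.TensorProduct.lid k A (Algebra.TensorProduct.map (GLin.vecPt k κ w) (AlgHom.id k A)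
    (coactA (k := k) c (MvPolynomial.X i))) = _
  rw [coactA, MvPolynomial.aeval_X, map_sum, map_sum]
  refine Finset.sum_congr rfl fun j _ => ?_
  simp [GLin.vecPt]

end Coaction

section Invariant

variable [IsAlgClosed k] [CharZero k] [Algebra.FiniteType k A]
  {G X : Over (Spec (CommRingCat.of k))} [GrpObj G] {a : AlgGrp.Action G X} (B : GLinSh.LinBun G a)
  (ei : G ⟶ CoactBr.sp k A) {κ : Type u} [Fintype κ] {b : κ → Γ(B.V.left, ⊤)} {m : κ → κ → A}

omit [IsAlgClosed k] [CharZero k] [Algebra.FiniteType k A] in
theorem appTop_aeval {T T' : Over (Spec (CommRingCat.of k))} (t : T' ⟶ T) (w : κ → Γ(T.left, ⊤))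
    (P : MvPolynomial κ k) :
    t.left.appTop (MvPolynomial.aeval w P) = MvPolynomial.aeval (fun i => t.left.appTop (w i)) P := by
  induction P using MvPolynomial.induction_on with
  | C r => rw [MvPolynomial.aeval_C, MvPolynomial.aeval_C, algebraMap_eq_str, algebraMap_eq_str, str_nat]
  | add p q hp hq => simp only [map_add, hp, hq]
  | mul_X p i hp => simp only [map_mul, MvPolynomial.aeval_X, hp]

omit [IsAlgClosed k] [CharZero k] [Algebra.FiniteType k A] in
/-- An invariant polynomial gives an invariant function. -/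
theorem isInvFn_aeval (hm : IsMatrix B ei b m) {P : MvPolynomial κ k}
    (hP : coactA (coef (k := k) m) P = P ⊗ₜ[k] (1 : A)) :
    GLinSh.IsInvFn B.lift (MvPolynomial.aeval b P) := by
  show B.lift.act.left.appTop (MvPolynomial.aeval b P) = (snd G B.V).left.appTop (MvPolynomial.aeval b P)
  rw [appTop_aeval, appTop_aeval]
  let Θ : MvPolynomial κ k ⊗[k] A →ₐ[k] Γ((G ⊗ B.V).left, ⊤) :=
    Algebra.TensorProduct.lift (MvPolynomial.aeval fun i => (snd G B.V).left.appTop (b i))
      ((evA ei (fst G B.V)).comp (HopfAlgebra.antipodeAlgHom k A)) fun _ _ => .all _ _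
  have hΘ : Θ.comp (coactA (coef (k := k) m)) =
      MvPolynomial.aeval fun i => B.lift.act.left.appTop (b i) := by
    refine MvPolynomial.algHom_ext fun i => ?_
    rw [AlgHom.comp_apply, coactA, MvPolynomial.aeval_X, MvPolynomial.aeval_X, map_sum]
    have h := hm _ (fst G B.V) (snd G B.V) i
    rw [lift_fst_snd, Category.id_comp] at h
    rw [h]
    refine Finset.sum_congr rfl fun j _ => ?_
    rw [Algebra.TensorProduct.lift_tmul, MvPolynomial.aeval_X, mul_comm, AlgHom.comp_apply, coef]
    congr 2
    exact Groth.Agent.CoalgH23.antipode_antipode (k := k) (m i j)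
  rw [← hΘ, AlgHom.comp_apply, hP, Algebra.TensorProduct.lift_tmul, map_one, _root_.mul_one]

end Invariant

end Groth.Agent.GITHM15
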