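import Groth.Agent.S8082
import Groth.Agent.Lib.TorPts21.Isogeny
import Groth.Agent.Lib.TorPts21.ReductiveCartanField
import Groth.Agent.Lib.HopfPts19.Scheme

/-!
# The affine model of a reductive group is linearly reductive
-/

set_option autoImplicit false
set_option linter.style.haveILetI false
set_option backward.isDefEq.respectTransparency.types false
universe u

open CategoryTheory Limits MonoidalCategory CartesianMonoidalCategory MonObj AlgebraicGeometry

noncomputable section

namespace Groth.Agent.GITHM15

theorem isMonHom_inv {S : Scheme.{u}} {M N : Over S} [GrpObj M] [GrpObj N] (f : M ⟶ N) [IsMonHom f] [IsIso f] :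
    IsMonHom (inv f) :=
  { one_hom := by rw [IsIso.comp_inv_eq]; exact (IsMonHom.one_hom f).symm
    mul_hom := by
      rw [IsIso.comp_inv_eq, Category.assoc, IsMonHom.mul_hom f, ← Category.assoc,
        tensorHom_comp_tensorHom, IsIso.inv_hom_id, id_tensorHom_id, Category.id_comp] }

/-- Reductivity transfers along isomorphisms of groups. -/
theorem isReductive_of_iso {k : Type u} [Field k] {G G' : Over (Spec (CommRingCat.of k))} [GrpObj G] [GrpObj G']
    (f : G' ⟶ G) [IsMonHom f] [IsIso f] (hG : Red.IsReductive G) : Red.IsReductive G' := by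
  obtain ⟨hGa, hGs, hGf⟩ := hG
  haveI := hGa
  haveI := hGs
  haveI : IsIso f.left := inferInstanceAs (IsIso ((Over.forget _).map f))
  refine ⟨by rw [← Over.w f]; infer_instance, by rw [← Over.w f]; infer_instance, fun s => ?_⟩
  let φ := Red.geomPt s
  let g : Red.bc φ G' ⟶ Red.bc φ G := (Over.pullback φ).map f
  obtain ⟨ha, hs, hc, -⟩ := id (hGf s)
  haveI := ha
  haveI := hs
  haveI : IsIso g.left := inferInstanceAs (IsIso ((Over.forget _).map ((Over.pullback φ).map f)))
  haveI : IsAffine (Red.bc φ G').left := .of_isIso g.left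
  haveI : Smooth (Red.bc φ G').hom := by rw [← Over.w g]; infer_instance
  haveI : ConnectedSpace (Red.bc φ G').left := (Scheme.homeoOfIso (asIso g.left)).connectedSpace_iff.2 hc
  haveI : Subsingleton ↥(𝟙_ (Over (Spec (CommRingCat.of
      (AlgebraicClosure ((Spec (CommRingCat.of k)).residueField s)))))).left :=
    inferInstanceAs (Subsingleton (PrimeSpectrum (AlgebraicClosure ((Spec (CommRingCat.of k)).residueField s))))
  exact Groth.Agent.TorPts21.isReductiveOver_of_isogeny g
    ((Set.finite_range _).preimage (Scheme.homeoOfIso (asIso g.left)).injective.injOn) (hGf s)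

/-- A reductive group in characteristic zero is the spectrum of a linearly reductive algebra. -/
theorem exists_model_LR {k : Type u} [Field k] [CharZero k] {G : Over (Spec (CommRingCat.of k))}
    [GrpObj G] (hG : Red.IsReductive G) :
    ∃ (A : Type u) (_ : CommRing A) (_ : HopfAlgebra k A) (ei : G ⟶ CoactBr.sp k A),
      IsIso ei ∧ IsMonHom ei ∧ Algebra.FiniteType k A ∧ HopfRep.IsLinearlyReductive k A := by
  obtain ⟨hGa, hGs, hGc⟩ := Groth.Agent.TorPts21.props_of_isReductive hG
  haveI := hGa
  haveI := hGs
  haveI := hGc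
  obtain ⟨A, _, _, ⟨e⟩⟩ := Groth.Agent.HopfPts19.exists_model G
  let f : CoactBr.sp k A ⟶ G := e.hom.hom.hom
  let g : G ⟶ CoactBr.sp k A := e.inv.hom.hom
  have hfg : g ≫ f = 𝟙 G := congrArg (fun k => k.hom.hom) e.inv_hom_id
  have hgf : f ≫ g = 𝟙 _ := congrArg (fun k => k.hom.hom) e.hom_inv_id
  haveI : IsIso f := ⟨g, hgf, hfg⟩
  haveI : IsMonHom f := e.hom.hom.isMonHom_hom
  haveI : IsIso f.left := inferInstanceAs (IsIso ((Over.forget _).map f))
  have hlft : LocallyOfFiniteType (CoactBr.sp k A).hom := by rw [← Over.w f]; infer_instance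
  haveI hft : Algebra.FiniteType k A :=
    RingHom.finiteType_algebraMap.1 ((HasRingHomProperty.Spec_iff (P := @LocallyOfFiniteType)).1 hlft)
  haveI : ConnectedSpace ↥(Spec (CommRingCat.of A)) := (Scheme.homeoOfIso (asIso f.left)).connectedSpace_iff.2 hGc
  exact ⟨A, inferInstance, inferInstance, inv f, inferInstance, isMonHom_inv f, hft,
    (Groth.Agent.S8082.result k A).1 (isReductive_of_iso f hG)⟩

end Groth.Agent.GITHM15
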