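import Groth.Agent.Lib.GITHM15.PropAct
import Groth.Agent.Lib.GITHM15.Group

/-!
# The properly stable locus is open and the action on it is proper
-/

set_option autoImplicit false
set_option linter.style.haveILetI false
set_option backward.isDefEq.respectTransparency.types false
universe u

open CategoryTheory Limits MonoidalCategory CartesianMonoidalCategory MonObj AlgebraicGeometry TopologicalSpace

noncomputable section

namespace Groth.Agent.GITHM15

open Groth.Agent.WtMu19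
open Groth.Agent.FixLine19 (sp str)

variable {k : Type u} [Field k]

/-- The range of a product of maps. -/
theorem range_tensorHom {R S T U : Over (Spec (CommRingCat.of k))} (f : R ⟶ S) (g : T ⟶ U) :
    Set.range (f ⊗ₘ g).left.base =
      (fst S U).left.base ⁻¹' Set.range f.left.base ∩ (snd S U).left.base ⁻¹' Set.range g.left.base :=
  Scheme.Pullback.range_map (f := R.hom) (g := T.hom) S.hom U.hom f.left g.left (𝟙 _) (by simp) (by simp)

/-- The range of a whiskered map. -/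
theorem range_whiskerLeft {R S T : Over (Spec (CommRingCat.of k))} (f : S ⟶ T) :
    Set.range (R ◁ f).left.base = (snd R T).left.base ⁻¹' Set.range f.left.base := by
  have h := Scheme.Pullback.range_map (f := R.hom) (g := S.hom) R.hom T.hom (𝟙 R.left) f.left (𝟙 _)
    (by simp) (by simp)
  rw [show Set.range (𝟙 R.left : R.left ⟶ R.left).base = Set.univ from Set.range_id, Set.preimage_univ,
    Set.univ_inter] at h
  exact h

theorem isOpenImmersion_tensorHom {R S T U : Over (Spec (CommRingCat.of k))} (f : R ⟶ S) (g : T ⟶ U)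
    [IsOpenImmersion f.left] [IsOpenImmersion g.left] : IsOpenImmersion (f ⊗ₘ g).left :=
  inferInstanceAs (IsOpenImmersion (pullback.map R.hom T.hom S.hom U.hom f.left g.left (𝟙 _) (by simp) (by simp)))

theorem isOpenImmersion_whiskerLeft {R S T : Over (Spec (CommRingCat.of k))} (f : S ⟶ T)
    [IsOpenImmersion f.left] : IsOpenImmersion (R ◁ f).left :=
  inferInstanceAs (IsOpenImmersion (pullback.map R.hom S.hom R.hom T.hom (𝟙 R.left) f.left (𝟙 _) (by simp) (by simp)))

variable [IsAlgClosed k] [CharZero k] {G X : Over (Spec (CommRingCat.of k))} [GrpObj G] {a : AlgGrp.Action G X}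
  (B : GLinSh.LinBun G a)
  {A : Type u} [CommRing A] [HopfAlgebra k A] [Algebra.FiniteType k A]
  (ei : G ⟶ CoactBr.sp k A) [IsIso ei] [IsMonHom ei]

include ei in
/-- The properly stable locus is the union of the good loci. -/
theorem psLocus_eq [IsAffine G.left] [LocallyOfFiniteType G.hom] [LocallyOfFiniteType X.hom]
    [CompactSpace X.left] (hLR : HopfRep.IsLinearlyReductive k A) :
    ((⨆ (W : {W : X.left.Opens // Good B ei W}), W.1 : X.left.Opens) : Set X.left) = B.psLocus := by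
  apply le_antisymm
  · intro x hx
    obtain ⟨W, hW⟩ := Opens.mem_iSup.1 hx
    exact W.2.subset_psLocus B ei hW
  · rintro x ⟨⟨n, f, hn, hf, hxf, U, hU, hUaff, hcl⟩, hfin⟩
    have hUeq : U = nv B n f := Opens.ext (hU.trans (coe_nv B hf.1).symm)
    subst hUeq
    have hxU : x ∈ nv B n f := by
      rw [← coe_nv B hf.1] at hxf
      exact hxf
    obtain ⟨y, hy, hyfin⟩ := exists_kpt_finStab hxU hfin
    obtain ⟨W, hW, -, hyW⟩ := exists_good_nhd B ei hLR hn hf hUaff hcl y (fun p _ => (hy p).2) hyfin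
    exact Opens.mem_iSup.2 ⟨⟨W, hW⟩, (hy (IsLocalRing.closedPoint k)).1.mem_open W.2 (hyW trivial)⟩

set_option maxHeartbeats 1600000 in
include ei in
/-- The orbit map of the union of the good loci is finite. -/
theorem isFinite_psi [IsAffine G.left] [LocallyOfFiniteType G.hom] [LocallyOfFiniteType X.hom]
    (P : X.left.Opens) (hP : P = ⨆ (W : {W : X.left.Opens // Good B ei W}), W.1)
    (aP : AlgGrp.Action G (Over.mk (P.ι ≫ X.hom))) (j : Over.mk (P.ι ≫ X.hom) ⟶ X) (hj : j.left = P.ι)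
    (hcomm : aP.act ≫ j = (G ◁ j) ≫ a.act) :
    IsFinite (GIT.psi aP (𝟙 (Over.mk (P.ι ≫ X.hom)))).left := by
  classical
  let Po : Over (Spec (CommRingCat.of k)) := Over.mk (P.ι ≫ X.hom)
  let I := {q : X.left.Opens × X.left.Opens // Good B ei q.1 ∧ IsAffineOpen q.2 ∧
    (∃ U : X.left.Opens, q.2 ≤ U ∧ (B.atlas.chart U).Nonempty) ∧ ∃ W : X.left.Opens, Good B ei W ∧ q.2 ≤ W}
  let O : I → (Po ⊗ Po).left.Opens := fun i =>
    (fst Po Po).left ⁻¹ᵁ (j.left ⁻¹ᵁ i.1.1) ⊓ (snd Po Po).left ⁻¹ᵁ (j.left ⁻¹ᵁ i.1.2)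
  have hmem : ∀ z : Po.left, ∃ W, Good B ei W ∧ j.left z ∈ W := fun z => by
    have hz : P.ι z ∈ P := z.2
    rw [hj]
    simp only [hP] at hz
    obtain ⟨W, hW⟩ := Opens.mem_iSup.1 hz
    exact ⟨W.1, W.2, hW⟩
  refine IsZariskiLocalAtTarget.of_iSup_eq_top (P := @IsFinite) O ?_ fun i => ?_
  · refine eq_top_iff.2 fun z _ => ?_
    obtain ⟨W₁, hW₁, hz₁⟩ := hmem ((fst Po Po).left z)
    obtain ⟨W₂, hW₂, hz₂⟩ := hmem ((snd Po Po).left z)
    obtain ⟨U, hzU, hne⟩ := B.atlas.cover (j.left ((snd Po Po).left z))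
    obtain ⟨W', hW', hzW', hle⟩ := exists_isAffineOpen_mem_and_subset (X := X.left)
      (x := j.left ((snd Po Po).left z)) (U := U ⊓ W₂) ⟨hzU, hz₂⟩
    exact Opens.mem_iSup.2 ⟨⟨(W₁, W'), hW₁, hW', ⟨U, fun q hq => (hle hq).1, hne⟩, W₂, hW₂,
      fun q hq => (hle hq).2⟩, hz₁, hzW'⟩
  · obtain ⟨hW₁, hW', ⟨U, hW'U, y, hy⟩, W₂, hW₂, hW'2⟩ := i.2
    set W₁ := i.1.1 with hW₁def
    set W' := i.1.2 with hW'def
    have hle₁ : W₁ ≤ P := hP ▸ le_iSup (fun W : {W : X.left.Opens // Good B ei W} => W.1) ⟨W₁, hW₁⟩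
    have hle' : W' ≤ P := hP ▸ hW'2.trans (le_iSup (fun W : {W : X.left.Opens // Good B ei W} => W.1) ⟨W₂, hW₂⟩)
    obtain ⟨N₁, κ₁, _, b₁, m₁, d₁, D₁, -, -, -, -, -, hf₁, -, hW₁eq⟩ := id hW₁
    obtain ⟨N₂, κ₂, _, b₂, m₂, d₂, D₂, hn₂, -, -, -, -, hf₂, -, rfl⟩ := hW₂
    obtain ⟨hUo, hUoj, hfin⟩ := isFinite_orbit_chart B ei hW₁ hn₂ hf₂ hy hW' hW'U hW'2
    let To : Over (Spec (CommRingCat.of k)) := Over.mk ((W₁ ⊓ W').ι ≫ X.hom)
    let ι₁ : To ⟶ Po := Over.homMk (X.left.homOfLE (inf_le_left.trans hle₁ : W₁ ⊓ W' ≤ P)) (by simp [To, Po])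
    let ι₂ : Over.mk (W₁.ι ≫ X.hom) ⟶ Po := Over.homMk (X.left.homOfLE hle₁) (by simp [Po])
    let ι₃ : Over.mk (W'.ι ≫ X.hom) ⟶ Po := Over.homMk (X.left.homOfLE hle') (by simp [Po])
    haveI : IsOpenImmersion ι₁.left := inferInstanceAs (IsOpenImmersion (X.left.homOfLE (inf_le_left.trans hle₁ : W₁ ⊓ W' ≤ P)))
    haveI : IsOpenImmersion ι₂.left := inferInstanceAs (IsOpenImmersion (X.left.homOfLE hle₁))
    haveI : IsOpenImmersion ι₃.left := inferInstanceAs (IsOpenImmersion (X.left.homOfLE hle'))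
    haveI := isOpenImmersion_whiskerLeft (R := G) ι₁
    haveI := isOpenImmersion_tensorHom ι₂ ι₃
    haveI : Mono j := ⟨fun g g' hg => Over.OverMorphism.ext ((cancel_mono P.ι).1
      ((congrArg (g.left ≫ ·) hj).symm.trans ((congrArg (fun q => CommaMorphism.left q) hg).trans
        (congrArg (g'.left ≫ ·) hj))))⟩
    set h := lift hUo (snd G To ≫ (Over.homMk (X.left.homOfLE (inf_le_right : W₁ ⊓ W' ≤ W')) (by simp [To]) :
      To ⟶ Over.mk (W'.ι ≫ X.hom))) with hh
    have hjι₁ : ι₁ ≫ j = Over.homMk (W₁ ⊓ W').ι rfl :=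
      Over.OverMorphism.ext ((congrArg (ι₁.left ≫ ·) hj).trans (X.left.homOfLE_ι (inf_le_left.trans hle₁ : W₁ ⊓ W' ≤ P)))
    have hjι₂ : ι₂ ≫ j = Over.homMk W₁.ι rfl :=
      Over.OverMorphism.ext ((congrArg (ι₂.left ≫ ·) hj).trans (X.left.homOfLE_ι hle₁))
    have hsq : (G ◁ ι₁) ≫ GIT.psi aP (𝟙 Po) = h ≫ (ι₂ ⊗ₘ ι₃) := by
      rw [hh, GIT.psi, lift_map, comp_lift]
      ext1
      · simp only [lift_fst]
        rw [← cancel_mono j, Category.assoc, Category.assoc, Category.assoc, hjι₂, hUoj, whiskerLeft_id,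
          Category.id_comp, hcomm, ← Category.assoc, ← whiskerLeft_comp, hjι₁]
      · simp only [lift_snd, whiskerLeft_snd, Category.assoc]
        refine Eq.trans (congrArg (snd G To ≫ ·) ?_) (lift_snd _ _).symm
        exact Over.OverMorphism.ext (X.left.homOfLE_homOfLE (inf_le_right : W₁ ⊓ W' ≤ W') hle').symm
    have hrange : (GIT.psi aP (𝟙 Po)).left ⁻¹ᵁ (ι₂ ⊗ₘ ι₃).left.opensRange = (G ◁ ι₁).left.opensRange := by
      refine Opens.ext ?_
      show (GIT.psi aP (𝟙 Po)).left.base ⁻¹' Set.range (ι₂ ⊗ₘ ι₃).left.base = Set.range (G ◁ ι₁).left.base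
      rw [range_tensorHom, range_whiskerLeft]
      have hr : ∀ {W : X.left.Opens} (hW : W ≤ P), Set.range (X.left.homOfLE hW).base = P.ι.base ⁻¹' (W : Set X.left) := by
        intro W hW
        have := congrArg (fun O : P.toScheme.Opens => (O : Set P.toScheme)) (Scheme.opensRange_homOfLE hW)
        exact this
      have hr₁ := hr (inf_le_left.trans hle₁ : W₁ ⊓ W' ≤ P)
      have hr₂ := hr hle₁
      have hr₃ := hr hle'
      ext z
      show ((fst Po Po).left ((GIT.psi aP (𝟙 Po)).left z) ∈ Set.range (X.left.homOfLE hle₁).base ∧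
          (snd Po Po).left ((GIT.psi aP (𝟙 Po)).left z) ∈ Set.range (X.left.homOfLE hle').base) ↔
        (snd G Po).left z ∈ Set.range (X.left.homOfLE (inf_le_left.trans hle₁ : W₁ ⊓ W' ≤ P)).base
      rw [hr₁, hr₂, hr₃]
      have h1 : j.left ((fst Po Po).left ((GIT.psi aP (𝟙 Po)).left z)) = a.act.left ((G ◁ j).left z) := by
        show (GIT.psi aP (𝟙 Po) ≫ fst Po Po ≫ j).left z = ((G ◁ j) ≫ a.act).left z
        rw [GIT.psi, lift_fst_assoc, whiskerLeft_id, Category.id_comp, hcomm]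
      have h2 : (snd Po Po).left ((GIT.psi aP (𝟙 Po)).left z) = (snd G Po).left z := by
        show (GIT.psi aP (𝟙 Po) ≫ snd Po Po).left z = _
        rw [GIT.psi, lift_snd]
      have h3 : (snd G X).left ((G ◁ j).left z) = j.left ((snd G Po).left z) := by
        show ((G ◁ j) ≫ snd G X).left z = _
        rw [whiskerLeft_snd]
        rfl
      have hinv : a.act.left ((G ◁ j).left z) ∈ W₁ ↔ j.left ((snd G Po).left z) ∈ W₁ := by
        rw [← h3, hW₁eq]
        show _ ∈ (nv B _ _ : Set X.left) ↔ _ ∈ (nv B _ _ : Set X.left)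
        rw [coe_nv B hf₁.1]
        exact Set.ext_iff.1 (act_preimage_nonvanishing B hf₁.2) _
      simp only [Set.mem_preimage, SetLike.mem_coe, Opens.coe_inf, Set.mem_inter_iff, h2]
      have hj' : ∀ q, P.ι q = j.left q := fun q => (congrArg (fun f : _ ⟶ X.left => f q) hj).symm
      simp only [hj', h1, hinv]
    have hpb := IsOpenImmersion.isPullback h.left (G ◁ ι₁).left (ι₂ ⊗ₘ ι₃).left (GIT.psi aP (𝟙 Po)).left
      (by rw [← Over.comp_left, ← Over.comp_left, hsq]) hrange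
    have hO : O i =
          (ι₂ ⊗ₘ ι₃).left.opensRange := by
      refine Opens.ext ?_
      show ((fst Po Po).left.base ⁻¹' (j.left.base ⁻¹' (W₁ : Set X.left))) ∩
        ((snd Po Po).left.base ⁻¹' (j.left.base ⁻¹' (W' : Set X.left))) = Set.range (ι₂ ⊗ₘ ι₃).left.base
      rw [range_tensorHom, show Set.range ι₂.left.base = P.ι.base ⁻¹' (W₁ : Set X.left) from
          congrArg (fun O : P.toScheme.Opens => (O : Set P.toScheme)) (Scheme.opensRange_homOfLE hle₁),
        show Set.range ι₃.left.base = P.ι.base ⁻¹' (W' : Set X.left) from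
          congrArg (fun O : P.toScheme.Opens => (O : Set P.toScheme)) (Scheme.opensRange_homOfLE hle'), hj]
    rw [hO]
    have hres := isPullback_morphismRestrict (GIT.psi aP (𝟙 Po)).left (ι₂ ⊗ₘ ι₃).left.opensRange
    let e := IsOpenImmersion.isoOfRangeEq (ι₂ ⊗ₘ ι₃).left (ι₂ ⊗ₘ ι₃).left.opensRange.ι
      (by rw [Scheme.Opens.range_ι]; rfl)
    have hpb' : IsPullback (h.left ≫ e.hom) (G ◁ ι₁).left (ι₂ ⊗ₘ ι₃).left.opensRange.ι (GIT.psi aP (𝟙 Po)).left :=
      hpb.of_iso (Iso.refl _) e (Iso.refl _) (Iso.refl _) (by simp) (by simp)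
        (by simp [e, IsOpenImmersion.isoOfRangeEq_hom_fac]) (by simp)
    rw [← hpb'.isoIsPullback_inv_fst _ _ hres, MorphismProperty.cancel_left_of_respectsIso (P := @IsFinite),
      MorphismProperty.cancel_right_of_respectsIso (P := @IsFinite)]
    exact hfin

end Groth.Agent.GITHM15
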