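import Groth.Agent.Lib.GITHM15.Weight
import Mathlib.AlgebraicGeometry.ResidueField
import Mathlib.AlgebraicGeometry.Morphisms.Affine
import Mathlib.AlgebraicGeometry.Morphisms.Separated

/-!
# Non-vanishing loci of weight functions, ratios, affineness
-/

set_option autoImplicit false
set_option linter.style.haveILetI false
set_option backward.isDefEq.respectTransparency.types false
universe u

open CategoryTheory Limits MonoidalCategory CartesianMonoidalCategory MonObj AlgebraicGeometry TopologicalSpace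
  Opposite

noncomputable section

namespace Groth.Agent.GITHM15

open Groth.Agent.WtMu19
open Groth.Agent.FixLine19 (sp str)

attribute [local instance] HomSch19.algW

variable {k : Type u} [Field k] {G X : Over (Spec (CommRingCat.of k))} [GrpObj G] {a : AlgGrp.Action G X}
  (B : GLinSh.LinBun G a)

theorem res_rfl {U : X.left.Opens} (y : Γ(B.V.left, B.π.left ⁻¹ᵁ U)) : GLinSh.res B.π (le_refl U) y = y :=
  ConcreteCategory.congr_hom (B.V.left.presheaf.map_id (op (B.π.left ⁻¹ᵁ U))) y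

theorem resX_rfl {U : X.left.Opens} (c : Γ(X.left, U)) : resX (le_refl U) c = c :=
  ConcreteCategory.congr_hom (X.left.presheaf.map_id (op U)) c

theorem basicOpen_resX {U W : X.left.Opens} (h : W ≤ U) (c : Γ(X.left, U)) :
    X.left.basicOpen (resX h c) = W ⊓ X.left.basicOpen c :=
  X.left.basicOpen_res c (homOfLE h).op

/-- The change of coefficient between two coordinates. -/
theorem exists_coef_change {U U' : X.left.Opens} {y : Γ(B.V.left, B.π.left ⁻¹ᵁ U)}
    {y' : Γ(B.V.left, B.π.left ⁻¹ᵁ U')} (hy : y ∈ B.atlas.chart U) (hy' : y' ∈ B.atlas.chart U') :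
    ∃ u : Γ(X.left, U ⊓ U'), IsUnit u ∧ ∀ (n : ℕ) (f : Γ(B.V.left, ⊤)) (c : Γ(X.left, U)) (c' : Γ(X.left, U')),
      Coef B n f y le_rfl c → Coef B n f y' le_rfl c' →
        resX inf_le_left c = resX inf_le_right c' * u ^ n := by
  obtain ⟨u, hu, he⟩ := B.atlas.linear U U' y y' hy hy'
  refine ⟨u, hu, fun n f c c' hc hc' => (hc.res B inf_le_left).unique B hy ?_⟩
  have h := hc'.res B (inf_le_right : U ⊓ U' ≤ U')
  rw [Coef] at h ⊢
  rw [h, he, map_mul, map_pow, mul_pow, _root_.mul_assoc]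

/-- The open where a weight function does not vanish. -/
def nv (n : ℕ) (f : Γ(B.V.left, ⊤)) : X.left.Opens :=
  ⨆ (U : X.left.Opens) (y : Γ(B.V.left, B.π.left ⁻¹ᵁ U)) (_ : y ∈ B.atlas.chart U) (c : Γ(X.left, U))
    (_ : Coef B n f y le_rfl c), X.left.basicOpen c

theorem mem_nv {n : ℕ} {f : Γ(B.V.left, ⊤)} {z : X.left} :
    z ∈ nv B n f ↔ ∃ (U : X.left.Opens) (y : Γ(B.V.left, B.π.left ⁻¹ᵁ U)) (_ : y ∈ B.atlas.chart U)
      (c : Γ(X.left, U)), Coef B n f y le_rfl c ∧ z ∈ X.left.basicOpen c := by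
  simp only [nv, Opens.mem_iSup, exists_prop]

/-- In a coordinate the non-vanishing locus is the basic open of the coefficient. -/
theorem nv_inf {n : ℕ} {f : Γ(B.V.left, ⊤)} {U : X.left.Opens} {y : Γ(B.V.left, B.π.left ⁻¹ᵁ U)}
    (hy : y ∈ B.atlas.chart U) {c : Γ(X.left, U)} (hc : Coef B n f y le_rfl c) :
    U ⊓ nv B n f = X.left.basicOpen c := by
  refine le_antisymm ?_ (le_inf (X.left.basicOpen_le c) fun z hz => (mem_nv B).2 ⟨U, y, hy, c, hc, hz⟩)
  rintro z ⟨hzU, hz⟩
  obtain ⟨U', y', hy', c', hc', hz'⟩ := (mem_nv B).1 hz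
  have hzU' : z ∈ U ⊓ U' := ⟨hzU, X.left.basicOpen_le c' hz'⟩
  obtain ⟨u, hu, he⟩ := exists_coef_change B hy hy'
  have h1 : z ∈ X.left.basicOpen (resX (inf_le_left : U ⊓ U' ≤ U) c) := by
    rw [he n f c c' hc hc', Scheme.basicOpen_mul]
    refine ⟨?_, ?_⟩
    · rw [basicOpen_resX]; exact ⟨hzU', hz'⟩
    · rw [Scheme.basicOpen_of_isUnit _ (hu.pow n)]; exact hzU'
  rw [basicOpen_resX] at h1
  exact h1.2

theorem exists_chart_coef {n : ℕ} {f : Γ(B.V.left, ⊤)} (hf : GLinSh.HasWeight B.atlas.chart n f) (z : X.left) :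
    ∃ (U : X.left.Opens) (y : Γ(B.V.left, B.π.left ⁻¹ᵁ U)) (_ : y ∈ B.atlas.chart U) (c : Γ(X.left, U)),
      Coef B n f y le_rfl c ∧ z ∈ U := by
  obtain ⟨U, hzU, y, hy⟩ := B.atlas.cover z
  obtain ⟨c, hc⟩ := coef_of_hasWeight B hf hy
  exact ⟨U, y, hy, c, hc, hzU⟩

set_option maxHeartbeats 800000 in
/-- The non-vanishing locus of the definition is this open. -/
theorem coe_nv {n : ℕ} {f : Γ(B.V.left, ⊤)} (hf : GLinSh.HasWeight B.atlas.chart n f) :
    (nv B n f : Set X.left) = GLinSh.nonvanishing B.π f := by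
  ext z
  constructor
  · intro hz
    obtain ⟨U, y, hy, c, hc, hzc⟩ := (mem_nv B).1 hz
    let R := X.left.residueField z
    let pm : Spec R ⟶ X.left := X.left.fromSpecResidueField z
    letI : Algebra k R := (Spec.preimage (pm ≫ X.hom)).hom.toAlgebra
    let p : sp (k := k) R ⟶ X := Over.homMk pm (Spec.map_preimage (pm ≫ X.hom)).symm
    have hzp : ∀ t, p.left t = z := fun t => Scheme.fromSpecResidueField_apply z t
    have hpW : ∀ W : X.left.Opens, z ∈ W → p.left ⁻¹ᵁ W = ⊤ := fun W hW => eq_top_iff.2 fun t _ => by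
      show p.left t ∈ W
      rw [hzp]; exact hW
    obtain ⟨v, hv, h, he⟩ := exists_pt_coord B hy p (hpW U (X.left.basicOpen_le c hzc)) 1
    let t : (sp (k := k) R).left := IsLocalRing.closedPoint R
    refine ⟨v.left t, ?_, (show (v ≫ B.π).left t = z by rw [hv]; exact hzp t)⟩
    show t ∈ v.left ⁻¹ᵁ B.V.left.basicOpen f
    rw [Scheme.preimage_basicOpen_top, appTop_of_weight B ((coef_iff B).1 hc) v h, he, one_pow, _root_.mul_one,
      show (v ≫ B.π).left.appLE U ⊤ h c = p.left.appLE U ⊤ (hpW U (X.left.basicOpen_le c hzc)).ge c from by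
        rw [HMNum19.appLE_congr (congrArg (fun q : sp (k := k) R ⟶ X => q.left) hv) h]]
    rw [Scheme.Hom.appLE, CommRingCat.comp_apply]
    erw [Scheme.basicOpen_res]
    refine ⟨trivial, ?_⟩
    rw [← Scheme.preimage_basicOpen]
    show p.left t ∈ X.left.basicOpen c
    rw [hzp]
    exact hzc
  · rintro ⟨w, hw, rfl⟩
    obtain ⟨U, y, hy, c, hc, hzU⟩ := exists_chart_coef B hf (B.π.left w)
    refine (mem_nv B).2 ⟨U, y, hy, c, hc, ?_⟩
    have h1 : w ∈ B.V.left.basicOpen (GLinSh.resTop B.π U f) := by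
      rw [GLinSh.resTop, Scheme.basicOpen_res]
      exact ⟨hzU, hw⟩
    rw [(coef_iff B).1 hc, Scheme.basicOpen_mul] at h1
    have h2 : w ∈ B.π.left ⁻¹ᵁ X.left.basicOpen c := by rw [Scheme.preimage_basicOpen]; exact h1.1
    exact h2

theorem nv_mul {n n' : ℕ} {f f' : Γ(B.V.left, ⊤)} (hf : GLinSh.HasWeight B.atlas.chart n f)
    (hf' : GLinSh.HasWeight B.atlas.chart n' f') : nv B (n + n') (f * f') = nv B n f ⊓ nv B n' f' := by
  have key : ∀ {U : X.left.Opens} {y : Γ(B.V.left, B.π.left ⁻¹ᵁ U)} (_ : y ∈ B.atlas.chart U)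
      {c c' : Γ(X.left, U)}, Coef B n f y le_rfl c → Coef B n' f' y le_rfl c' →
      U ⊓ nv B (n + n') (f * f') = U ⊓ (nv B n f ⊓ nv B n' f') := by
    intro U y hy c c' hc hc'
    have hcc : Coef B (n + n') (f * f') y le_rfl (c * c') := by
      rw [coef_iff] at hc hc' ⊢
      refine (map_mul (B.V.left.presheaf.map _).hom f f').trans ((congrArg₂ (· * ·) hc hc').trans ?_)
      rw [map_mul, pow_add]
      ring
    rw [nv_inf B hy hcc, Scheme.basicOpen_mul, inf_inf_distrib_left, nv_inf B hy hc, nv_inf B hy hc']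
  ext z
  obtain ⟨U, y, hy, c, hc, hzU⟩ := exists_chart_coef B hf z
  obtain ⟨c', hc'⟩ := coef_of_hasWeight B hf' hy
  constructor
  · intro hz
    exact ((key hy hc hc').le ⟨hzU, hz⟩).2
  · intro hz
    exact ((key hy hc hc').ge ⟨hzU, hz⟩).2

/-- The ratio of two functions of the same weight. -/
theorem exists_ratio {M : ℕ} {g h : Γ(B.V.left, ⊤)} (hg : GLinSh.HasWeight B.atlas.chart M g)
    (hh : GLinSh.HasWeight B.atlas.chart M h) :
    ∃ r : Γ(X.left, nv B M g), X.left.basicOpen r = nv B M g ⊓ nv B M h ∧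
      ∀ (U : X.left.Opens) (y : Γ(B.V.left, B.π.left ⁻¹ᵁ U)), y ∈ B.atlas.chart U →
        ∀ c c' : Γ(X.left, U), Coef B M g y le_rfl c → Coef B M h y le_rfl c' →
          resX (inf_le_right : U ⊓ nv B M g ≤ nv B M g) r * resX inf_le_left c = resX inf_le_left c' := by
  let I := Σ U : X.left.Opens, {y : Γ(B.V.left, B.π.left ⁻¹ᵁ U) // y ∈ B.atlas.chart U}
  choose cg hcg using fun i : I => coef_of_hasWeight B hg i.2.2
  choose ch hch using fun i : I => coef_of_hasWeight B hh i.2.2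
  let W : I → X.left.Opens := fun i => i.1 ⊓ nv B M g
  have hunit : ∀ i : I, IsUnit (resX (inf_le_left : W i ≤ i.1) (cg i)) := fun i => by
    have e : resX (inf_le_left : W i ≤ i.1) (cg i) =
        resX (le_of_eq (nv_inf B i.2.2 (hcg i))) (resX (X.left.basicOpen_le (cg i)) (cg i)) :=
      (resX_resX _ _ _).symm
    rw [e]
    exact (RingedSpace.isUnit_res_basicOpen _ (cg i)).map _
  let r : ∀ i, Γ(X.left, W i) := fun i =>
    resX (inf_le_left : W i ≤ i.1) (ch i) * ((hunit i).unit⁻¹ : (Γ(X.left, W i))ˣ)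
  have hr : ∀ i, r i * resX (inf_le_left : W i ≤ i.1) (cg i) = resX (inf_le_left : W i ≤ i.1) (ch i) := fun i => by
    simp only [r]
    rw [_root_.mul_assoc, IsUnit.val_inv_mul, _root_.mul_one]
  have hcov : nv B M g ≤ iSup W := fun z hz => by
    obtain ⟨U, hzU, y, hy⟩ := B.atlas.cover z
    exact Opens.mem_iSup.2 ⟨⟨U, y, hy⟩, hzU, hz⟩
  obtain ⟨s, hs, -⟩ := TopCat.Sheaf.existsUnique_gluing' X.left.sheaf W (nv B M g)
    (fun i => homOfLE inf_le_right) hcov r fun i j => by
      show resX inf_le_left (r i) = resX inf_le_right (r j)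
      obtain ⟨v, hv, he⟩ := exists_coef_change B i.2.2 j.2.2
      have hle : W i ⊓ W j ≤ i.1 ⊓ j.1 := le_inf (inf_le_left.trans inf_le_left) (inf_le_right.trans inf_le_left)
      have hg' := congrArg (resX hle) (he M g _ _ (hcg i) (hcg j))
      have hh' := congrArg (resX hle) (he M h _ _ (hch i) (hch j))
      have hi := congrArg (resX (inf_le_left : W i ⊓ W j ≤ W i)) (hr i)
      have hj := congrArg (resX (inf_le_right : W i ⊓ W j ≤ W j)) (hr j)
      simp only [resX, map_mul] at hg' hh' hi hj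
      simp only [← CommRingCat.comp_apply, ← Functor.map_comp] at hg' hh' hi hj
      have hu := (hunit i).map (X.left.presheaf.map (homOfLE (inf_le_left : W i ⊓ W j ≤ W i)).op).hom
      refine hu.mul_right_cancel ?_
      simp only [resX, ← CommRingCat.comp_apply, ← Functor.map_comp]
      refine hi.trans (hh'.trans (Eq.trans ?_ (congrArg (fun t => _ * t) hg').symm))
      rw [← _root_.mul_assoc]
      exact congrArg (· * _) hj.symm
  have hsr : ∀ (U : X.left.Opens) (y : Γ(B.V.left, B.π.left ⁻¹ᵁ U)) (hy : y ∈ B.atlas.chart U),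
      ∀ c c' : Γ(X.left, U), Coef B M g y le_rfl c → Coef B M h y le_rfl c' →
        resX (inf_le_right : U ⊓ nv B M g ≤ nv B M g) s * resX inf_le_left c = resX inf_le_left c' := by
    intro U y hy c c' hc hc'
    obtain rfl := hc.unique B hy (hcg ⟨U, y, hy⟩)
    obtain rfl := hc'.unique B hy (hch ⟨U, y, hy⟩)
    rw [show resX (inf_le_right : U ⊓ nv B M g ≤ nv B M g) s = r ⟨U, y, hy⟩ from hs ⟨U, y, hy⟩]
    exact hr ⟨U, y, hy⟩
  refine ⟨s, ?_, hsr⟩
  have key : ∀ i : I, i.1 ⊓ X.left.basicOpen s = i.1 ⊓ (nv B M g ⊓ nv B M h) := fun i => by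
    have e1 := congrArg X.left.basicOpen (hsr i.1 i.2.1 i.2.2 _ _ (hcg i) (hch i))
    rw [Scheme.basicOpen_mul, basicOpen_resX, basicOpen_resX, basicOpen_resX, ← nv_inf B i.2.2 (hcg i),
      ← nv_inf B i.2.2 (hch i)] at e1
    have e2 := X.left.basicOpen_le s
    apply le_antisymm
    · intro z ⟨hzi, hz⟩
      exact ⟨hzi, e2 hz, (e1.le ⟨⟨⟨hzi, e2 hz⟩, hz⟩, ⟨hzi, e2 hz⟩, hzi, e2 hz⟩).2.2⟩
    · intro z ⟨hzi, hzg, hzh⟩
      exact ⟨hzi, (e1.ge ⟨⟨hzi, hzg⟩, hzi, hzh⟩).1.2⟩
  ext z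
  obtain ⟨U, hzU, y, hy⟩ := B.atlas.cover z
  constructor
  · intro hz; exact ((key ⟨U, y, hy⟩).le ⟨hzU, hz⟩).2
  · intro hz; exact ((key ⟨U, y, hy⟩).ge ⟨hzU, hz⟩).2

/-- A basic open of an affine non-vanishing locus. -/
theorem isAffineOpen_nv_inf {M : ℕ} {g h : Γ(B.V.left, ⊤)} (hg : GLinSh.HasWeight B.atlas.chart M g)
    (hh : GLinSh.HasWeight B.atlas.chart M h) (ha : IsAffineOpen (nv B M g)) :
    IsAffineOpen (nv B M g ⊓ nv B M h) := by
  obtain ⟨r, hr, -⟩ := exists_ratio B hg hh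
  rw [← hr]
  exact ha.basicOpen r

/-- The non-vanishing locus of a combination is affine when its intersection with each summand's is. -/
theorem isAffineOpen_nv_sum {M : ℕ} {κ : Type*} (S : Finset κ) (m : κ → Γ(B.V.left, ⊤)) (b : κ → k)
    (hm : ∀ j, GLinSh.HasWeight B.atlas.chart M (m j)) {f : Γ(B.V.left, ⊤)}
    (hfs : f = ∑ j ∈ S, str B.V (b j) * m j) (hf : GLinSh.HasWeight B.atlas.chart M f)
    (ha : ∀ j ∈ S, IsAffineOpen (nv B M f ⊓ nv B M (m j))) : IsAffineOpen (nv B M f) := by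
  choose r hr hr' using fun j => exists_ratio B hf (hm j)
  refine isAffineOpen_of_isAffineOpen_basicOpen (nv B M f) (r '' ↑S) ?_ ?_
  · have h1 : (∑ j ∈ S, resX le_top (str X (b j)) * r j) = 1 := by
      let I := Σ U : X.left.Opens, {y : Γ(B.V.left, B.π.left ⁻¹ᵁ U) // y ∈ B.atlas.chart U}
      refine TopCat.Sheaf.eq_of_locally_eq' X.left.sheaf (fun i : I => i.1 ⊓ nv B M f) (nv B M f)
        (fun i => homOfLE inf_le_right) ?_ _ _ fun i => ?_
      · intro z hz
        obtain ⟨U, hzU, y, hy⟩ := B.atlas.cover z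
        exact Opens.mem_iSup.2 ⟨⟨U, y, hy⟩, hzU, hz⟩
      · obtain ⟨c, hc⟩ := coef_of_hasWeight B hf i.2.2
        choose d hd using fun j => coef_of_hasWeight B (hm j) i.2.2
        have hsum : c = ∑ j ∈ S, resX le_top (str X (b j)) * d j := by
          refine hc.unique B i.2.2 ((coef_iff B).2 ?_)
          rw [hfs, GLinSh.resTop, map_sum, map_sum, Finset.sum_mul]
          refine Finset.sum_congr rfl fun j _ => ?_
          refine (map_mul (B.V.left.presheaf.map _).hom _ (m j)).trans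
            ((congrArg₂ (· * ·) rfl ((coef_iff B).1 (hd j))).trans ?_)
          rw [map_mul, _root_.mul_assoc]
          congr 1
          rw [← str_nat B.π (b j)]
          exact (ConcreteCategory.congr_hom (B.π.left.naturality (homOfLE le_top).op) (str X (b j))).symm
        have hu : IsUnit (resX (inf_le_left : i.1 ⊓ nv B M f ≤ i.1) c) := by
          rw [show resX (inf_le_left : i.1 ⊓ nv B M f ≤ i.1) c =
            resX (le_of_eq (nv_inf B i.2.2 hc)) (resX (X.left.basicOpen_le c) c) from (resX_resX _ _ _).symm]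
          exact (RingedSpace.isUnit_res_basicOpen _ c).map _
        refine hu.mul_right_cancel ?_
        show resX (inf_le_right : i.1 ⊓ nv B M f ≤ nv B M f) (∑ j ∈ S, resX le_top (str X (b j)) * r j) * _ =
          resX (inf_le_right : i.1 ⊓ nv B M f ≤ nv B M f) 1 * _
        rw [show resX (inf_le_right : i.1 ⊓ nv B M f ≤ nv B M f) (1 : Γ(X.left, nv B M f)) = 1 from map_one _,
          _root_.one_mul, resX, map_sum, Finset.sum_mul]
        conv_rhs => rw [hsum, resX, map_sum]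
        refine Finset.sum_congr rfl fun j _ => ?_
        rw [map_mul, map_mul]
        have e := hr' j i.1 i.2.1 i.2.2 _ _ hc (hd j)
        rw [_root_.mul_assoc]
        simp only [resX] at e ⊢
        rw [e]
        congr 1
        exact (resX_resX _ _ _).trans (resX_resX _ _ _).symm
    rw [Ideal.eq_top_iff_one, ← h1]
    exact Ideal.sum_mem _ fun j hj => Ideal.mul_mem_left _ _ (Ideal.subset_span ⟨j, hj, rfl⟩)
  · rintro _ ⟨j, hj, rfl⟩
    rw [hr j]
    exact ha j hj

/-- A product of functions with affine loci, intersected with a locus affine inside each factor's. -/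
theorem isAffineOpen_inf_nv_prod [X.left.IsSeparated] {N M : ℕ} {κ : Type*} (g : κ → Γ(B.V.left, ⊤))
    (hg : ∀ i, GLinSh.HasWeight B.atlas.chart N (g i)) (O : X.left.Opens)
    (hO : ∀ i, IsAffineOpen (O ⊓ nv B N (g i))) (J : Multiset κ) (hJ : J ≠ 0) (hM : M = J.card * N) :
    GLinSh.HasWeight B.atlas.chart M (J.map g).prod ∧ IsAffineOpen (O ⊓ nv B M (J.map g).prod) := by
  subst hM
  induction J using Multiset.induction_on with
  | empty => exact absurd rfl hJ
  | cons i J ih =>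
    rw [Multiset.map_cons, Multiset.prod_cons, Multiset.card_cons, Nat.succ_mul, Nat.add_comm]
    rcases eq_or_ne J 0 with rfl | hJ'
    · simpa using And.intro (hg i) (hO i)
    · obtain ⟨h1, h2⟩ := ih hJ'
      refine ⟨HasWeight.mul B (hg i) h1, ?_⟩
      rw [nv_mul B (hg i) h1, show O ⊓ (nv B N (g i) ⊓ nv B (J.card * N) (J.map g).prod) =
        (O ⊓ nv B N (g i)) ⊓ (O ⊓ nv B (J.card * N) (J.map g).prod) by rw [inf_inf_inf_comm, inf_idem]]
      exact (hO i).inf h2

end Groth.Agent.GITHM15
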