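import Groth.Agent.Lib.GITHM15.Setup
import Mathlib.AlgebraicGeometry.Noetherian
import Mathlib.AlgebraicGeometry.Morphisms.FiniteType

/-!
# Functions on the locus of a weight function extend after multiplying by a power
-/

set_option autoImplicit false
set_option linter.style.haveILetI false
set_option backward.isDefEq.respectTransparency.types false
universe u

open CategoryTheory Limits MonoidalCategory CartesianMonoidalCategory MonObj AlgebraicGeometry TopologicalSpace

noncomputable section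

namespace Groth.Agent.GITHM15

open Groth.Agent.WtMu19
open Groth.Agent.FixLine19 (sp str)

attribute [local instance] HomSch19.algW

variable {k : Type u} [Field k] {G X : Over (Spec (CommRingCat.of k))} [GrpObj G] {a : AlgGrp.Action G X}
  (B : GLinSh.LinBun G a)

/-- A function with coefficients on a cover by coordinate domains has weight. -/
theorem hasWeight_of_cover {N : ℕ} {g : Γ(B.V.left, ⊤)} {J : Type*} (W U : J → X.left.Opens)
    (hcov : ∀ z : X.left, ∃ i, z ∈ W i) (hWU : ∀ i, W i ≤ U i) (y : ∀ i, Γ(B.V.left, B.π.left ⁻¹ᵁ U i))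
    (hy : ∀ i, y i ∈ B.atlas.chart (U i)) (d : ∀ i, Γ(X.left, W i)) (hd : ∀ i, Coef B N g (y i) (hWU i) (d i)) :
    GLinSh.HasWeight B.atlas.chart N g := by
  intro U' y' hy'
  have hloc : ∀ i, ∃ c : Γ(X.left, W i ⊓ U'), Coef B N g y' inf_le_right c := by
    intro i
    obtain ⟨u, hu, he⟩ := B.atlas.linear U' (U i) y' (y i) hy' (hy i)
    refine ⟨resX inf_le_left (d i) * resX (le_inf inf_le_right (inf_le_left.trans (hWU i))) u ^ N, ?_⟩
    have h := (hd i).res B (inf_le_left : W i ⊓ U' ≤ W i)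
    have e := congrArg (GLinSh.res B.π (le_inf inf_le_right (inf_le_left.trans (hWU i)) : W i ⊓ U' ≤ U' ⊓ U i)) he
    rw [res_mul, res_res, res_res] at e
    erw [res_app] at e
    rw [Coef] at h ⊢
    rw [h, e, map_mul, map_pow, mul_pow, _root_.mul_assoc]
  choose c hc using hloc
  have hcv : U' ≤ iSup fun i => W i ⊓ U' := fun z hz => by
    obtain ⟨i, hi⟩ := hcov z
    exact Opens.mem_iSup.2 ⟨i, hi, hz⟩
  obtain ⟨s, hs, -⟩ := TopCat.Sheaf.existsUnique_gluing' X.left.sheaf (fun i => W i ⊓ U') U'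
    (fun i => homOfLE inf_le_right) hcv c fun i j =>
      ((hc i).res B inf_le_left).unique B hy' ((hc j).res B inf_le_right)
  refine ⟨s, ?_⟩
  refine TopCat.Sheaf.eq_of_locally_eq' B.V.left.sheaf (fun i => B.π.left ⁻¹ᵁ (W i ⊓ U')) (B.π.left ⁻¹ᵁ U')
    (fun i => homOfLE (B.π.left.preimage_mono inf_le_right)) ?_ _ _ fun i => ?_
  · intro z hz
    obtain ⟨i, hi⟩ := Opens.mem_iSup.1 (hcv hz)
    exact Opens.mem_iSup.2 ⟨i, hi⟩
  · show GLinSh.res B.π inf_le_right (GLinSh.resTop B.π U' g) =
      GLinSh.res B.π inf_le_right (B.π.left.app U' s * y' ^ N)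
    erw [res_resTop, res_mul, res_pow, res_app]
    rw [show resX (inf_le_right : W i ⊓ U' ≤ U') s = c i from hs i]
    exact hc i

/-- Two ratios of the same function are equal. -/
theorem ratio_unique {N : ℕ} {g h : Γ(B.V.left, ⊤)} (hg : GLinSh.HasWeight B.atlas.chart N g)
    {U : X.left.Opens} (hU : U ≤ nv B N g) {r r' : Γ(X.left, U)}
    (e : GLinSh.resTop B.π U h = B.π.left.app U r * GLinSh.resTop B.π U g)
    (e' : GLinSh.resTop B.π U h = B.π.left.app U r' * GLinSh.resTop B.π U g) : r = r' := by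
  let I := Σ U' : X.left.Opens, {y : Γ(B.V.left, B.π.left ⁻¹ᵁ U') // y ∈ B.atlas.chart U'}
  refine TopCat.Sheaf.eq_of_locally_eq' X.left.sheaf (fun i : I => i.1 ⊓ U) U (fun i => homOfLE inf_le_right) ?_ _ _
    fun i => ?_
  · intro z hz
    obtain ⟨U', hz', y, hy⟩ := B.atlas.cover z
    exact Opens.mem_iSup.2 ⟨⟨U', y, hy⟩, hz', hz⟩
  · obtain ⟨U', y, hy⟩ := i
    obtain ⟨c, hc⟩ := coef_of_hasWeight B hg hy
    have hc' := hc.res B (inf_le_left : U' ⊓ U ≤ U')
    have key : ∀ q : Γ(X.left, U), GLinSh.resTop B.π U h = B.π.left.app U q * GLinSh.resTop B.π U g →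
        Coef B N h y inf_le_left (resX inf_le_right q * resX inf_le_left c) := by
      intro q eq
      have e1 := congrArg (GLinSh.res B.π (inf_le_right : U' ⊓ U ≤ U)) eq
      rw [res_resTop, res_mul, res_resTop] at e1
      erw [res_app] at e1
      rw [Coef] at hc' ⊢
      rw [e1, hc', map_mul, _root_.mul_assoc]
    have hu : IsUnit (resX (inf_le_left : U' ⊓ U ≤ U') c) := by
      rw [show resX (inf_le_left : U' ⊓ U ≤ U') c =
        resX ((inf_le_inf_left _ hU).trans (le_of_eq (nv_inf B hy hc))) (resX (X.left.basicOpen_le c) c) from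
        (resX_resX _ _ _).symm]
      exact (RingedSpace.isUnit_res_basicOpen _ c).map _
    exact hu.mul_right_cancel ((key r e).unique B hy (key r' e'))

/-- A scheme of finite type over a field is Noetherian as a space. -/
theorem noetherianSpace_of_finiteType [LocallyOfFiniteType X.hom] [CompactSpace X.left] :
    TopologicalSpace.NoetherianSpace X.left := by
  haveI : IsLocallyNoetherian X.left := LocallyOfFiniteType.isLocallyNoetherian X.hom
  haveI : IsNoetherian X.left := ⟨⟩
  infer_instance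

set_option maxHeartbeats 1600000 in
/-- A function on the locus times a power of the denominator extends to the whole total space. -/
theorem exists_extend [LocallyOfFiniteType X.hom] [CompactSpace X.left] {n : ℕ} {f : Γ(B.V.left, ⊤)}
    (hf : GLinSh.HasWeight B.atlas.chart n f) (r : Γ(X.left, nv B n f)) :
    ∃ K : ℕ, ∀ M, K ≤ M → ∃ g, GLinSh.HasWeight B.atlas.chart (M * n) g ∧
      GLinSh.resTop B.π (nv B n f) g =
        B.π.left.app (nv B n f) r * GLinSh.resTop B.π (nv B n f) (f ^ M) := by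
  classical
  haveI := noetherianSpace_of_finiteType (X := X)
  haveI := B.atlas.affine
  choose U hzU y hy using B.atlas.cover
  choose W hW hzW hWU' using fun z : X.left =>
    exists_isAffineOpen_mem_and_subset (X := X.left) (x := z) (U := U z) (hzU z)
  have hWU : ∀ z, W z ≤ U z := hWU'
  obtain ⟨S, hS⟩ := IsCompact.elim_finite_subcover (isCompact_univ (X := X.left)) (fun z => (W z : Set X.left))
    (fun z => (W z).2) (fun z _ => Set.mem_iUnion.2 ⟨z, hzW z⟩)
  have hcov : ∀ z : X.left, ∃ i : S, z ∈ W i := fun z => by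
    obtain ⟨i, hi, hz⟩ := Set.mem_iUnion₂.1 (hS (Set.mem_univ z))
    exact ⟨⟨i, hi⟩, hz⟩
  choose c hc using fun i : S => coef_of_hasWeight B hf (hy i.1)
  let cW : ∀ i : S, Γ(X.left, W i) := fun i => resX (hWU i.1) (c i)
  have hcW : ∀ i : S, Coef B n f (y i.1) (hWU i.1) (cW i) := fun i => (hc i).res B (hWU i.1)
  have hb : ∀ i : S, X.left.basicOpen (cW i) = W i.1 ⊓ nv B n f := fun i => by
    rw [basicOpen_resX, ← nv_inf B (hy i.1) (hc i), ← inf_assoc, inf_eq_left.2 (hWU i.1)]
  have hnum : ∀ i : S, ∃ (m : ℕ) (s : Γ(X.left, W i)),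
      resX (inf_le_right : W i.1 ⊓ nv B n f ≤ nv B n f) r * resX inf_le_left (cW i) ^ m = resX inf_le_left s := by
    intro i
    haveI := (hW i.1).isLocalization_basicOpen (cW i)
    obtain ⟨m, s, hs⟩ := IsLocalization.Away.surj (cW i) (resX ((hb i).le.trans inf_le_right) r)
    refine ⟨m, s, ?_⟩
    have h : resX ((hb i).le.trans inf_le_right) r * resX (X.left.basicOpen_le (cW i)) (cW i) ^ m =
        resX (X.left.basicOpen_le (cW i)) s := hs
    have h2 := congrArg (resX (hb i).ge) h
    simp only [resX, map_mul, map_pow] at h2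
    simp only [← CommRingCat.comp_apply, ← Functor.map_comp] at h2
    exact h2
  choose m s hs using hnum
  let m₀ := Finset.univ.sup m
  let s' : ∀ i : S, Γ(X.left, W i) := fun i => s i * cW i ^ (m₀ - m i)
  have hs' : ∀ i, resX (inf_le_right : W i.1 ⊓ nv B n f ≤ nv B n f) r * resX inf_le_left (cW i) ^ m₀ =
      resX inf_le_left (s' i) := fun i => by
    simp only [s', resX, map_mul, map_pow]
    conv_lhs => rw [← Nat.add_sub_of_le (show m i ≤ m₀ from Finset.le_sup (f := m) (Finset.mem_univ i))]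
    rw [pow_add, ← _root_.mul_assoc]
    exact congrArg (· * _) (hs i)
  let t : ∀ i : S, Γ(B.V.left, B.π.left ⁻¹ᵁ W i) := fun i =>
    B.π.left.app (W i) (s' i) * GLinSh.res B.π (hWU i.1) (y i.1) ^ (m₀ * n)
  have ht : ∀ (i : S) (O : X.left.Opens) (hO : O ≤ W i.1) (hO' : O ≤ nv B n f),
      GLinSh.res B.π hO (t i) = B.π.left.app O (resX hO' r) * GLinSh.resTop B.π O f ^ m₀ := fun i O hO hO' => by
    have e1 := congrArg (resX (le_inf hO hO')) (hs' i)
    simp only [resX, map_mul, map_pow] at e1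
    simp only [← CommRingCat.comp_apply, ← Functor.map_comp] at e1
    have e2 := (hcW i).res B hO
    rw [Coef] at e2
    rw [e2]
    simp only [t]
    erw [res_mul, res_pow, res_app, res_res]
    rw [show resX hO (s' i) = resX hO' r * resX hO (cW i) ^ m₀ from e1.symm, map_mul, map_pow, mul_pow, ← pow_mul,
      mul_comm n m₀, _root_.mul_assoc]
  -- agreement after multiplying by a power
  have hagree : ∀ p : S × S, ∃ K : ℕ,
      GLinSh.resTop B.π (W p.1.1 ⊓ W p.2.1) f ^ K * GLinSh.res B.π inf_le_left (t p.1) =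
        GLinSh.resTop B.π (W p.1.1 ⊓ W p.2.1) f ^ K * GLinSh.res B.π inf_le_right (t p.2) := by
    rintro ⟨i, j⟩
    let O := B.π.left ⁻¹ᵁ (W i.1 ⊓ W j.1)
    have hO : IsCompact (O : Set B.V.left) :=
      B.π.left.isCompact_preimage (TopologicalSpace.NoetherianSpace.isCompact _)
    let F : Γ(B.V.left, O) := GLinSh.resTop B.π (W i.1 ⊓ W j.1) f
    have hF : B.V.left.basicOpen F ≤ B.π.left ⁻¹ᵁ (W i.1 ⊓ W j.1 ⊓ nv B n f) := by
      intro v hv
      rw [show B.V.left.basicOpen F = O ⊓ B.V.left.basicOpen f from B.V.left.basicOpen_res f _] at hv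
      refine ⟨hv.1, ?_⟩
      show B.π.left v ∈ (nv B n f : Set X.left)
      rw [coe_nv B hf]
      exact ⟨v, hv.2, rfl⟩
    obtain ⟨K, hK⟩ := exists_pow_mul_eq_zero_of_res_basicOpen_eq_zero_of_isCompact B.V.left hO
      (GLinSh.res B.π inf_le_left (t i) - GLinSh.res B.π inf_le_right (t j)) F (by
        show B.V.left.presheaf.map (homOfLE (B.V.left.basicOpen_le F)).op _ = 0
        rw [map_sub, sub_eq_zero]
        have e := (ht i (W i.1 ⊓ W j.1 ⊓ nv B n f) (inf_le_left.trans inf_le_left) inf_le_right).trans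
          (ht j (W i.1 ⊓ W j.1 ⊓ nv B n f) (inf_le_left.trans inf_le_right) inf_le_right).symm
        have e' := congrArg (B.V.left.presheaf.map (homOfLE hF).op) e
        simp only [GLinSh.res, ← CommRingCat.comp_apply, ← Functor.map_comp] at e' ⊢
        exact e')
    exact ⟨K, sub_eq_zero.1 (by rw [← mul_sub]; exact hK)⟩
  choose K hK using hagree
  refine ⟨m₀ + Finset.univ.sup K, fun M hM => ?_⟩
  let e := M - m₀
  have hKe : ∀ p, K p ≤ e := fun p => by
    have := Finset.le_sup (f := K) (Finset.mem_univ p)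
    omega
  have hcovV : (⊤ : B.V.left.Opens) ≤ iSup fun i : S => B.π.left ⁻¹ᵁ W i.1 := fun v _ => by
    obtain ⟨i, hi⟩ := hcov (B.π.left v)
    exact Opens.mem_iSup.2 ⟨i, hi⟩
  obtain ⟨g, hg, -⟩ := TopCat.Sheaf.existsUnique_gluing' B.V.left.sheaf (fun i : S => B.π.left ⁻¹ᵁ W i.1) ⊤
    (fun i => homOfLE le_top) hcovV (fun i => GLinSh.resTop B.π (W i.1) f ^ e * t i) fun i j => by
      show GLinSh.res B.π (inf_le_left : W i.1 ⊓ W j.1 ≤ W i.1) _ = GLinSh.res B.π (inf_le_right : W i.1 ⊓ W j.1 ≤ W j.1) _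
      rw [res_mul B _ (GLinSh.resTop B.π (W i.1) f ^ e) (t i), res_mul B _ (GLinSh.resTop B.π (W j.1) f ^ e) (t j),
        res_pow, res_pow, res_resTop, res_resTop]
      rw [← Nat.add_sub_of_le (hKe (i, j)), add_comm, pow_add, _root_.mul_assoc, _root_.mul_assoc]
      exact congrArg (_ * ·) (hK (i, j))
  have hg' : ∀ i : S, GLinSh.resTop B.π (W i.1) g = GLinSh.resTop B.π (W i.1) f ^ e * t i := hg
  refine ⟨g, hasWeight_of_cover B (fun i : S => W i.1) (fun i => U i.1) hcov (fun i => hWU i.1) (fun i => y i.1)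
    (fun i => hy i.1) (fun i => cW i ^ e * s' i) (fun i => ?_), ?_⟩
  · have e2 : GLinSh.resTop B.π (W i.1) f = _ := hcW i
    rw [Coef, hg' i, e2]
    simp only [t, map_mul, map_pow]
    rw [mul_pow, ← pow_mul, show M * n = n * e + m₀ * n by rw [mul_comm n e, ← Nat.add_mul]; congr 1; omega, pow_add]
    ring
  · refine TopCat.Sheaf.eq_of_locally_eq' B.V.left.sheaf (fun i : S => B.π.left ⁻¹ᵁ (W i.1 ⊓ nv B n f))
      (B.π.left ⁻¹ᵁ nv B n f) (fun i => homOfLE (B.π.left.preimage_mono inf_le_right)) ?_ _ _ fun i => ?_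
    · intro v hv
      obtain ⟨i, hi⟩ := hcov (B.π.left v)
      exact Opens.mem_iSup.2 ⟨i, hi, hv⟩
    · show GLinSh.res B.π inf_le_right (GLinSh.resTop B.π (nv B n f) g) = GLinSh.res B.π inf_le_right (_ * _)
      have e1 := congrArg (GLinSh.res B.π (inf_le_left : W i.1 ⊓ nv B n f ≤ W i.1)) (hg' i)
      rw [res_resTop, res_mul, res_pow, res_resTop, ht i _ inf_le_left inf_le_right] at e1
      erw [res_resTop, res_mul, res_app, res_resTop]
      rw [e1, show GLinSh.resTop B.π (W i.1 ⊓ nv B n f) (f ^ M) = GLinSh.resTop B.π (W i.1 ⊓ nv B n f) f ^ M from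
        map_pow (B.V.left.presheaf.map _).hom f M, show M = e + m₀ by omega, pow_add]
      ring

end Groth.Agent.GITHM15
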