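import Groth.Agent.Lib.HM15.Criterion
import Mathlib.RingTheory.Localization.Away.Basic
import Mathlib.RingTheory.IntegralClosure.IsIntegralClosure.Basic

/-!
# The orbit map of a family of stable vectors is integral
-/

set_option autoImplicit false
set_option linter.style.haveILetI false
universe u

open TensorProduct HopfRep LaurentPolynomial

noncomputable section

namespace Groth.Agent.GITHM15

variable {k : Type u} [Field k] [IsAlgClosed k]

/-- A rational place, finite on a finitely generated subalgebra and infinite at an element not integral over it. -/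
theorem exists_place_not_mem {M : Type u} [CommRing M] [Algebra k M] (S : Subalgebra k M) (hS : S.FG) {z : M}
    (hz : ¬ IsIntegral S z) :
    ∃ (K : Type u) (_ : Field K) (_ : Algebra k K) (V : ValuationSubring K) (res : V →+* k) (ω : M →ₐ[k] K)
      (y : S →ₐ[k] k), (∀ c : k, ∃ h : algebraMap k K c ∈ V, res ⟨_, h⟩ = c) ∧
      RingHom.ker res = IsLocalRing.maximalIdeal V ∧ (∀ s : S, ∃ h : ω (s : M) ∈ V, res ⟨_, h⟩ = y s) ∧ ω z ∉ V := by
  classical
  let L := Localization.Away z
  let j : M →ₐ[k] L := IsScalarTower.toAlgHom k M L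
  let u : L := IsLocalization.Away.invSelf z
  have hu : j z * u = 1 := IsLocalization.Away.mul_invSelf z
  let S' : Subalgebra k L := (Algebra.adjoin S {u}).restrictScalars k
  haveI : Algebra.FiniteType k S := (Subalgebra.fg_iff_finiteType _).1 hS
  haveI : Algebra.FiniteType S (Algebra.adjoin S {u}) :=
    (Subalgebra.fg_iff_finiteType _).1 ⟨{u}, by simp⟩
  haveI : Algebra.FiniteType k S' :=
    (Algebra.FiniteType.trans (R := k) (S := S) (A := Algebra.adjoin S {u}) inferInstance inferInstance :)
  let u' : S' := ⟨u, Algebra.self_mem_adjoin_singleton S u⟩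
  have hne : Ideal.span {u'} ≠ ⊤ := by
    intro htop
    obtain ⟨q, hq⟩ := isUnit_iff_exists_inv.1 (Ideal.span_singleton_eq_top.1 htop)
    have hq' : (q : L) = j z := (left_inv_eq_right_inv hu (congrArg Subtype.val hq)).symm
    obtain ⟨p, hp⟩ := (Algebra.adjoin_singleton_eq_range_aeval S u).le (show (q : L) ∈ Algebra.adjoin S {u} from q.2)
    apply hz
    set n := p.natDegree
    let r : Polynomial S :=
      Polynomial.X ^ (n + 1) - ∑ i ∈ Finset.range (n + 1), Polynomial.C (p.coeff i) * Polynomial.X ^ (n - i)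
    have hr : r.Monic := by
      refine Polynomial.monic_X_pow_sub ?_
      refine lt_of_le_of_lt ((Polynomial.degree_sum_le _ _).trans (Finset.sup_le fun i _ => ?_))
        (WithBot.coe_lt_coe.2 (Nat.lt_succ_self n))
      exact (Polynomial.degree_C_mul_X_pow_le _ _).trans (WithBot.coe_le_coe.2 (Nat.sub_le n i))
    have hr0 : j (Polynomial.aeval z r) = 0 := by
      show (IsScalarTower.toAlgHom S M L) (Polynomial.aeval z r) = 0
      rw [← Polynomial.aeval_algHom_apply]
      show Polynomial.aeval (j z) r = 0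
      simp only [r, map_sub, map_sum, map_mul, map_pow, Polynomial.aeval_X, Polynomial.aeval_C, sub_eq_zero]
      have e1 : Polynomial.aeval u p = j z := hp.trans hq'
      rw [Polynomial.aeval_eq_sum_range] at e1
      calc j z ^ (n + 1) = j z ^ n * ∑ i ∈ Finset.range (n + 1), p.coeff i • u ^ i := by rw [e1, pow_succ]
        _ = _ := by
          rw [Finset.mul_sum]
          refine Finset.sum_congr rfl fun i hi => ?_
          rw [Algebra.smul_def, mul_left_comm]
          congr 1
          have hin : i ≤ n := Nat.lt_succ_iff.1 (Finset.mem_range.1 hi)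
          conv_lhs => rw [← Nat.sub_add_cancel hin, pow_add, mul_assoc, ← mul_pow, hu, one_pow, mul_one]
    obtain ⟨⟨_, N, rfl⟩, hN⟩ := (IsLocalization.map_eq_zero_iff (Submonoid.powers z) L _).1 hr0
    exact ⟨Polynomial.X ^ N * r, (Polynomial.monic_X_pow N).mul hr, by
      rw [← Polynomial.aeval_def, map_mul, map_pow, Polynomial.aeval_X]; exact hN⟩
  obtain ⟨y, hy⟩ := Comodule.exists_point (k := k) hne
  have hyu : y u' = 0 := hy (Ideal.subset_span rfl)
  obtain ⟨K, _, _, V, res, ω, halg, hker, hext⟩ := PlaceRat28.exists_place S'.val y (fun c hc => by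
    rw [RingHom.mem_ker] at hc ⊢
    rw [show c = 0 from Subtype.ext hc, map_zero])
  let incl : S →ₐ[k] S' :=
    { toFun := fun s => ⟨algebraMap S L s, Subalgebra.algebraMap_mem _ s⟩
      map_one' := Subtype.ext (map_one _)
      map_mul' := fun a b => Subtype.ext (map_mul _ a b)
      map_zero' := Subtype.ext (map_zero _)
      map_add' := fun a b => Subtype.ext (map_add _ a b)
      commutes' := fun c => Subtype.ext (IsScalarTower.algebraMap_apply k S L c).symm }
  refine ⟨K, inferInstance, inferInstance, V, res, ω.comp j, y.comp incl, halg, hker, fun s => hext (incl s), ?_⟩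
  intro hmem
  obtain ⟨h1, h2⟩ := hext u'
  have e : (⟨_, h1⟩ : V) * ⟨_, hmem⟩ = 1 := Subtype.ext (by
    show ω u * ω (j z) = 1
    rw [← map_mul, mul_comm, hu, map_one])
  have e2 := congrArg res e
  rw [map_mul, h2, hyu, zero_mul, map_one] at e2
  exact zero_ne_one e2

variable [CharZero k] {A : Type u} [CommRing A] [HopfAlgebra k A] [Algebra.FiniteType k A] {ι : Type u} [Fintype ι]
  [Comod k A (MvPolynomial ι k)] [GLin.IsCoactAlg k A (MvPolynomial ι k)]

/-- Over the locus of vectors without limits the orbit map is integral, with coefficients in any algebra. -/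
theorem isIntegral_orbit (hG : IsLinearlyReductive k A) (hlin : GLin.IsLinear k A ι) {d : MvPolynomial ι k}
    (hst : ∀ z : ι → k, MvPolynomial.eval z d ≠ 0 → ∀ lam : A →ₐc[k] k[T;T⁻¹], ¬ SGA3t2b.IsTrivialBialgHom lam →
      ∃ (i : ι) (n : ℤ), n < 0 ∧ (Comodule.coordOrbit lam z i).coeff n ≠ 0)
    {M : Type u} [CommRing M] [Algebra k M] (ev : A →ₐ[k] M) (ζ : ι → M) {e : M}
    (he : MvPolynomial.aeval ζ d * e = 1) (a : A) :
    IsIntegral (Algebra.adjoin k (Set.range ζ ∪ Set.range (fun i =>
      Algebra.TensorProduct.lift (MvPolynomial.aeval ζ) ev (fun _ _ => .all _ _)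
        (Comod.coact (k := k) (A := A) (MvPolynomial.X i : MvPolynomial ι k))) ∪ {e})) (ev a) := by
  classical
  set S := Algebra.adjoin k (Set.range ζ ∪ Set.range (fun i =>
      Algebra.TensorProduct.lift (MvPolynomial.aeval ζ) ev (fun _ _ => .all _ _)
        (Comod.coact (k := k) (A := A) (MvPolynomial.X i : MvPolynomial ι k))) ∪ {e}) with hSdef
  by_contra ha
  obtain ⟨K, _, _, V, res, ω, y, halg, hker, hS, hna⟩ := exists_place_not_mem S
    (Subalgebra.fg_def.2 ⟨_, ((Set.finite_range _).union (Set.finite_range _)).union (Set.finite_singleton e),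
      hSdef.symm⟩) ha
  have hζ : ∀ i, ζ i ∈ S := fun i => Algebra.subset_adjoin (Or.inl (Or.inl ⟨i, rfl⟩))
  let u : ι → V := fun i => ⟨ω (ζ i), (hS ⟨_, hζ i⟩).1⟩
  have hv : (fun i => res (u i)) = fun i => y ⟨_, hζ i⟩ := funext fun i => (hS ⟨_, hζ i⟩).2
  obtain ⟨lam, hlam, hlam'⟩ := HM15.exists_lam_valued hG hlin V res halg hker u false (ω.comp ev) (fun i => by
    have hi : Algebra.TensorProduct.lift (MvPolynomial.aeval ζ) ev (fun _ _ => .all _ _)
        (Comod.coact (k := k) (A := A) (MvPolynomial.X i : MvPolynomial ι k)) ∈ S :=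
      Algebra.subset_adjoin (Or.inl (Or.inr ⟨i, rfl⟩))
    have e1 : Algebra.TensorProduct.lift (MvPolynomial.aeval fun l => (u l : K)) (ω.comp ev) (fun _ _ => .all _ _) =
        ω.comp (Algebra.TensorProduct.lift (MvPolynomial.aeval ζ) ev (fun _ _ => .all _ _)) :=
      Algebra.TensorProduct.ext' fun P b => by
        simp only [Algebra.TensorProduct.lift_tmul, AlgHom.comp_apply, map_mul, u]
        rw [MvPolynomial.comp_aeval_apply]
    rw [e1, AlgHom.comp_apply]
    exact ⟨(hS ⟨_, hi⟩).1, fun h => absurd h Bool.false_ne_true⟩) (by simpa using ⟨a, hna⟩)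
  rw [hv] at hlam'
  have hd : MvPolynomial.eval (fun i => y ⟨_, hζ i⟩) d ≠ 0 := by
    intro h0
    let ζ' : ι → S := fun i => ⟨_, hζ i⟩
    let e' : S := ⟨e, Algebra.subset_adjoin (Or.inr rfl)⟩
    have h1 : MvPolynomial.aeval ζ' d * e' = 1 := Subtype.ext (by
      show S.val (MvPolynomial.aeval ζ' d) * e = 1
      rw [MvPolynomial.comp_aeval_apply]
      exact he)
    have h2 := congrArg y h1
    rw [map_mul, MvPolynomial.comp_aeval_apply, map_one] at h2
    rw [show MvPolynomial.aeval (fun i => y (ζ' i)) d = 0 from h0, zero_mul] at h2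
    exact zero_ne_one h2
  obtain ⟨i, n, hn, hc⟩ := hst _ hd lam hlam
  exact hc (hlam' i n (by simpa using hn))

end Groth.Agent.GITHM15
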