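import Groth.Agent.Lib.GITHM15.Setup
import Groth.Agent.Lib.GITQuot.Orbit

/-!
# Loci of invariant functions: invariance, combinations and closed orbits
-/

set_option autoImplicit false
set_option linter.style.haveILetI false
set_option backward.isDefEq.respectTransparency.types false
universe u

open CategoryTheory Limits MonoidalCategory CartesianMonoidalCategory MonObj AlgebraicGeometry TopologicalSpace

noncomputable section

namespace Groth.Agent.GITHM15

open Groth.Agent.WtMu19
open Groth.Agent.FixLine19 (sp str)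

attribute [local instance] HomSch19.algW

variable {k : Type u} [Field k]
  {G X : Over (Spec (CommRingCat.of k))} [GrpObj G] {a : AlgGrp.Action G X} (B : GLinSh.LinBun G a)

/-- The locus of an invariant function is invariant. -/
theorem act_preimage_nonvanishing {f : Γ(B.V.left, ⊤)} (hinv : GLinSh.IsInvFn B.lift f) :
    a.act.left ⁻¹' GLinSh.nonvanishing B.π f = (snd G X).left ⁻¹' GLinSh.nonvanishing B.π f := by
  let D := B.V.left.basicOpen f
  let sV := AlgGrpBasic19.shear B.lift
  let sX := AlgGrpBasic19.shear a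
  have hD : B.lift.act.left ⁻¹ᵁ D = (snd G B.V).left ⁻¹ᵁ D := by
    rw [Scheme.preimage_basicOpen_top, Scheme.preimage_basicOpen_top, show B.lift.act.left.appTop f = _ from hinv]
  have hcomm : sV.hom ≫ (G ◁ B.π) = (G ◁ B.π) ≫ sX.hom := by
    ext1
    · simp [sV, sX, AlgGrpBasic19.shear]
    · simp only [sV, sX, AlgGrpBasic19.shear, Category.assoc, whiskerLeft_snd, lift_snd, lift_snd_assoc]
      exact B.lift_π
  have key : ∀ z : (G ⊗ X).left, (snd G X).left z ∈ GLinSh.nonvanishing B.π f ↔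
      ∃ w : (G ⊗ B.V).left, (G ◁ B.π).left w = z ∧ (snd G B.V).left w ∈ D := by
    intro z
    constructor
    · rintro ⟨v, hv, hvz⟩
      obtain ⟨w, h1, h2⟩ :=
        Scheme.exists_preimage_of_isPullback (GITQuot.isPullback_whiskerLeft B.π G) z v hvz.symm
      exact ⟨w, h1, by rw [h2]; exact hv⟩
    · rintro ⟨w, hw, hwD⟩
      refine ⟨(snd G B.V).left w, hwD, ?_⟩
      show (snd G B.V ≫ B.π).left w = _
      rw [← whiskerLeft_snd, ← hw]
      rfl
  ext z
  have h1 : (snd G X).left (sX.hom.left z) = a.act.left z := by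
    show (sX.hom ≫ snd G X).left z = _
    rw [AlgGrpBasic19.shear_hom_snd]
  refine Iff.trans (show _ ↔ (snd G X).left (sX.hom.left z) ∈ GLinSh.nonvanishing B.π f by rw [h1]; rfl) ?_
  refine (key _).trans (Iff.trans ?_ (key z).symm)
  constructor
  · rintro ⟨w, hw, hwD⟩
    refine ⟨sV.inv.left w, ?_, ?_⟩
    · show (sV.inv ≫ (G ◁ B.π)).left w = z
      have e : sV.inv ≫ (G ◁ B.π) = (G ◁ B.π) ≫ sX.inv := by
        rw [Iso.inv_comp_eq, ← Category.assoc, hcomm, Category.assoc, Iso.hom_inv_id, Category.comp_id]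
      rw [e]
      show sX.inv.left ((G ◁ B.π).left w) = z
      rw [hw]
      show (sX.hom ≫ sX.inv).left z = z
      rw [Iso.hom_inv_id]
      rfl
    · show sV.inv.left w ∈ (snd G B.V).left ⁻¹ᵁ D
      rw [← hD]
      show (sV.inv ≫ B.lift.act).left w ∈ D
      rw [AlgGrpBasic19.shear_inv_act]
      exact hwD
  · rintro ⟨w, hw, hwD⟩
    refine ⟨sV.hom.left w, ?_, ?_⟩
    · show (sV.hom ≫ (G ◁ B.π)).left w = _
      rw [hcomm, ← hw]
      rfl
    · show (sV.hom ≫ snd G B.V).left w ∈ D
      rw [AlgGrpBasic19.shear_hom_snd]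
      show w ∈ B.lift.act.left ⁻¹ᵁ D
      rw [hD]
      exact hwD

/-- An orbit lies in the locus exactly when its point does. -/
theorem psi_mem_nv_iff {n : ℕ} {f : Γ(B.V.left, ⊤)} (hf : B.IsInvSection n f) {T : Over (Spec (CommRingCat.of k))}
    (fT : T ⟶ X) (z : (G ⊗ T).left) :
    (fst X T).left ((GIT.psi a fT).left z) ∈ nv B n f ↔ fT.left ((snd G T).left z) ∈ nv B n f := by
  show _ ∈ (nv B n f : Set X.left) ↔ _ ∈ (nv B n f : Set X.left)
  rw [coe_nv B hf.1]
  have h1 : (fst X T).left ((GIT.psi a fT).left z) = a.act.left ((G ◁ fT).left z) := by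
    show (GIT.psi a fT ≫ fst X T).left z = _
    rw [GIT.psi, lift_fst]
    rfl
  have h2 : fT.left ((snd G T).left z) = (snd G X).left ((G ◁ fT).left z) := by
    show (snd G T ≫ fT).left z = _
    rw [← whiskerLeft_snd]
    rfl
  rw [h1, h2]
  exact Set.ext_iff.1 (act_preimage_nonvanishing B hf.2) _

theorem isInvSection_add_str_mul {n : ℕ} {f g : Γ(B.V.left, ⊤)} (hf : B.IsInvSection n f) (hg : B.IsInvSection n g)
    (t : k) : B.IsInvSection n (f + str B.V t * g) := by
  refine ⟨HasWeight.add B hf.1 (HasWeight.str_mul B hg.1 t), ?_⟩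
  show B.lift.act.left.appTop _ = (snd G B.V).left.appTop _
  rw [map_add, map_add, map_mul, map_mul, str_nat, str_nat, show B.lift.act.left.appTop f = _ from hf.2,
    show B.lift.act.left.appTop g = _ from hg.2]

/-- At most one combination vanishes at a point where one of the functions does not. -/
theorem subsingleton_bad {n : ℕ} {f g : Γ(B.V.left, ⊤)} (hf : GLinSh.HasWeight B.atlas.chart n f)
    (hg : GLinSh.HasWeight B.atlas.chart n g) {z : X.left} (hz : z ∈ nv B n f ⊔ nv B n g) :
    {t : k | z ∉ nv B n (f + str B.V t * g)}.Subsingleton := by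
  intro t ht t' ht'
  by_contra hne
  obtain ⟨U, y, hy, c, hc, hzU⟩ := exists_chart_coef B hf z
  obtain ⟨c', hc'⟩ := coef_of_hasWeight B hg hy
  let φ : Γ(X.left, U) →+* X.left.presheaf.stalk z := (X.left.presheaf.germ U z hzU).hom
  let σ : k →+* X.left.presheaf.stalk z := φ.comp ((X.left.presheaf.map (homOfLE le_top).op).hom.comp (str X))
  have hiff : ∀ {q : Γ(B.V.left, ⊤)} {d : Γ(X.left, U)}, Coef B n q y le_rfl d → (z ∈ nv B n q ↔ IsUnit (φ d)) :=
    fun hd => by
      rw [← Scheme.mem_basicOpen _ _ _ hzU]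
      exact ⟨fun h => (nv_inf B hy hd).le ⟨hzU, h⟩, fun h => ((nv_inf B hy hd).ge h).2⟩
  have hcomb : ∀ s : k, Coef B n (f + str B.V s * g) y le_rfl (c + resX le_top (str X s) * c') := fun s => by
    rw [coef_iff] at hc hc' ⊢
    refine (map_add (B.V.left.presheaf.map _).hom _ _).trans ?_
    rw [map_add, add_mul, map_mul (B.π.left.app U).hom, _root_.mul_assoc]
    refine congrArg₂ (· + ·) hc ((map_mul (B.V.left.presheaf.map _).hom _ g).trans (congrArg₂ (· * ·) ?_ hc'))
    rw [← str_nat B.π s]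
    exact (ConcreteCategory.congr_hom (B.π.left.naturality (homOfLE le_top).op) (str X s)).symm
  have m1 : φ c + σ t * φ c' ∈ IsLocalRing.maximalIdeal _ := by
    rw [IsLocalRing.mem_maximalIdeal]
    intro h
    exact ht ((hiff (hcomb t)).2 (by rw [map_add, map_mul]; exact h))
  have m2 : φ c + σ t' * φ c' ∈ IsLocalRing.maximalIdeal _ := by
    rw [IsLocalRing.mem_maximalIdeal]
    intro h
    exact ht' ((hiff (hcomb t')).2 (by rw [map_add, map_mul]; exact h))
  have m3 : σ (t - t') * φ c' ∈ IsLocalRing.maximalIdeal _ := by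
    have := Ideal.sub_mem _ m1 m2
    rwa [show φ c + σ t * φ c' - (φ c + σ t' * φ c') = σ (t - t') * φ c' by rw [map_sub]; ring] at this
  have hu : IsUnit (σ (t - t')) := (IsUnit.mk0 _ (sub_ne_zero.2 hne)).map σ
  have m4 : φ c' ∈ IsLocalRing.maximalIdeal _ := (Ideal.unit_mul_mem_iff_mem _ hu).1 m3
  have m5 : φ c ∈ IsLocalRing.maximalIdeal _ := by
    have := Ideal.sub_mem _ m1 (Ideal.mul_mem_left _ (σ t) m4)
    simpa using this
  rw [IsLocalRing.mem_maximalIdeal] at m4 m5
  rcases hz with hz | hz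
  · exact m5 ((hiff hc).1 hz)
  · exact m4 ((hiff hc').1 hz)

/-- The locus of a combination is affine when both loci are. -/
theorem isAffineOpen_nv_add {n : ℕ} {f g : Γ(B.V.left, ⊤)} (hf : GLinSh.HasWeight B.atlas.chart n f)
    (hg : GLinSh.HasWeight B.atlas.chart n g) (haf : IsAffineOpen (nv B n f)) (hag : IsAffineOpen (nv B n g))
    (t : k) : IsAffineOpen (nv B n (f + str B.V t * g)) := by
  have hh := HasWeight.add B hf (HasWeight.str_mul B hg t)
  refine isAffineOpen_nv_sum B (Finset.univ : Finset Bool) (fun i => bif i then f else g) (fun i => bif i then 1 else t)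
    (fun i => by cases i <;> assumption) ?_ hh fun i _ => ?_
  · simp
  · cases i
    · rw [inf_comm]; exact isAffineOpen_nv_inf B hg hh hag
    · rw [inf_comm]; exact isAffineOpen_nv_inf B hf hh haf

/-- Closedness of orbits passes to the locus of a combination. -/
theorem closedOrbitsOn_add {n : ℕ} {f g : Γ(B.V.left, ⊤)} (hf : B.IsInvSection n f) (hg : B.IsInvSection n g)
    (hcf : GLinSh.ClosedOrbitsOn a (nv B n f)) (hcg : GLinSh.ClosedOrbitsOn a (nv B n g)) (t : k) :
    GLinSh.ClosedOrbitsOn a (nv B n (f + str B.V t * g)) := by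
  intro Ω _ _ T e fT hr
  haveI : Subsingleton T.left :=
    ⟨fun p q => (Scheme.homeoOfIso e).injective (Subsingleton.elim (α := PrimeSpectrum Ω) _ _)⟩
  set W := nv B n (f + str B.V t * g)
  set O := (fst X T).left ⁻¹ᵁ W
  set R := Set.range (GIT.psi a fT).left.base
  suffices h : ∀ q : Γ(B.V.left, ⊤), B.IsInvSection n q → GLinSh.ClosedOrbitsOn a (nv B n q) →
      IsOpen {p : O | (fst X T).left p.1 ∈ nv B n q ∧ p.1 ∉ R} by
    rw [← isOpen_compl_iff]
    convert (h f hf hcf).union (h g hg hcg) using 1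
    ext p
    refine ⟨fun hp => ?_, fun hp => hp.elim (fun h' => h'.2) fun h' => h'.2⟩
    have hle : W ≤ nv B n f ⊔ nv B n g := fun z hz => by
      rcases nv_add_le B hf.1 (HasWeight.str_mul B hg.1 t) hz with h' | h'
      · exact Or.inl h'
      · exact Or.inr (by rw [← smul_eq_str] at h'; exact nv_smul_le B hg.1 t h')
    exact (hle p.2).imp (fun h' => ⟨h', hp⟩) fun h' => ⟨h', hp⟩
  intro q hq hcq
  have hV : IsOpen {p : O | (fst X T).left p.1 ∈ nv B n q} :=
    ((fst X T).left ⁻¹ᵁ nv B n q).2.preimage continuous_subtype_val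
  by_cases hmem : Set.range fT.left.base ⊆ (nv B n q : Set X.left)
  · obtain ⟨C, hC, hCeq⟩ := isClosed_induced_iff.1 (hcq Ω T e fT hmem)
    convert hV.inter (hC.isOpen_compl.preimage continuous_subtype_val) using 1
    ext p
    refine ⟨fun hp => ⟨hp.1, fun hpC => hp.2 ?_⟩, fun hp => ⟨hp.1, fun hpR => hp.2 ?_⟩⟩
    · exact (Set.ext_iff.1 hCeq ⟨p.1, hp.1⟩).1 hpC
    · exact (Set.ext_iff.1 hCeq ⟨p.1, hp.1⟩).2 hpR
  · convert hV using 1
    ext p
    refine ⟨fun hp => hp.1, fun hp => ⟨hp, ?_⟩⟩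
    rintro ⟨z, hz⟩
    refine hmem ?_
    rintro _ ⟨s, rfl⟩
    rw [Subsingleton.elim s ((snd G T).left z)]
    exact (psi_mem_nv_iff B hq fT z).1 (by rw [hz]; exact hp)

end Groth.Agent.GITHM15
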