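import Groth.Agent.Lib.GITHM15.Setup
import Groth.Agent.Lib.GITHM15.Group
import Groth.Agent.Lib.WtMu19.Main
import Groth.Agent.Lib.WtMu19.Eigen
import Groth.Agent.Lib.HM15.Criterion

/-!
# The numerical criterion for semistability on a proper scheme
-/

set_option autoImplicit false
set_option linter.style.haveILetI false
set_option backward.isDefEq.respectTransparency.types false
universe u

open CategoryTheory Limits MonoidalCategory CartesianMonoidalCategory MonObj AlgebraicGeometry TopologicalSpace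
open scoped TensorProduct LaurentPolynomial
open WithConv

noncomputable section

namespace Groth.Agent.GITHM15

open Groth.Agent.WtMu19
open Groth.Agent.FixLine19 (sp str)

attribute [local instance] HomSch19.algW

variable {k : Type u} [Field k]
  {G X : Over (Spec (CommRingCat.of k))} [GrpObj G] {a : AlgGrp.Action G X} (B : GLinSh.LinBun G a)

local notation "Gm₀" => Red.Gm (Spec (CommRingCat.of k))

/-- A function supported at a point is nonzero at every point over it with nonzero coordinate. -/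
theorem appTop_ne_zero_of_supp {N : ℕ} {f : Γ(B.V.left, ⊤)} (hf : Homog B N f)
    {x : 𝟙_ (Over (Spec (CommRingCat.of k))) ⟶ X} (hs : Supp B x f) {U : X.left.Opens}
    {y : Γ(B.V.left, B.π.left ⁻¹ᵁ U)} (hy : y ∈ B.atlas.chart U) (hU : x.left ⁻¹ᵁ U = ⊤)
    {vx : 𝟙_ (Over (Spec (CommRingCat.of k))) ⟶ B.V} (hvx : vx ≫ B.π = x)
    (hx₁ : ⊤ ≤ vx.left ⁻¹ᵁ (B.π.left ⁻¹ᵁ U)) (ex₁ : HMNum.evalFn B.π y vx hx₁ = 1) :
    vx.left.appTop f ≠ 0 := by
  obtain ⟨v, hv, hne⟩ := hs
  intro h0
  have hvU : ⊤ ≤ v.left ⁻¹ᵁ (B.π.left ⁻¹ᵁ U) :=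
    HMNum.top_le_preimage B.π hU (t := 𝟙 _) (by rw [hv, Category.id_comp])
  have h2 := hf loc_tensorUnit _ _ _ (isMul_one_coord B hy (by rw [hv, hvx]) hx₁ hvU ex₁)
  rw [h0, mul_zero] at h2
  exact hne h2

/-- A rational point of the non-vanishing locus. -/
theorem mem_nonvanishing {f : Γ(B.V.left, ⊤)} (x : 𝟙_ (Over (Spec (CommRingCat.of k))) ⟶ X)
    (p : (𝟙_ (Over (Spec (CommRingCat.of k)))).left) (hs : Supp B x f) :
    x.left.base p ∈ GLinSh.nonvanishing B.π f := by
  obtain ⟨v, hv, hne⟩ := hs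
  refine ⟨v.left p, ?_, congrArg (fun q : 𝟙_ (Over (Spec (CommRingCat.of k))) ⟶ X => q.left.base p) hv⟩
  show p ∈ v.left ⁻¹ᵁ B.V.left.basicOpen f
  rw [Scheme.preimage_basicOpen_top, Scheme.basicOpen_of_isUnit]
  · exact trivial
  · rw [← str_kv (v.left.appTop f)]
    exact (IsUnit.mk0 _ fun h => hne (by rw [← str_kv (v.left.appTop f), h, map_zero])).map _

theorem mem_nv_iff_supp {N : ℕ} {f : Γ(B.V.left, ⊤)} (hN : N ≠ 0) (hf : GLinSh.HasWeight B.atlas.chart N f)
    (x : 𝟙_ (Over (Spec (CommRingCat.of k))) ⟶ X) (p : (𝟙_ (Over (Spec (CommRingCat.of k)))).left) :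
    x.left.base p ∈ nv B N f ↔ Supp B x f := by
  constructor
  · intro h
    exact supp_of_nonvanishing B hf hN x p (by rw [← coe_nv B hf]; exact h)
  · intro h
    show x.left.base p ∈ (nv B N f : Set X.left)
    rw [coe_nv B hf]
    exact mem_nonvanishing B x p h

variable [Infinite k]

set_option maxHeartbeats 800000 in
/-- The numerical function through a finite spanning family of functions of the same weight. -/
theorem exists_mu_data [IsProper X.hom] [CompactSpace X.left] (l : Gm₀ ⟶ G) [IsMonHom l] {N : ℕ} (hN : 1 ≤ N)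
    {κ : Type u} (b : κ → Γ(B.V.left, ⊤)) (hb : ∀ i, GLinSh.HasWeight B.atlas.chart N (b i))
    (hcov : ∀ z : X.left, ∃ i, z ∈ nv B N (b i))
    {κ' : Type u} (f' : κ' → Γ(B.V.left, ⊤)) (n' : κ' → ℕ) (hn' : ∀ j, 1 ≤ n' j) (hf' : ∀ j, Homog B (n' j) (f' j))
    (he' : ∀ j, Eig B l (f' j) 0) (x : 𝟙_ (Over (Spec (CommRingCat.of k))) ⟶ X) :
    ∃ (h : κ → ℤ →₀ Γ(B.V.left, ⊤)) (w : ℤ),
      (∀ i (T : Over (Spec (CommRingCat.of k))) (g : T ⟶ Gm₀) (v : T ⟶ B.V),
        (lift (g ≫ l) v ≫ B.lift.act).left.appTop (b i) = (h i).sum fun n y => zp g n * v.left.appTop y) ∧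
      HMNum.IsMu B l x (-w) ∧ (∀ mu₁, HMNum.IsMu B l x mu₁ → mu₁ = -w) ∧
      (∀ j, Supp B x (f' j) → (n' j : ℤ) * w ≤ 0) ∧
      ((∃ i, ∃ n : ℤ, Supp B x (h i n) ∧ (N : ℤ) * w = n) ∨ ∃ j, Supp B x (f' j) ∧ (n' j : ℤ) * w = 0) ∧
      ∀ y, HMNum.IsLimitPt a l x y → ∀ j, Supp B x (f' j) → (n' j : ℤ) * w = 0 → Supp B y (f' j) := by
  classical
  choose h hh using fun i => exists_expansion B l (b i)
  let J := (Σ i : κ, (h i).support) ⊕ κ'
  let f : J → Γ(B.V.left, ⊤) := Sum.elim (fun q => h q.1 q.2.1) f'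
  let n : J → ℕ := Sum.elim (fun _ => N) n'
  let e : J → ℤ := Sum.elim (fun q => q.2.1) fun _ => 0
  have heig : ∀ j, Eig B l (f j) (e j) := by
    rintro (⟨i, m, hm⟩ | j)
    · obtain ⟨e₀, he₀⟩ := exists_eig_of_scalar B l (h i m)
        fun u => ⟨_, Op_coeff B l (b i) (h i) (hh i) u m⟩
      have hne : h i m ≠ 0 := Finsupp.mem_support_iff.1 hm
      have hem : m = e₀ := eq_of_pow_eq (k := k) fun u => by
        have h1 := Op_coeff B l (b i) (h i) (hh i) u m
        rw [Op_apply, ← Category.assoc, he₀, zp_nat, zp_ptU, str_nat] at h1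
        rw [show (𝟙 B.V : B.V ⟶ B.V).left.appTop (h i m) = h i m by simp, ← smul_eq_str] at h1
        exact Units.ext (smul_left_injective k hne h1).symm
      show Eig B l (h i m) m
      rw [hem] at hne ⊢
      exact hem ▸ he₀
    · exact he' j
  obtain ⟨w, h1, h2, h3, ⟨j₀, hj₀, hj₀'⟩, h4⟩ := mu_spec_limit B l x f n e
    (by rintro (q | j) <;> [exact hN; exact hn' j])
    (by rintro (q | j) <;> [exact homog_coeff B (homog_of_hasWeight B (hb q.1)) l (h q.1) (hh q.1) q.2.1; exact hf' j])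
    heig (fun q => by
      obtain ⟨i, hi⟩ := hcov (q.left.base (Classical.arbitrary (Spec (CommRingCat.of k) : Scheme.{u})))
      obtain ⟨v, hv, hne⟩ := (mem_nv_iff_supp B (by omega) (hb i) q _).1 hi
      obtain ⟨m, hm, hm'⟩ : ∃ m ∈ (h i).support, v.left.appTop (h i m) ≠ 0 := by
        by_contra hall
        push Not at hall
        apply hne
        rw [← sum_eq_self B l (b i) (h i) (hh i), map_finsuppSum]
        exact Finset.sum_eq_zero fun m hm => hall m hm
      exact ⟨Sum.inl ⟨i, m, hm⟩, v, hv, hm'⟩)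
  refine ⟨h, w, hh, h1, h2, fun j hj => h3 (Sum.inr j) hj, ?_, fun y hy j hj hje => h4 y hy (Sum.inr j) hj hje⟩
  rcases j₀ with ⟨i, m, hm⟩ | j
  · exact Or.inl ⟨i, m, hj₀, hj₀'⟩
  · exact Or.inr ⟨j, hj₀, hj₀'⟩

omit [Infinite k] in
/-- An invariant function is fixed by every one-parameter subgroup. -/
theorem eig_zero_of_isInvFn {f : Γ(B.V.left, ⊤)} (hf : GLinSh.IsInvFn B.lift f) (l : Gm₀ ⟶ G) : Eig B l f 0 := by
  intro T g v
  rw [zp_zero, _root_.one_mul, Over.comp_left, Scheme.Hom.comp_appTop, CommRingCat.comp_apply,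
    show B.lift.act.left.appTop f = _ from hf, ← CommRingCat.comp_apply, ← Scheme.Hom.comp_appTop, ← Over.comp_left,
    lift_snd]

variable [IsAlgClosed k] [CharZero k] {A : Type u} [CommRing A] [HopfAlgebra k A] [Algebra.FiniteType k A]
  (ei : G ⟶ CoactBr.sp k A) [IsIso ei] [IsMonHom ei]

omit [Infinite k] in
/-- An invariant homogeneous polynomial in the spanning functions gives an invariant section with affine locus. -/
theorem exists_invSection [X.left.IsSeparated] {N : ℕ} (hN : 1 ≤ N) {κ : Type u} [Fintype κ]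
    {b : κ → Γ(B.V.left, ⊤)} {m : κ → κ → A} (hm : IsMatrix B ei b m)
    (hb : ∀ i, GLinSh.HasWeight B.atlas.chart N (b i)) (ha : ∀ i, IsAffineOpen (nv B N (b i)))
    {P : MvPolynomial κ k} (hP : coactA (coef (k := k) m) P = P ⊗ₜ[k] (1 : A)) {d : ℕ} (hd : 0 < d)
    (hhom : P.IsHomogeneous d) :
    1 ≤ d * N ∧ B.IsInvSection (d * N) (MvPolynomial.aeval b P) ∧
      IsAffineOpen (nv B (d * N) (MvPolynomial.aeval b P)) := by
  classical
  set f := MvPolynomial.aeval b P
  have hsum : f = ∑ s ∈ P.support, str B.V (P.coeff s) * (s.toMultiset.map b).prod := by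
    show MvPolynomial.aeval b P = _
    conv_lhs => rw [P.as_sum, map_sum]
    refine Finset.sum_congr rfl fun s _ => ?_
    rw [MvPolynomial.aeval_monomial, algebraMap_eq_str, Finsupp.toMultiset_map, Finsupp.prod_toMultiset,
      Finsupp.prod_mapDomain_index (fun _ => pow_zero _) (fun _ _ _ => pow_add _ _ _)]
  have hcard : ∀ s ∈ P.support, Multiset.card s.toMultiset = d := fun s hs => by
    rw [Finsupp.card_toMultiset]
    have := hhom (MvPolynomial.mem_support_iff.1 hs)
    rw [Finsupp.weight_apply] at this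
    simpa [Finsupp.sum] using this
  have hmon : ∀ s ∈ P.support, GLinSh.HasWeight B.atlas.chart (d * N) (s.toMultiset.map b).prod := by
    intro s hs
    have key : ∀ J : Multiset κ, GLinSh.HasWeight B.atlas.chart (J.card * N) (J.map b).prod := by
      intro J
      induction J using Multiset.induction_on with
      | empty => simpa using HasWeight.one B
      | cons i J ih =>
        rw [Multiset.map_cons, Multiset.prod_cons, Multiset.card_cons, Nat.succ_mul, Nat.add_comm]
        exact HasWeight.mul B (hb i) ih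
    rw [← hcard s hs]
    exact key _
  have hf : GLinSh.HasWeight B.atlas.chart (d * N) f := by
    rw [hsum]
    exact Finset.sum_induction _ (GLinSh.HasWeight B.atlas.chart (d * N)) (fun _ _ => HasWeight.add B)
      (HasWeight.zero B _) fun s hs => HasWeight.str_mul B (hmon s hs) _
  refine ⟨Nat.mul_pos hd hN, ⟨hf, isInvFn_aeval B ei hm hP⟩, ?_⟩
  have hO : ∀ i, IsAffineOpen (nv B (d * N) f ⊓ nv B N (b i)) := fun i => by
    have h1 : nv B (d * N) (b i ^ d) = nv B N (b i) := nv_pow B (hb i) d hd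
    have := isAffineOpen_nv_inf B (HasWeight.pow B (hb i) d) hf (by rw [h1]; exact ha i)
    rwa [h1, inf_comm] at this
  let mm : {s // s ∈ P.support} → Γ(B.V.left, ⊤) := fun s => (s.1.toMultiset.map b).prod
  refine isAffineOpen_nv_sum B Finset.univ mm (fun s => P.coeff s.1) (fun s => hmon s.1 s.2) ?_ hf fun s _ => ?_
  · rw [hsum]
    exact (Finset.sum_coe_sort P.support fun s => str B.V (P.coeff s) * (s.toMultiset.map b).prod).symm
  · have hne : s.1.toMultiset ≠ 0 := fun h0 => by
      have := hcard s.1 s.2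
      rw [h0, Multiset.card_zero] at this
      omega
    exact (isAffineOpen_inf_nv_prod B b hb _ hO s.1.toMultiset hne (by rw [hcard s.1 s.2])).2

include ei in
set_option maxHeartbeats 800000 in
/-- A point which is not semistable has a destabilising one-parameter subgroup. -/
theorem exists_neg_of_not_semistable [IsProper X.hom] [IsAffine G.left] (hB : HMNum.AmpleCover B)
    (hLR : HopfRep.IsLinearlyReductive k A) (x : 𝟙_ (Over (Spec (CommRingCat.of k))) ⟶ X)
    (p : (𝟙_ (Over (Spec (CommRingCat.of k)))).left) (hx : ¬ B.IsSemistablePt (x.left.base p)) :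
    ∃ (l : Gm₀ ⟶ G) (_ : IsMonHom l) (mu₁ : ℤ), HMNum.IsMu B l x mu₁ ∧ mu₁ < 0 := by
  classical
  haveI : CompactSpace X.left := hB.1
  haveI : X.left.IsSeparated := ⟨by rw [← terminal.comp_from X.hom]; infer_instance⟩
  obtain ⟨N, κ, _, b, hN, hbli, hst, hb, ha, hcov⟩ := exists_basis B hB
  obtain ⟨m, hm⟩ := exists_matrix B ei b hbli hst
  letI := matComod (coef (k := k) m) (comul_coef B ei hm hbli) (counit_coef B ei hm hbli)
  haveI := isCoactAlg_matComod (coef (k := k) m) (comul_coef B ei hm hbli) (counit_coef B ei hm hbli)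
  obtain ⟨U, y, hy, hU⟩ := loc_tensorUnit.exists_chart B x
  obtain ⟨vx, hvx, hx₁, ex₁⟩ := exists_kpt_coord B x hy hU
  let w : κ → k := fun i => kv (vx.left.appTop (b i))
  have hne : ∀ {n : ℕ} {f : Γ(B.V.left, ⊤)}, Homog B n f → Supp B x f → kv (vx.left.appTop f) ≠ 0 :=
    fun {n f} hf hs h0 => appTop_ne_zero_of_supp B hf hs hy hU hvx hx₁ ex₁
      (by rw [← str_kv (vx.left.appTop f), h0, map_zero])
  have hw : w ≠ 0 := by
    obtain ⟨i, hi⟩ := hcov (x.left.base p)
    intro h0
    exact hne (homog_of_hasWeight B (hb i)) ((mem_nv_iff_supp B (by omega) (hb i) x p).1 hi) (congrFun h0 i)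
  have hnull : GLin.IsNullform k A w := by
    intro P hP d hd hhom
    by_contra hne0
    obtain ⟨h1, h2, h3⟩ := exists_invSection B ei hN hm hb ha hP hd hhom
    refine hx ⟨_, _, h1, h2, mem_nonvanishing B x p ⟨vx, hvx, fun h0 => hne0 ?_⟩, _, coe_nv B h2.1, h3⟩
    rw [appTop_aeval] at h0
    have e : ∀ Q : MvPolynomial κ k,
        (MvPolynomial.aeval fun i => vx.left.appTop (b i)) Q = str _ (MvPolynomial.eval w Q) := by
      intro Q
      induction Q using MvPolynomial.induction_on with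
      | C r => rw [MvPolynomial.aeval_C, MvPolynomial.eval_C, algebraMap_eq_str]
      | add p q hp hq => simp only [map_add, hp, hq]
      | mul_X p i hp => simp only [map_mul, MvPolynomial.aeval_X, MvPolynomial.eval_X, hp, w, str_kv]
    rw [e] at h0
    simpa [kv_str] using congrArg kv h0
  obtain ⟨lam, hlam⟩ := Groth.Agent.HM15.exists_lam_of_isNullform hLR
    (isLinear_matComod (coef (k := k) m) (comul_coef B ei hm hbli) (counit_coef B ei hm hbli)) hw hnull
  haveI := isMonHom_onePS ei lam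
  obtain ⟨h, ν, hh, hmu₁, -, -, hmem, -⟩ := exists_mu_data B (onePS ei lam) hN b hb hcov
    (κ' := PEmpty.{u + 1}) (fun e => e.elim) (fun e => e.elim) (fun e => e.elim) (fun e => e.elim) (fun e => e.elim) x
  have hcoef : ∀ i n, kv (vx.left.appTop (h i n)) = (Comodule.coordOrbit lam w i).coeff n := by
    intro i
    let c : ℤ →₀ k := (h i).mapRange (fun t => kv (vx.left.appTop t)) (by rw [map_zero, map_zero])
    suffices hcd : c = (Comodule.coordOrbit lam w i).coeff from fun n => by simpa [c] using DFunLike.congr_fun hcd n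
    refine sum_pow_smul_ext (k := k) fun u => ?_
    have e1 := hh i _ (ptU u) vx
    rw [hm _ (ptU u ≫ onePS ei lam) vx i] at e1
    have e2 := congrArg kv e1
    rw [map_sum, map_finsuppSum] at e2
    refine Eq.trans ?_ (e2.symm.trans ?_)
    · rw [Finsupp.sum_mapRange_index (fun _ => smul_zero _)]
      refine Finsupp.sum_congr fun n _ => ?_
      rw [map_mul, zp_ptU, kv_str, smul_eq_mul]
    · show _ = ((lam : A →ₐ[k] k[T;T⁻¹]) (GLin.orbitHom k A (GLin.vecPt k κ w) (MvPolynomial.X i))).coeff.sum _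
      rw [orbitHom_matComod, map_sum]
      simp only [map_smul]
      rw [AddMonoidAlgebra.coeff_sum, ← Finsupp.sum_finset_sum_index (fun _ => smul_zero _)
        (fun _ _ _ => smul_add _ _ _)]
      refine Finset.sum_congr rfl fun j _ => ?_
      rw [map_mul, evA_onePS, map_finsuppSum, AddMonoidAlgebra.coeff_smul,
        Finsupp.sum_smul_index' (fun _ => smul_zero _), Finsupp.sum_mul]
      refine Finsupp.sum_congr fun n _ => ?_
      rw [map_mul, kv_str, zp_ptU, kv_str]
      simp only [smul_eq_mul, w]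
      ring
  refine ⟨onePS ei lam, inferInstance, -ν, hmu₁, ?_⟩
  rcases hmem with ⟨i, n, hs, hn⟩ | ⟨e, -⟩
  · have hn0 : 0 < n := by
      by_contra hle
      exact hne (homog_coeff B (homog_of_hasWeight B (hb i)) _ (h i) (hh i) n) hs
        (by rw [hcoef]; exact hlam i n (not_lt.1 hle))
    have : (0 : ℤ) < (N : ℤ) * ν := hn ▸ hn0
    have hν : 0 < ν := pos_of_mul_pos_right this (Int.natCast_nonneg N)
    omega
  · exact e.elim

omit [IsAlgClosed k] [CharZero k] in
/-- A semistable point has non-negative numerical function. -/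
theorem nonneg_of_semistable [IsProper X.hom] [IsAffine G.left] (hB : HMNum.AmpleCover B)
    (x : 𝟙_ (Over (Spec (CommRingCat.of k))) ⟶ X) (p : (𝟙_ (Over (Spec (CommRingCat.of k)))).left)
    (hx : B.IsSemistablePt (x.left.base p)) (l : Gm₀ ⟶ G) [IsMonHom l] (mu₁ : ℤ) (hmu₁ : HMNum.IsMu B l x mu₁) :
    0 ≤ mu₁ := by
  haveI : CompactSpace X.left := hB.1
  obtain ⟨n, f, hn, ⟨hf, hinv⟩, hxf, -⟩ := hx
  obtain ⟨N, κ, _, b, hN, -, -, hb, -, hcov⟩ := exists_basis B hB
  obtain ⟨h, w, -, -, huniq, hle, -, -⟩ := exists_mu_data B l hN b hb hcov (κ' := PUnit.{u + 1}) (fun _ => f) (fun _ => n)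
    (fun _ => hn) (fun _ => homog_of_hasWeight B hf) (fun _ => eig_zero_of_isInvFn B hinv l) x
  have h1 := hle PUnit.unit (supp_of_nonvanishing B hf (by omega) x p hxf)
  rw [huniq mu₁ hmu₁]
  have : w ≤ 0 := nonpos_of_mul_nonpos_right h1 (by exact_mod_cast hn)
  omega

end Groth.Agent.GITHM15
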