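import Groth.Agent.Lib.GITHM15.Setup
import Groth.Agent.Lib.GITHM15.Semistable
import Mathlib.AlgebraicGeometry.Morphisms.Finite
import Mathlib.AlgebraicGeometry.Morphisms.Integral

/-!
# Orbits in the locus of an invariant function with integral orbit map
-/

set_option autoImplicit false
set_option linter.style.haveILetI false
set_option backward.isDefEq.respectTransparency.types false
universe u

open CategoryTheory Limits MonoidalCategory CartesianMonoidalCategory MonObj AlgebraicGeometry TopologicalSpace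
open scoped TensorProduct
open WithConv

noncomputable section

namespace Groth.Agent.GITHM15

open Groth.Agent.WtMu19
open Groth.Agent.FixLine19 (sp str)

attribute [local instance] HomSch19.algW

variable {k : Type u} [Field k]
  {G X : Over (Spec (CommRingCat.of k))} [GrpObj G] {a : AlgGrp.Action G X} (B : GLinSh.LinBun G a)

/-- The quotient of two functions of the same weight on the locus of the denominator. -/
theorem exists_ratio_eq {M : ℕ} {g h : Γ(B.V.left, ⊤)} (hg : GLinSh.HasWeight B.atlas.chart M g)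
    (hh : GLinSh.HasWeight B.atlas.chart M h) :
    ∃ r : Γ(X.left, nv B M g), GLinSh.resTop B.π (nv B M g) h =
      B.π.left.app (nv B M g) r * GLinSh.resTop B.π (nv B M g) g := by
  obtain ⟨r, -, hr⟩ := exists_ratio B hg hh
  refine ⟨r, ?_⟩
  let I := Σ U : X.left.Opens, {y : Γ(B.V.left, B.π.left ⁻¹ᵁ U) // y ∈ B.atlas.chart U}
  refine TopCat.Sheaf.eq_of_locally_eq' B.V.left.sheaf (fun i : I => B.π.left ⁻¹ᵁ (i.1 ⊓ nv B M g))
    (B.π.left ⁻¹ᵁ nv B M g) (fun i => homOfLE (B.π.left.preimage_mono inf_le_right)) ?_ _ _ fun i => ?_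
  · intro z hz
    obtain ⟨U, hzU, y, hy⟩ := B.atlas.cover (B.π.left z)
    exact Opens.mem_iSup.2 ⟨⟨U, y, hy⟩, hzU, hz⟩
  · obtain ⟨U, y, hy⟩ := i
    obtain ⟨c, hc⟩ := coef_of_hasWeight B hg hy
    obtain ⟨c', hc'⟩ := coef_of_hasWeight B hh hy
    have e := hr U y hy c c' hc hc'
    have hW : B.π.left ⁻¹ᵁ (U ⊓ nv B M g) ≤ B.π.left ⁻¹ᵁ U := B.π.left.preimage_mono inf_le_left
    have t1 : ∀ q : Γ(B.V.left, ⊤), B.V.left.presheaf.map (homOfLE (B.π.left.preimage_mono
        (inf_le_right : U ⊓ nv B M g ≤ nv B M g))).op (GLinSh.resTop B.π (nv B M g) q) =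
        B.V.left.presheaf.map (homOfLE hW).op (GLinSh.resTop B.π U q) := fun q => by
      show ((B.V.left.presheaf.map _ ≫ B.V.left.presheaf.map _) q) = ((B.V.left.presheaf.map _ ≫ B.V.left.presheaf.map _) q)
      rw [← Functor.map_comp, ← Functor.map_comp]
      rfl
    show B.V.left.presheaf.map _ (GLinSh.resTop B.π (nv B M g) h) = B.V.left.presheaf.map _ _
    rw [map_mul, t1, t1, (coef_iff B).1 hc', (coef_iff B).1 hc, map_mul, map_mul, ← _root_.mul_assoc]
    congr 1
    have n1 : ∀ {U' : X.left.Opens} (hle : U ⊓ nv B M g ≤ U') (q : Γ(X.left, U')),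
        B.V.left.presheaf.map (homOfLE (B.π.left.preimage_mono hle)).op (B.π.left.app U' q) =
          B.π.left.app (U ⊓ nv B M g) (resX hle q) := fun hle q =>
      (ConcreteCategory.congr_hom (B.π.left.naturality (homOfLE hle).op) q).symm
    rw [n1 inf_le_left c', n1 inf_le_right r, n1 inf_le_left c, ← map_mul, e]

/-- Pulling back a ratio identity. -/
theorem appTop_of_ratio {U : X.left.Opens} {g h : Γ(B.V.left, ⊤)} {r : Γ(X.left, U)}
    (e0 : GLinSh.resTop B.π U h = B.π.left.app U r * GLinSh.resTop B.π U g)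
    {T : Over (Spec (CommRingCat.of k))} (v : T ⟶ B.V) (hv : ⊤ ≤ v.left ⁻¹ᵁ (B.π.left ⁻¹ᵁ U)) :
    v.left.appTop h = (v ≫ B.π).left.appLE U ⊤ hv r * v.left.appTop g := by
  have e := congrArg (v.left.appLE (B.π.left ⁻¹ᵁ U) ⊤ hv) e0
  rw [map_mul, GLinSh.resTop, GLinSh.resTop, ← CommRingCat.comp_apply, Scheme.Hom.map_appLE] at e
  rw [Scheme.Hom.app_eq_appLE, ← CommRingCat.comp_apply, Scheme.Hom.appLE_comp_appLE] at e
  rw [← CommRingCat.comp_apply, Scheme.Hom.map_appLE] at e
  have e2 : ∀ q, v.left.appTop q = v.left.appLE ⊤ ⊤ (fun _ _ => trivial) q := fun q =>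
    ConcreteCategory.congr_hom (v.left.app_eq_appLE (U := ⊤)) q
  rw [e2, e2]
  exact e

/-- A point over a field lifts to the total space, and a function not vanishing there gives a unit. -/
theorem exists_pt_unit {Ω : Type u} [Field Ω] {T : Over (Spec (CommRingCat.of k))}
    (e : T.left ≅ Spec (CommRingCat.of Ω)) (fT : T ⟶ X) {M : ℕ} {f : Γ(B.V.left, ⊤)}
    (hf : GLinSh.HasWeight B.atlas.chart M f) (hrange : Set.range fT.left.base ⊆ (nv B M f : Set X.left)) :
    ∃ v : T ⟶ B.V, v ≫ B.π = fT ∧ IsUnit (v.left.appTop f) := by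
  obtain ⟨φ, hφ⟩ : ∃ φ : CommRingCat.of k ⟶ CommRingCat.of Ω, Spec.map φ = e.inv ≫ T.hom :=
    ⟨_, Spec.map_preimage _⟩
  letI : Algebra k Ω := φ.hom.toAlgebra
  let j : sp (k := k) Ω ⟶ T := Over.homMk e.inv hφ.symm
  let i : T ⟶ sp (k := k) Ω := Over.homMk e.hom (by
    show e.hom ≫ Spec.map φ = T.hom
    rw [hφ, Iso.hom_inv_id_assoc])
  have hij : i ≫ j = 𝟙 T := Over.OverMorphism.ext e.hom_inv_id
  obtain ⟨U, y, hy, hU⟩ := (loc_sp (k := k) Ω).exists_chart B (j ≫ fT)
  obtain ⟨v, hv, h, he⟩ := exists_pt_coord B hy (j ≫ fT) hU 1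
  refine ⟨i ≫ v, by rw [Category.assoc, hv, ← Category.assoc, hij, Category.id_comp], ?_⟩
  rw [Over.comp_left, Scheme.Hom.comp_appTop, CommRingCat.comp_apply]
  refine RingHom.isUnit_map _ ?_
  obtain ⟨c, hc⟩ := coef_of_hasWeight B hf hy
  have hc' := (coef_iff B).1 hc
  rw [appTop_of_weight B (c := c) (y := y) (n := M) hc' v h, he, one_pow, _root_.mul_one]
  set t := (v ≫ B.π).left.appLE U ⊤ h c with ht
  obtain ⟨ω, hω⟩ := el_surjective (k := k) (R := Ω) t
  rw [← hω]
  refine RingHom.isUnit_map _ (IsUnit.mk0 ω fun h0 => ?_)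
  have h1 : t = 0 := by rw [← hω, h0, map_zero]
  let z : (sp (k := k) Ω).left := IsLocalRing.closedPoint Ω
  have hz : (v ≫ B.π).left z ∈ U := h trivial
  have h2 : z ∈ (sp (k := k) Ω).left.basicOpen t := by
    rw [ht, Scheme.basicOpen_appLE]
    refine ⟨trivial, ?_⟩
    show (v ≫ B.π).left z ∈ X.left.basicOpen c
    exact (nv_inf B hy hc).le ⟨hz, by rw [hv]; exact hrange ⟨j.left z, rfl⟩⟩
  rw [h1, Scheme.basicOpen_zero] at h2
  exact h2

variable [IsAlgClosed k] [CharZero k] {A : Type u} [CommRing A] [HopfAlgebra k A] [Algebra.FiniteType k A]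
  (ei : G ⟶ CoactBr.sp k A) [IsIso ei] [IsMonHom ei]

omit [GrpObj G] [IsAlgClosed k] [CharZero k] [Algebra.FiniteType k A] [IsMonHom ei] in
include ei in
/-- Functions on the group are the Hopf algebra. -/
theorem evA_id_surjective : Function.Surjective (evA ei (𝟙 G)) := fun t => by
  obtain ⟨x, hx⟩ := (ConcreteCategory.bijective_of_isIso
    ((Scheme.ΓSpecIso (CommRingCat.of A)).inv)).2 ((inv ei).left.appTop t)
  refine ⟨x, ?_⟩
  show ((𝟙 G ≫ ei).left.appTop) ((Scheme.ΓSpecIso (CommRingCat.of A)).inv x) = t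
  rw [Category.id_comp]
  refine (congrArg ei.left.appTop hx).trans ?_
  show ((inv ei).left.appTop ≫ ei.left.appTop) t = t
  rw [← Scheme.Hom.comp_appTop, ← Over.comp_left, IsIso.hom_inv_id]
  simp

/-- The orbit map into the product is integral in the sense of coordinates. -/
def OrbitIntegral {κ : Type u} [Fintype κ] (m : κ → κ → A) (d : MvPolynomial κ k) : Prop :=
  ∀ (M : Type u) [CommRing M] [Algebra k M] (ev : A →ₐ[k] M) (ζ : κ → M) (e : M),
    MvPolynomial.aeval ζ d * e = 1 → ∀ r : A,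
      IsIntegral (Algebra.adjoin k (Set.range ζ ∪ Set.range (fun i =>
        Algebra.TensorProduct.lift (MvPolynomial.aeval ζ) ev (fun _ _ => .all _ _)
          (coactA (coef (k := k) m) (MvPolynomial.X i))) ∪ {e})) (ev r)

set_option maxHeartbeats 1600000 in
include ei in
/-- The orbit map of an affine family of points of the locus is finite. -/
theorem orbit_finite [IsAffine G.left] [LocallyOfFiniteType G.hom] {N : ℕ} {κ : Type u}
    [Fintype κ] {b : κ → Γ(B.V.left, ⊤)} {m : κ → κ → A} (hm : IsMatrix B ei b m)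
    (hb : ∀ i, GLinSh.HasWeight B.atlas.chart N (b i)) {d : MvPolynomial κ k} {D : ℕ} (hD : 0 < D)
    (hint : OrbitIntegral m d) (hf : GLinSh.HasWeight B.atlas.chart (D * N) (MvPolynomial.aeval b d))
    (hinv : GLinSh.IsInvFn B.lift (MvPolynomial.aeval b d))
    (haff : IsAffineOpen (nv B (D * N) (MvPolynomial.aeval b d)))
    {T : Over (Spec (CommRingCat.of k))} [IsAffine T.left] {fT : T ⟶ X} (v : T ⟶ B.V) (hv : v ≫ B.π = fT)
    (hu : IsUnit (v.left.appTop (MvPolynomial.aeval b d))) :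
    ∃ hUo : G ⊗ T ⟶ Over.mk ((nv B (D * N) (MvPolynomial.aeval b d)).ι ≫ X.hom),
      hUo ≫ Over.homMk (nv B (D * N) (MvPolynomial.aeval b d)).ι rfl = (G ◁ fT) ≫ a.act ∧
      IsFinite (lift hUo (snd G T)).left := by
  classical
  set f := MvPolynomial.aeval b d with hfdef
  set U := nv B (D * N) f
  haveI : IsAffine U.toScheme := haff
  let Uo : Over (Spec (CommRingCat.of k)) := Over.mk (U.ι ≫ X.hom)
  haveI : IsAffine Uo.left := haff
  let jU : Uo ⟶ X := Over.homMk U.ι rfl
  haveI : IsAffine (G ⊗ T).left :=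
    inferInstanceAs (IsAffine (pullback G.hom T.hom))
  haveI : IsAffine (Uo ⊗ T).left :=
    inferInstanceAs (IsAffine (pullback Uo.hom T.hom))
  -- the orbit in the total space
  let v' : G ⊗ T ⟶ B.V := lift (fst G T) (snd G T ≫ v) ≫ B.lift.act
  have hv'f : v'.left.appTop f = (snd G T).left.appTop (v.left.appTop f) := by
    rw [show v'.left.appTop f = (lift (fst G T) (snd G T ≫ v)).left.appTop (B.lift.act.left.appTop f) from rfl,
      show B.lift.act.left.appTop f = _ from hinv]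
    show (lift (fst G T) (snd G T ≫ v) ≫ snd G B.V).left.appTop f = _
    rw [lift_snd]
    rfl
  have hv'π : v' ≫ B.π = (G ◁ fT) ≫ a.act := by
    rw [lift_act_π, Category.assoc, hv]
    congr 1
  have hv'U : ⊤ ≤ v'.left ⁻¹ᵁ (B.π.left ⁻¹ᵁ U) := by
    intro z _
    show B.π.left (v'.left z) ∈ (U : Set X.left)
    rw [coe_nv B hf]
    refine ⟨v'.left z, ?_, rfl⟩
    show z ∈ v'.left ⁻¹ᵁ B.V.left.basicOpen f
    rw [Scheme.preimage_basicOpen_top, hv'f, Scheme.basicOpen_of_isUnit _ (hu.map _)]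
    trivial
  have hw : Set.range ((G ◁ fT) ≫ a.act).left.base ⊆ Set.range U.ι.base := by
    rw [← hv'π, Scheme.Opens.range_ι]
    rintro _ ⟨z, rfl⟩
    exact hv'U (trivial : z ∈ (⊤ : (G ⊗ T).left.Opens))
  let hUo : G ⊗ T ⟶ Uo := Over.homMk (IsOpenImmersion.lift U.ι ((G ◁ fT) ≫ a.act).left hw) (by
    show _ ≫ U.ι ≫ X.hom = _
    rw [IsOpenImmersion.lift_fac_assoc, Over.w])
  have hUoj : hUo ≫ jU = (G ◁ fT) ≫ a.act := Over.OverMorphism.ext (IsOpenImmersion.lift_fac _ _ _)
  let h : G ⊗ T ⟶ Uo ⊗ T := lift hUo (snd G T)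
  -- integrality
  letI : Algebra Γ((Uo ⊗ T).left, ⊤) Γ((G ⊗ T).left, ⊤) := h.left.appTop.hom.toAlgebra
  let Q := integralClosure Γ((Uo ⊗ T).left, ⊤) Γ((G ⊗ T).left, ⊤)
  have hbase : ∀ s, h.left.appTop s ∈ Q := fun s => Q.algebraMap_mem s
  let E : Subalgebra k Γ((G ⊗ T).left, ⊤) :=
    { Q.toSubsemiring with
      algebraMap_mem' := fun c => by
        show algebraMap k _ c ∈ Q
        rw [algebraMap_eq_str, ← str_nat h c]
        exact hbase _ }
  have hsndQ : ∀ s, (snd G T).left.appTop s ∈ E := fun s => by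
    rw [← show h ≫ snd Uo T = snd G T from lift_snd _ _, Over.comp_left, Scheme.Hom.comp_appTop,
      CommRingCat.comp_apply]
    exact hbase _
  have hXQ : ∀ r : Γ(X.left, U), (v' ≫ B.π).left.appLE U ⊤ hv'U r ∈ E := fun r => by
    have e1 : v' ≫ B.π = h ≫ fst Uo T ≫ jU := by rw [← Category.assoc, lift_fst, hUoj, hv'π]
    have e2 : U.ι ⁻¹ᵁ U = ⊤ := U.ι_preimage_self
    have hle : (⊤ : (Uo ⊗ T).left.Opens) ≤ (fst Uo T ≫ jU).left ⁻¹ᵁ U := fun z _ => ((fst Uo T).left z).2
    rw [show (v' ≫ B.π).left.appLE U ⊤ hv'U = (h.left ≫ (fst Uo T ≫ jU).left).appLE U ⊤ (fun z _ => hle trivial) from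
      HMNum19.appLE_congr (congrArg (fun q : G ⊗ T ⟶ X => q.left) e1) _]
    rw [← Scheme.Hom.appLE_comp_appLE _ _ _ _ _ hle (fun z _ => trivial), CommRingCat.comp_apply,
      show h.left.appLE ⊤ ⊤ _ = h.left.appTop from (h.left.app_eq_appLE (U := ⊤)).symm]
    exact hbase _
  let ζ : κ → Γ((G ⊗ T).left, ⊤) := fun i => (snd G T).left.appTop (v.left.appTop (b i))
  let ev : A →ₐ[k] Γ((G ⊗ T).left, ⊤) := (evA ei (fst G T)).comp (HopfAlgebra.antipodeAlgHom k A)
  have hphi : ∀ i, Algebra.TensorProduct.lift (MvPolynomial.aeval ζ) ev (fun _ _ => .all _ _)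
      (coactA (coef (k := k) m) (MvPolynomial.X i)) = v'.left.appTop (b i) := fun i => by
    rw [coactA, MvPolynomial.aeval_X, map_sum, hm _ (fst G T) (snd G T ≫ v) i]
    refine Finset.sum_congr rfl fun j _ => ?_
    rw [Algebra.TensorProduct.lift_tmul, MvPolynomial.aeval_X, mul_comm]
    simp only [ev, AlgHom.comp_apply, coef, HopfAlgebra.antipodeAlgHom_apply]
    rw [Groth.Agent.CoalgH23.antipode_antipode (k := k) (m i j), Over.comp_left, Scheme.Hom.comp_appTop,
      CommRingCat.comp_apply]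
  have hdζ : MvPolynomial.aeval ζ d = (snd G T).left.appTop (v.left.appTop f) := by
    rw [hfdef, appTop_aeval, appTop_aeval]
  obtain ⟨w, hw'⟩ := isUnit_iff_exists_inv.1 hu
  have hev : ∀ r, ev r ∈ E := fun r => by
    have h1 := hint _ ev ζ ((snd G T).left.appTop w) (by rw [hdζ, ← map_mul, hw', map_one]) r
    have hS : ∀ x ∈ Algebra.adjoin k (Set.range ζ ∪ Set.range (fun i =>
        Algebra.TensorProduct.lift (MvPolynomial.aeval ζ) ev (fun _ _ => .all _ _)
          (coactA (coef (k := k) m) (MvPolynomial.X i))) ∪ {(snd G T).left.appTop w}), x ∈ E := by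
      refine fun x hx => Algebra.adjoin_le ?_ hx
      rintro x ((⟨i, rfl⟩ | ⟨i, rfl⟩) | rfl)
      · exact hsndQ _
      · show _ ∈ Q
        beta_reduce
        rw [hphi]
        obtain ⟨q, hq⟩ := exists_ratio_eq B hf (h := b i ^ D) (HasWeight.pow B (hb i) D)
        refine IsIntegral.of_pow hD ?_
        have := appTop_of_ratio B hq v' hv'U
        rw [map_pow] at this
        rw [this, hv'f]
        exact (hXQ q : _ ∈ Q).mul (hsndQ _)
      · exact hsndQ _
    obtain ⟨p, hp, hp0⟩ := h1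
    let incl : _ →+* Q := (Subalgebra.val _).toRingHom.codRestrict Q fun x => hS _ x.2
    refine isIntegral_trans (A := Q) _ ⟨p.map incl, hp.map _, ?_⟩
    rw [Polynomial.eval₂_map]
    exact hp0
  have hall : ∀ t : Γ((G ⊗ T).left, ⊤), t ∈ E := fun t => by
    let σ : G ⊗ T ⟶ T ⊗ G := lift (snd G T) (fst G T)
    haveI : IsIso σ := ⟨lift (snd T G) (fst T G), by ext1 <;> simp [σ], by ext1 <;> simp [σ]⟩
    haveI : IsIso σ.left := inferInstanceAs (IsIso ((Over.forget _).map σ))
    haveI : IsIso σ.left.appTop := inferInstanceAs (IsIso (σ.left.app ⊤))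
    obtain ⟨s, rfl⟩ := (ConcreteCategory.bijective_of_isIso σ.left.appTop).2 t
    obtain ⟨z, rfl⟩ := (HomSch19.theta_bijective T G).2 s
    let F := σ.left.appTop.hom.comp (thetaT T G)
    show F z ∈ E
    induction z with
    | zero => rw [map_zero]; exact E.zero_mem
    | add p q hp hq => rw [map_add]; exact E.add_mem hp hq
    | tmul x s =>
      show σ.left.appTop (thetaT T G (x ⊗ₜ s)) ∈ E
      rw [pair_theta]
      refine E.mul_mem (hsndQ x) ?_
      obtain ⟨r, rfl⟩ := evA_id_surjective ei s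
      rw [← evA_comp, Category.comp_id, ← Groth.Agent.CoalgH23.antipode_antipode (k := k) r]
      exact hev _
  haveI : IsIntegralHom h.left := by
    rw [HasAffineProperty.iff_of_isAffine (P := @IsIntegralHom)]
    exact ⟨inferInstance, fun t => hall t⟩
  haveI : LocallyOfFiniteType h.left := by
    haveI : LocallyOfFiniteType (h.left ≫ (snd Uo T).left) := by
      rw [← Over.comp_left, lift_snd]
      exact inferInstanceAs (LocallyOfFiniteType (pullback.snd G.hom T.hom))
    exact locallyOfFiniteType_of_comp h.left (snd Uo T).left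
  haveI : IsFinite h.left := (IsFinite.iff_isIntegralHom_and_locallyOfFiniteType _).2 ⟨inferInstance, inferInstance⟩
  exact ⟨hUo, hUoj, inferInstance⟩

set_option maxHeartbeats 1600000 in
include ei in
/-- Orbits in the locus are closed and stabilisers finite. -/
theorem orbit_closed_finite [IsAffine G.left] [LocallyOfFiniteType G.hom] {N : ℕ} {κ : Type u}
    [Fintype κ] {b : κ → Γ(B.V.left, ⊤)} {m : κ → κ → A} (hm : IsMatrix B ei b m)
    (hb : ∀ i, GLinSh.HasWeight B.atlas.chart N (b i)) {d : MvPolynomial κ k} {D : ℕ} (hD : 0 < D)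
    (hint : OrbitIntegral m d) (hf : GLinSh.HasWeight B.atlas.chart (D * N) (MvPolynomial.aeval b d))
    (hinv : GLinSh.IsInvFn B.lift (MvPolynomial.aeval b d))
    (haff : IsAffineOpen (nv B (D * N) (MvPolynomial.aeval b d)))
    (Ω : Type u) [Field Ω] (T : Over (Spec (CommRingCat.of k))) (e : T.left ≅ Spec (CommRingCat.of Ω)) (fT : T ⟶ X)
    (hrange : Set.range fT.left.base ⊆ (nv B (D * N) (MvPolynomial.aeval b d) : Set X.left)) :
    IsClosed ((fun p : (fst X T).left ⁻¹ᵁ nv B (D * N) (MvPolynomial.aeval b d) => (p : (X ⊗ T).left)) ⁻¹'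
      Set.range (GIT.psi a fT).left.base) ∧ IsFinite (GLinSh.stabTo a fT) := by
  classical
  obtain ⟨v, hv, hu⟩ := exists_pt_unit B e fT hf hrange
  haveI : IsAffine T.left := IsAffine.of_isIso e.hom
  obtain ⟨hUo, hUoj, hfin⟩ := orbit_finite B ei hm hb hD hint hf hinv haff v hv hu
  let U := nv B (D * N) (MvPolynomial.aeval b d)
  let Uo : Over (Spec (CommRingCat.of k)) := Over.mk (U.ι ≫ X.hom)
  let jU : Uo ⟶ X := Over.homMk U.ι rfl
  let h : G ⊗ T ⟶ Uo ⊗ T := lift hUo (snd G T)
  haveI : IsFinite h.left := hfin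
  have hpsi : h ≫ (jU ▷ T) = GIT.psi a fT := by
    rw [lift_whiskerRight, hUoj]
    rfl
  -- the embedding
  haveI : Mono jU := ⟨fun g g' hg => Over.OverMorphism.ext ((cancel_mono U.ι).1
    (congrArg (fun q => CommaMorphism.left q) hg))⟩
  haveI hmono : Mono (jU ▷ T) := ⟨fun g g' hg => by
    ext1
    · rw [← cancel_mono jU]
      simpa using congrArg (· ≫ fst X T) hg
    · simpa using congrArg (· ≫ snd X T) hg⟩
  constructor
  · let O := (fst X T).left ⁻¹ᵁ U
    let O' : Over (Spec (CommRingCat.of k)) := Over.mk (O.ι ≫ (X ⊗ T).hom)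
    let ιO : O' ⟶ X ⊗ T := Over.homMk O.ι rfl
    have hO : Set.range (ιO ≫ fst X T).left.base ⊆ Set.range U.ι.base := by
      rw [Scheme.Opens.range_ι]
      rintro _ ⟨z, rfl⟩
      exact z.2
    let qU : O' ⟶ Uo := Over.homMk (IsOpenImmersion.lift U.ι (ιO ≫ fst X T).left hO) (by
      show _ ≫ U.ι ≫ X.hom = _
      rw [IsOpenImmersion.lift_fac_assoc, Over.w])
    let q : O' ⟶ Uo ⊗ T := lift qU (ιO ≫ snd X T)
    have hq : q ≫ (jU ▷ T) = ιO := by
      rw [lift_whiskerRight, show qU ≫ jU = ιO ≫ fst X T from Over.OverMorphism.ext (IsOpenImmersion.lift_fac _ _ _)]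
      ext1 <;> simp
    have hj : Set.range (jU ▷ T).left.base ⊆ Set.range O.ι.base := by
      rw [Scheme.Opens.range_ι]
      rintro _ ⟨z, rfl⟩
      show ((jU ▷ T) ≫ fst X T).left z ∈ U
      rw [whiskerRight_fst]
      exact ((fst Uo T).left z).2
    let j' : Uo ⊗ T ⟶ O' := Over.homMk (IsOpenImmersion.lift O.ι (jU ▷ T).left hj) (by
      show _ ≫ O.ι ≫ (X ⊗ T).hom = _
      rw [IsOpenImmersion.lift_fac_assoc, Over.w])
    have hj' : j' ≫ ιO = jU ▷ T := Over.OverMorphism.ext (IsOpenImmersion.lift_fac _ _ _)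
    have hjq : j' ≫ q = 𝟙 _ := by
      rw [← cancel_mono (jU ▷ T), Category.assoc, hq, hj', Category.id_comp]
    have hset : ((fun p : O => (p : (X ⊗ T).left)) ⁻¹' Set.range (GIT.psi a fT).left.base) =
        q.left.base ⁻¹' Set.range h.left.base := by
      ext p
      constructor
      · rintro ⟨g, hg⟩
        refine ⟨g, ?_⟩
        rw [← hpsi] at hg
        have : j'.left (h.left g) = p := Subtype.ext (by
          show (j' ≫ ιO).left (h.left g) = p.1
          rw [hj']; exact hg)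
        rw [← this]
        show h.left g = (j' ≫ q).left (h.left g)
        rw [hjq]
        rfl
      · rintro ⟨g, hg⟩
        refine ⟨g, ?_⟩
        rw [← hpsi]
        show (jU ▷ T).left (h.left g) = ιO.left p
        rw [show h.left g = q.left p from hg, ← hq]
        rfl
    refine hset ▸ IsClosed.preimage q.left.continuous ?_
    rw [← Set.image_univ]
    exact h.left.isClosedMap _ isClosed_univ
  · have hs : Set.range fT.left.base ⊆ Set.range U.ι.base := by rwa [Scheme.Opens.range_ι]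
    let sU : T ⟶ Uo := Over.homMk (IsOpenImmersion.lift U.ι fT.left hs) (by
      show _ ≫ U.ι ≫ X.hom = _
      rw [IsOpenImmersion.lift_fac_assoc, Over.w])
    let s : T ⟶ Uo ⊗ T := lift sU (𝟙 T)
    have hsj : s ≫ (jU ▷ T) = lift fT (𝟙 T) := by
      rw [lift_whiskerRight, show sU ≫ jU = fT from Over.OverMorphism.ext (IsOpenImmersion.lift_fac _ _ _)]
    haveI : Mono (jU ▷ T).left := inferInstanceAs (Mono ((Over.forget _).map (jU ▷ T)))
    have e1 : (GIT.psi a fT).left = h.left ≫ (jU ▷ T).left := by rw [← hpsi]; rfl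
    have e2 : (lift fT (𝟙 T)).left = s.left ≫ (jU ▷ T).left := by rw [← hsj]; rfl
    have hp := IsPullback.of_isLimit (pullbackIsPullbackOfCompMono h.left s.left (jU ▷ T).left)
    show IsFinite (pullback.snd (GIT.psi a fT).left (lift fT (𝟙 T)).left)
    suffices key : ∀ (p q : _ ⟶ (X ⊗ T).left), p = h.left ≫ (jU ▷ T).left → q = s.left ≫ (jU ▷ T).left →
        IsFinite (pullback.snd p q) from key _ _ e1 e2
    rintro p q rfl rfl
    rw [← hp.isoPullback_inv_snd]
    haveI : IsFinite (pullback.snd h.left s.left) := MorphismProperty.pullback_snd _ _ inferInstance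
    exact MorphismProperty.comp_mem @IsFinite hp.isoPullback.inv (pullback.snd h.left s.left) inferInstance this

end Groth.Agent.GITHM15
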