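import Groth.Agent.Lib.GITHM15.Extend
import Groth.Agent.Lib.GITHM15.Orbit

/-!
# An affine invariant locus inside a representation
-/

set_option autoImplicit false
set_option linter.style.haveILetI false
set_option backward.isDefEq.respectTransparency.types false
universe u

open CategoryTheory Limits MonoidalCategory CartesianMonoidalCategory MonObj AlgebraicGeometry TopologicalSpace
open scoped TensorProduct

noncomputable section

namespace Groth.Agent.GITHM15

open Groth.Agent.WtMu19
open Groth.Agent.FixLine19 (sp str)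

attribute [local instance] HomSch19.algW

variable {k : Type u} [Field k]
  {G X : Over (Spec (CommRingCat.of k))} [GrpObj G] {a : AlgGrp.Action G X} (B : GLinSh.LinBun G a)

/-- Finitely many functions of one weight lie in a stable space with a finite basis of that weight. -/
theorem exists_stable_basis [IsAffine G.left] [CompactSpace X.left] {N : ℕ} {J : Type u} [Finite J]
    (g : J → Γ(B.V.left, ⊤)) (hg : ∀ j, GLinSh.HasWeight B.atlas.chart N (g j)) :
    ∃ (κ : Type u) (_ : Fintype κ) (b : κ → Γ(B.V.left, ⊤)), LinearIndependent k b ∧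
      (∀ d i, Op B d (b i) ∈ Submodule.span k (Set.range b)) ∧
      (∀ i, GLinSh.HasWeight B.atlas.chart N (b i)) ∧ ∀ j, g j ∈ Submodule.span k (Set.range b) := by
  classical
  choose W hW hWmem using fun z : J => exists_finite_translates B (g z)
  let S : Set Γ(B.V.left, ⊤) := ⋃ z : J, Set.range fun d => Op B d (g z)
  obtain ⟨bs, hbsS, hbsspan, hbsli⟩ := exists_linearIndependent k S
  have hfin : (⨆ z : J, W z).FG := Submodule.fg_iSup _ hW
  haveI : Module.Finite k (⨆ z : J, W z : Submodule k Γ(B.V.left, ⊤)) := Module.Finite.iff_fg.2 hfin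
  have hSle : Submodule.span k S ≤ ⨆ z : J, W z := Submodule.span_le.2 fun x hx => by
    obtain ⟨z, d, rfl⟩ := Set.mem_iUnion.1 hx
    exact Submodule.mem_iSup_of_mem z (hWmem z d)
  haveI : Finite bs := by
    have hli : LinearIndependent k (fun x : bs =>
        (⟨x.1, hSle (Submodule.subset_span (hbsS x.2))⟩ : (⨆ z : J, W z : Submodule k Γ(B.V.left, ⊤)))) :=
      LinearIndependent.of_comp (⨆ z : J, W z : Submodule k Γ(B.V.left, ⊤)).subtype hbsli
    exact hli.finite
  letI := Fintype.ofFinite bs
  have hspan : Submodule.span k (Set.range (Subtype.val : bs → Γ(B.V.left, ⊤))) = Submodule.span k S := by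
    rw [Subtype.range_coe_subtype]
    exact hbsspan
  have hbg : ∀ i : bs, ∃ (z : J) (d : 𝟙_ (Over (Spec (CommRingCat.of k))) ⟶ G), Op B d (g z) = i.1 := fun i => by
    obtain ⟨z, d, hd⟩ := Set.mem_iUnion.1 (hbsS i.2)
    exact ⟨z, d, hd⟩
  refine ⟨bs, inferInstance, Subtype.val, hbsli, fun d i => ?_, fun i => ?_, fun j => ?_⟩
  · obtain ⟨z, e, he⟩ := hbg i
    rw [hspan, ← he, Op_Op]
    exact Submodule.subset_span (Set.mem_iUnion.2 ⟨z, _, rfl⟩)
  · obtain ⟨z, d, hd⟩ := hbg i
    rw [← hd]
    exact hasWeight_Op B (hg z) d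
  · rw [hspan]
    exact Submodule.subset_span (Set.mem_iUnion.2 ⟨j, 1, Op_one B _⟩)

/-- Translations fix invariant functions. -/
theorem Op_of_isInvFn {f : Γ(B.V.left, ⊤)} (hf : GLinSh.IsInvFn B.lift f)
    (d : 𝟙_ (Over (Spec (CommRingCat.of k))) ⟶ G) : Op B d f = f := by
  rw [Op_apply, Over.comp_left, Scheme.Hom.comp_appTop, CommRingCat.comp_apply,
    show B.lift.act.left.appTop f = _ from hf, ← CommRingCat.comp_apply, ← Scheme.Hom.comp_appTop, ← Over.comp_left,
    lift_snd]
  simp

/-- Restriction of a scalar. -/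
theorem resTop_str_mul {U : X.left.Opens} (c : k) (g : Γ(B.V.left, ⊤)) :
    GLinSh.resTop B.π U (c • g) =
      B.π.left.app U (algebraMap k Γ(X.left, U) c) * GLinSh.resTop B.π U g := by
  rw [smul_eq_str, GLinSh.resTop, map_mul, ← str_nat B.π c]
  congr 1
  rw [show algebraMap k Γ(X.left, U) c = resX le_top (str X c) by
    rw [← algebraMap_eq_str]
    exact ((HomSch19.resA X (le_top : U ≤ ⊤)).commutes c).symm]
  exact (ConcreteCategory.congr_hom (B.π.left.naturality (homOfLE le_top).op) (str X c)).symm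

variable [IsAlgClosed k] [CharZero k] {A : Type u} [CommRing A] [HopfAlgebra k A] [Algebra.FiniteType k A]
  (ei : G ⟶ CoactBr.sp k A) [IsIso ei] [IsMonHom ei]

include ei in
/-- An affine invariant locus is a closed subscheme of a hyperplane in a representation. -/
theorem exists_model [IsAffine G.left] [LocallyOfFiniteType X.hom] [CompactSpace X.left] {n : ℕ}
    {f : Γ(B.V.left, ⊤)} (hf : B.IsInvSection n f) (ha : IsAffineOpen (nv B n f)) :
    ∃ (M : ℕ) (κ : Type u) (_ : Fintype κ) (b : κ → Γ(B.V.left, ⊤)) (m : κ → κ → A) (d₁ : MvPolynomial κ k)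
      (q : κ → Γ(X.left, nv B n f)), 1 ≤ M ∧ IsMatrix B ei b m ∧ LinearIndependent k b ∧
      (∀ i, GLinSh.HasWeight B.atlas.chart (M * n) (b i)) ∧ d₁.IsHomogeneous 1 ∧
      coactA (coef (k := k) m) d₁ = d₁ ⊗ₜ[k] (1 : A) ∧ MvPolynomial.aeval b d₁ = f ^ M ∧
      (∀ i, GLinSh.resTop B.π (nv B n f) (b i) =
        B.π.left.app (nv B n f) (q i) * GLinSh.resTop B.π (nv B n f) (f ^ M)) ∧
      Function.Surjective (MvPolynomial.aeval q : MvPolynomial κ k →ₐ[k] Γ(X.left, nv B n f)) := by
  classical
  set U := nv B n f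
  haveI : Algebra.FiniteType k Γ(X.left, U) := by
    have h := X.hom.finiteType_appLE (isAffineOpen_top _) ha (e := fun _ _ => trivial)
    have h2 := h.comp (RingHom.FiniteType.of_surjective _
      (ConcreteCategory.bijective_of_isIso (Scheme.ΓSpecIso (CommRingCat.of k)).inv).2)
    exact RingHom.finiteType_algebraMap.1 h2
  obtain ⟨gen, hgen⟩ := (inferInstance : Algebra.FiniteType k Γ(X.left, U)).out
  choose K hK using fun r : gen => exists_extend B hf.1 (r : Γ(X.left, U))
  let M := Finset.univ.sup K + 1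
  choose g hgw hge using fun r : gen => hK r M ((Finset.le_sup (f := K) (Finset.mem_univ r)).trans (Nat.le_succ _))
  obtain ⟨κ, _, b, hbli, hst, hbw, hmem⟩ := exists_stable_basis B (J := ULift.{u} (Option gen))
    (fun j => j.down.elim (f ^ M) g) (fun j => by
      rcases j with ⟨_ | r⟩
      · exact HasWeight.pow B hf.1 M
      · exact hgw r)
  obtain ⟨m, hm⟩ := exists_matrix B ei b hbli hst
  have hpow : nv B (M * n) (f ^ M) = U := nv_pow B hf.1 M (Nat.succ_pos _)
  have hq : ∀ i, ∃ r : Γ(X.left, U), GLinSh.resTop B.π U (b i) =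
      B.π.left.app U r * GLinSh.resTop B.π U (f ^ M) := fun i => by
    have h := exists_ratio_eq B (HasWeight.pow B hf.1 M) (hbw i)
    rwa [hpow] at h
  choose q hq using hq
  obtain ⟨lam, hlam⟩ := Submodule.mem_span_range_iff_exists_fun (R := k) |>.1 (hmem ⟨none⟩)
  have hlam' : ∑ i, lam i • b i = f ^ M := hlam
  refine ⟨M, κ, inferInstance, b, m, ∑ i, MvPolynomial.C (lam i) * MvPolynomial.X i, q, Nat.succ_pos _, hm, hbli,
    hbw, ?_, ?_, ?_, hq, ?_⟩
  · exact MvPolynomial.IsHomogeneous.sum _ _ _ fun i _ => (MvPolynomial.isHomogeneous_X k i).C_mul _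
  · haveI : IsReduced A := Groth.Agent.HopfRedH28.isReduced_of_charZero k A
    have hinv : GLinSh.IsInvFn B.lift (f ^ M) := by
      show B.lift.act.left.appTop (f ^ M) = _
      rw [map_pow, map_pow, show B.lift.act.left.appTop f = _ from hf.2]
    have hcol : ∀ j, ∑ i, lam i • m i j = algebraMap k A (lam j) := fun j => by
      rw [← sub_eq_zero]
      refine RedLR15.eq_zero_of_forall_pts (k := k) fun χ => ?_
      have h := Op_of_isInvFn B hinv (gPt ei χ)
      rw [← hlam', map_sum] at h
      simp only [map_smul, hm.Op_gPt B ei χ, Finset.smul_sum, smul_smul] at h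
      rw [Finset.sum_comm] at h
      simp only [← Finset.sum_smul] at h
      have := congrFun (hbli.fintypeLinearCombination_injective (R := k)
        (a₁ := fun j => ∑ i, lam i * χ (m i j)) (a₂ := lam)
        (by simpa [Fintype.linearCombination_apply] using h)) j
      rw [map_sub, map_sum, AlgHom.commutes, sub_eq_zero]
      simpa using this
    simp only [map_sum, map_mul, coactA, MvPolynomial.aeval_X, MvPolynomial.aeval_C, Finset.mul_sum]
    rw [Finset.sum_comm, TensorProduct.sum_tmul]
    refine Finset.sum_congr rfl fun j _ => ?_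
    have e : ∑ i, lam i • coef (k := k) m i j = algebraMap k A (lam j) := by
      have h := congrArg (HopfAlgebra.antipodeAlgHom k A) (hcol j)
      rw [map_sum, AlgHom.commutes] at h
      simpa [coef] using h
    simp only [← Algebra.smul_def, ← TensorProduct.tmul_smul, ← TensorProduct.tmul_sum, e,
      MvPolynomial.C_mul', TensorProduct.smul_tmul]
    rw [Algebra.algebraMap_eq_smul_one]
  · rw [map_sum, ← hlam']
    refine Finset.sum_congr rfl fun i _ => ?_
    rw [map_mul, MvPolynomial.aeval_C, MvPolynomial.aeval_X, Algebra.smul_def]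
  · rw [← AlgHom.range_eq_top, eq_top_iff, ← hgen, Algebra.adjoin_le_iff]
    intro r hr
    obtain ⟨μ', hμ⟩ := Submodule.mem_span_range_iff_exists_fun (R := k) |>.1 (hmem ⟨some ⟨r, hr⟩⟩)
    refine ⟨∑ i, MvPolynomial.C (μ' i) * MvPolynomial.X i, ?_⟩
    refine (ratio_unique B (HasWeight.pow B hf.1 M) hpow.ge (h := g ⟨r, hr⟩) (hge ⟨r, hr⟩) ?_).symm
    rw [show g ⟨r, hr⟩ = ∑ i, μ' i • b i from hμ.symm]
    refine (map_sum (B.V.left.presheaf.map (homOfLE le_top).op).hom _ _).trans ?_
    simp only [AlgHom.toRingHom_eq_coe, RingHom.coe_coe, map_sum, map_mul, MvPolynomial.aeval_C,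
      MvPolynomial.aeval_X, Finset.sum_mul]
    refine Finset.sum_congr rfl fun i _ => ?_
    refine (resTop_str_mul B (μ' i) (b i)).trans ?_
    rw [hq i, _root_.mul_assoc]

end Groth.Agent.GITHM15
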