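import Groth.Agent.Lib.GITHM15.Nhd
import Mathlib.AlgebraicGeometry.ZariskisMainTheorem
import Mathlib.AlgebraicGeometry.Morphisms.Immersion
import Mathlib.FieldTheory.IsAlgClosed.AlgebraicClosure

/-!
# A rational point with finite stabiliser near a point with finite stabilisers
-/

set_option autoImplicit false
set_option linter.style.haveILetI false
set_option backward.isDefEq.respectTransparency.types false
universe u

open CategoryTheory Limits MonoidalCategory CartesianMonoidalCategory MonObj AlgebraicGeometry TopologicalSpace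

noncomputable section

namespace Groth.Agent.GITHM15

open Groth.Agent.WtMu19
open Groth.Agent.FixLine19 (sp str)

variable {k : Type u} [Field k] {G X : Over (Spec (CommRingCat.of k))} [GrpObj G] {a : AlgGrp.Action G X}

/-- The two maps on a stabiliser. -/
theorem stab_fst_snd {T : Over (Spec (CommRingCat.of k))} (f : T ⟶ X) :
    pullback.fst (GIT.psi a f).left (lift f (𝟙 T)).left ≫ (snd G T).left =
      pullback.snd (GIT.psi a f).left (lift f (𝟙 T)).left := by
  have e := congrArg (· ≫ (snd X T).left) (pullback.condition (f := (GIT.psi a f).left) (g := (lift f (𝟙 T)).left))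
  simp only [Category.assoc, ← Over.comp_left, GIT.psi, lift_snd] at e
  exact e.trans (Category.comp_id _)

/-- Stabilisers of a family and of a point of the family. -/
theorem stab_fibre_finite {T' T : Over (Spec (CommRingCat.of k))} [Subsingleton T.left] (f : T' ⟶ X) (s : T ⟶ T')
    (hfin : IsFinite (GLinSh.stabTo a (s ≫ f))) (t : T.left) :
    ((pullback.snd (GIT.psi a f).left (lift f (𝟙 T')).left).base ⁻¹' {s.left t}).Finite := by
  let σ := pullback.snd (GIT.psi a f).left (lift f (𝟙 T')).left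
  let p₁ := pullback.fst σ s.left
  let p₂ := pullback.snd σ s.left
  let P : Over (Spec (CommRingCat.of k)) := Over.mk (p₂ ≫ T.hom)
  let q : P ⟶ T := Over.homMk p₂ rfl
  let π : P ⟶ G ⊗ T' := Over.homMk (p₁ ≫ pullback.fst (GIT.psi a f).left (lift f (𝟙 T')).left) (by
    show (p₁ ≫ _) ≫ _ = p₂ ≫ T.hom
    rw [← Over.w (snd G T'), Category.assoc, ← Category.assoc (pullback.fst (GIT.psi a f).left _), stab_fst_snd, ← Category.assoc,
      show p₁ ≫ σ = p₂ ≫ s.left from pullback.condition, Category.assoc, Over.w s])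
  have hπs : π ≫ snd G T' = q ≫ s := by
    refine Over.OverMorphism.ext ?_
    show (p₁ ≫ _) ≫ (snd G T').left = p₂ ≫ s.left
    rw [Category.assoc, stab_fst_snd]
    exact pullback.condition
  have hπψ : π ≫ GIT.psi a f = π ≫ snd G T' ≫ lift f (𝟙 T') := by
    refine Over.OverMorphism.ext ?_
    show (p₁ ≫ _) ≫ _ = (p₁ ≫ _) ≫ (snd G T').left ≫ _
    rw [Category.assoc, Category.assoc, pullback.condition, ← Category.assoc (pullback.fst _ _) (snd G T').left,
      stab_fst_snd]
  let ℓ : P ⟶ G ⊗ T := lift (π ≫ fst G T') q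
  have hℓ : ℓ ≫ (G ◁ s) = π := by
    ext1 <;> simp [ℓ, hπs]
  have hℓψ : ℓ ≫ GIT.psi a (s ≫ f) = q ≫ lift (s ≫ f) (𝟙 T) := by
    ext1
    · simp only [GIT.psi, Category.assoc, lift_fst]
      rw [whiskerLeft_comp, Category.assoc, ← Category.assoc ℓ, hℓ, ← Category.assoc q s f, ← hπs]
      have := congrArg (· ≫ fst X T') hπψ
      simpa [GIT.psi] using this
    · simp [GIT.psi, ℓ]
  let L : P.left ⟶ pullback (GIT.psi a (s ≫ f)).left (lift (s ≫ f) (𝟙 T)).left := pullback.lift ℓ.left p₂ (congrArg (fun e => CommaMorphism.left e) hℓψ)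
  let Φ : pullback (GIT.psi a (s ≫ f)).left (lift (s ≫ f) (𝟙 T)).left ⟶
      pullback (GIT.psi a f).left (lift f (𝟙 T')).left := pullback.map _ _ _ _ (G ◁ s).left s.left (X ◁ s).left
    (by rw [← Over.comp_left, ← Over.comp_left]; congr 1; ext1 <;> simp [GIT.psi])
    (by rw [← Over.comp_left, ← Over.comp_left]; congr 1; ext1 <;> simp)
  have hLΦ : L ≫ Φ = p₁ := by
    apply pullback.hom_ext
    · simp only [Category.assoc, Φ, pullback.lift_fst, L, pullback.lift_fst_assoc]
      exact congrArg (fun e => CommaMorphism.left e) hℓ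
    · simp only [Category.assoc, Φ, pullback.lift_snd, L, pullback.lift_snd_assoc]
      exact pullback.condition.symm
  have hfinset : Finite ↥(pullback (GIT.psi a (s ≫ f)).left (lift (s ≫ f) (𝟙 T)).left) := by
    show Finite (GLinSh.stab a (s ≫ f))
    haveI := hfin
    rw [← Set.finite_univ_iff]
    convert (GLinSh.stabTo a (s ≫ f)).finite_preimage_singleton t using 1
    exact Set.eq_univ_of_forall (fun z => Subsingleton.elim _ _) |>.symm
  refine (Set.finite_range Φ.base).subset fun z hz => ?_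
  obtain ⟨w, hw, -⟩ := Scheme.Pullback.exists_preimage_pullback (f := σ) (g := s.left) z t hz
  refine ⟨L w, ?_⟩
  show (L ≫ Φ) w = z
  rw [hLΦ]
  exact hw

/-- The rational points fixing a point form a subgroup. -/
theorem stabPts_div {y : 𝟙_ (Over (Spec (CommRingCat.of k))) ⟶ X}
    {g h : 𝟙_ (Over (Spec (CommRingCat.of k))) ⟶ G} (hg : g ∈ StabPts a y) (hh : h ∈ StabPts a y) :
    g * h⁻¹ ∈ StabPts a y := by
  have hinv : lift h⁻¹ y ≫ a.act = y := by
    conv_lhs => rw [← show lift h y ≫ a.act = y from hh, ← AlgGrpBasic19.act_mul, inv_mul_cancel,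
      AlgGrpBasic19.act_one]
  show _ = _
  rw [AlgGrpBasic19.act_mul, hinv]
  exact hg

variable [IsAlgClosed k]

set_option maxHeartbeats 1600000 in
/-- Near a point with finite stabilisers some rational point has finite stabiliser. -/
theorem exists_kpt_finStab [IsAffine G.left] [LocallyOfFiniteType G.hom] [LocallyOfFiniteType X.hom]
    {U : X.left.Opens} {x : X.left} (hxU : x ∈ U)
    (hfin : ∀ (Ω : Type u) [Field Ω] [IsAlgClosed Ω] (T : Over (Spec (CommRingCat.of k)))
      (_ : T.left ≅ Spec (CommRingCat.of Ω)) (f : T ⟶ X), Set.range f.left.base = {x} → IsFinite (GLinSh.stabTo a f)) :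
    ∃ y : 𝟙_ (Over (Spec (CommRingCat.of k))) ⟶ X,
      (∀ p, x ⤳ y.left p ∧ y.left p ∈ U) ∧ (StabPts a y).Finite := by
  classical
  let Uo : Over (Spec (CommRingCat.of k)) := Over.mk (U.ι ≫ X.hom)
  let jU : Uo ⟶ X := Over.homMk U.ι rfl
  haveI : Subsingleton (Spec (CommRingCat.of k) : Scheme.{u}) := inferInstanceAs (Subsingleton (PrimeSpectrum k))
  haveI : LocallyOfFiniteType Uo.hom := inferInstanceAs (LocallyOfFiniteType (U.ι ≫ X.hom))
  haveI : LocallyOfFiniteType (GIT.psi a jU).left := by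
    haveI : LocallyOfFiniteType ((GIT.psi a jU).left ≫ (snd X Uo).left) := by
      rw [← Over.comp_left, GIT.psi, lift_snd]
      exact inferInstanceAs (LocallyOfFiniteType (pullback.snd G.hom Uo.hom))
    exact locallyOfFiniteType_of_comp (GIT.psi a jU).left (snd X Uo).left
  let σ := pullback.snd (GIT.psi a jU).left (lift jU (𝟙 Uo)).left
  haveI : LocallyOfFiniteType σ := MorphismProperty.pullback_snd _ _ inferInstance
  let p := pullback.fst (GIT.psi a jU).left (lift jU (𝟙 Uo)).left
  haveI : IsImmersion (lift jU (𝟙 Uo)).left := by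
    haveI : IsImmersion ((lift jU (𝟙 Uo)).left ≫ (snd X Uo).left) := by
      rw [← Over.comp_left, lift_snd]
      exact inferInstanceAs (IsImmersion (𝟙 Uo.left))
    exact IsImmersion.of_comp _ (snd X Uo).left
  haveI : IsImmersion p := inferInstanceAs (IsImmersion (pullback.fst _ _))
  let e : Uo.left ⟶ pullback (GIT.psi a jU).left (lift jU (𝟙 Uo)).left := pullback.lift (lift (1 : Uo ⟶ G) (𝟙 Uo)).left (𝟙 _) (by
    rw [Category.id_comp, ← Over.comp_left]
    congr 1
    rw [GIT.psi]
    ext1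
    · simp [AlgGrpBasic19.act_one]
    · simp)
  have heσ : ∀ z, σ (e z) = z := fun z => by
    show (e ≫ σ) z = z
    rw [show e ≫ σ = 𝟙 _ from pullback.lift_snd _ _ _]
    rfl
  -- finite fibre over the point
  let x₀ : Uo.left := ⟨x, hxU⟩
  let Ω := AlgebraicClosure (Uo.left.residueField x₀)
  let pm : Spec (CommRingCat.of Ω) ⟶ Uo.left :=
    Spec.map (CommRingCat.ofHom (algebraMap (Uo.left.residueField x₀) Ω)) ≫ Uo.left.fromSpecResidueField x₀
  let T : Over (Spec (CommRingCat.of k)) := Over.mk (pm ≫ Uo.hom)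
  let s : T ⟶ Uo := Over.homMk pm rfl
  haveI : Subsingleton T.left := inferInstanceAs (Subsingleton (PrimeSpectrum Ω))
  have hst : ∀ t, s.left t = x₀ := fun t => Scheme.fromSpecResidueField_apply x₀ _
  let t₀ : T.left := IsLocalRing.closedPoint Ω
  have hfib : (σ.base ⁻¹' {x₀}).Finite := by
    rw [← hst t₀]
    refine stab_fibre_finite jU s (hfin Ω T (Iso.refl _) _ ?_) t₀
    refine Set.eq_singleton_iff_unique_mem.2 ⟨⟨t₀, ?_⟩, ?_⟩
    · show U.ι (s.left t₀) = x
      rw [hst]
      rfl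
    · rintro _ ⟨t, rfl⟩
      show U.ι (s.left t) = x
      rw [hst]
      rfl
  have hqf : σ.QuasiFiniteAt (e x₀) := by
    have : Finite (σ.fiber (σ (e x₀))) :=
      (σ.fiberHomeo (σ (e x₀))).finite_iff.mpr (by rw [heσ]; exact hfib.to_subtype)
    haveI : LocallyOfFiniteType (σ.fiberToSpecResidueField (σ (e x₀))) :=
      MorphismProperty.pullback_snd _ _ (inferInstance : LocallyOfFiniteType σ)
    haveI : JacobsonSpace (σ.fiber (σ (e x₀))) :=
      LocallyOfFiniteType.jacobsonSpace (σ.fiberToSpecResidueField _)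
    exact Scheme.Hom.quasiFiniteAt_iff_isOpen_singleton_asFiber.mpr (isOpen_discrete _)
  -- a closed point nearby
  let O : Uo.left.Opens := e ⁻¹ᵁ σ.quasiFiniteLocus
  obtain ⟨y, hy⟩ := exists_kpt_mem (Y := X) (Z := closure {x} ∩ (U.ι ''ᵁ O : Set X.left))
    (isClosed_closure.isLocallyClosed.inter (U.ι ''ᵁ O).2.isLocallyClosed)
    ⟨x, subset_closure rfl, ⟨x₀, hqf, rfl⟩⟩
  have hyU : ∀ q, y.left q ∈ U := fun q => by
    obtain ⟨z, -, hz⟩ := (hy q).2
    rw [← hz]
    exact z.2
  refine ⟨y, fun q => ⟨specializes_iff_mem_closure.2 (hy q).1, hyU q⟩, ?_⟩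
  have hr : Set.range y.left.base ⊆ Set.range U.ι.base := by
    rw [Scheme.Opens.range_ι]
    rintro _ ⟨q, rfl⟩
    exact hyU q
  let yU : 𝟙_ (Over (Spec (CommRingCat.of k))) ⟶ Uo := Over.homMk (IsOpenImmersion.lift U.ι y.left hr) (by
    show _ ≫ U.ι ≫ X.hom = _
    rw [IsOpenImmersion.lift_fac_assoc, Over.w])
  have hyj : yU ≫ jU = y := Over.OverMorphism.ext (IsOpenImmersion.lift_fac _ _ _)
  let p₁ : (𝟙_ (Over (Spec (CommRingCat.of k)))).left := IsLocalRing.closedPoint k
  let y₀ : Uo.left := yU.left p₁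
  have hy₀ : σ.QuasiFiniteAt (e y₀) := by
    obtain ⟨z, hz, hz'⟩ := (hy p₁).2
    have : z = y₀ := U.ι.isOpenEmbedding.injective (hz'.trans (by
      show y.left p₁ = (yU ≫ jU).left p₁
      rw [hyj]))
    exact this ▸ hz
  have hopen := Scheme.Hom.quasiFiniteAt_iff_isOpen_singleton_asFiber.mp hy₀
  rw [← (σ.fiberHomeo (σ (e y₀))).isOpen_image, Set.image_singleton, Scheme.Hom.asFiber,
    Homeomorph.apply_symm_apply] at hopen
  obtain ⟨N, hN, hNeq⟩ := isOpen_induced_iff.1 hopen
  obtain ⟨N₁, hN₁, rfl⟩ := p.isEmbedding.isInducing.isOpen_iff.1 hN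
  let κy : G ⟶ G ⊗ Uo := lift (𝟙 G) (toUnit G ≫ yU)
  let N₂ : Set G.left := κy.left.base ⁻¹' N₁
  have hN₂ : IsOpen N₂ := hN₁.preimage κy.left.continuous
  have hκ : ∀ g : 𝟙_ (Over (Spec (CommRingCat.of k))) ⟶ G, g ≫ κy = lift g yU := fun g => by
    ext1 <;> simp [κy]
  have hone : (1 : 𝟙_ (Over (Spec (CommRingCat.of k))) ⟶ G).left p₁ ∈ N₂ := by
    show (1 ≫ κy : 𝟙_ (Over (Spec (CommRingCat.of k))) ⟶ G ⊗ Uo).left p₁ ∈ N₁
    rw [hκ, show lift (1 : 𝟙_ (Over (Spec (CommRingCat.of k))) ⟶ G) yU = yU ≫ lift (1 : Uo ⟶ G) (𝟙 Uo) by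
      rw [comp_lift, MonObj.comp_one, Category.comp_id]]
    have := (Set.ext_iff.1 hNeq ⟨e y₀, rfl⟩).2 rfl
    rwa [Set.mem_preimage, Set.mem_preimage, show p (e y₀) = (lift (1 : Uo ⟶ G) (𝟙 Uo)).left y₀ by
      show (e ≫ p) y₀ = _
      rw [show e ≫ p = (lift (1 : Uo ⟶ G) (𝟙 Uo)).left from pullback.lift_fst _ _ _]] at this
  have hkey : ∀ g ∈ StabPts a y, g.left p₁ ∈ N₂ → g = 1 := by
    intro g hg hgN
    let sg : (𝟙_ (Over (Spec (CommRingCat.of k)))).left ⟶ pullback (GIT.psi a jU).left (lift jU (𝟙 Uo)).left :=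
      pullback.lift (lift g yU).left yU.left (by
        rw [← Over.comp_left, ← Over.comp_left]
        congr 1
        rw [GIT.psi]
        ext1
        · simp [hyj, show lift g y ≫ a.act = y from hg]
        · simp)
    have hsσ : σ (sg p₁) = σ (e y₀) := by
      rw [heσ]
      show (sg ≫ σ) p₁ = yU.left p₁
      rw [show sg ≫ σ = yU.left from pullback.lift_snd _ _ _]
    have hps : p (sg p₁) = (lift g yU).left p₁ := by
      show (sg ≫ p) p₁ = _
      rw [show sg ≫ p = (lift g yU).left from pullback.lift_fst _ _ _]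
    have h1 := (Set.ext_iff.1 hNeq ⟨sg p₁, hsσ⟩).1 (by
      show p (sg p₁) ∈ N₁
      rw [hps, ← hκ]
      exact hgN)
    have h2 : sg p₁ = e y₀ := congrArg Subtype.val h1
    refine kpt_ext fun q => ?_
    rw [Subsingleton.elim (α := (Spec (CommRingCat.of k) : Scheme.{u})) q p₁]
    have h3 := congrArg (fun z => (fst G Uo).left (p z)) h2
    simp only [hps] at h3
    refine Eq.trans ?_ (h3.trans ?_)
    · show g.left p₁ = (lift g yU ≫ fst G Uo).left p₁
      rw [lift_fst]
    · show (e ≫ p ≫ (fst G Uo).left) y₀ = _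
      rw [← Category.assoc, show e ≫ p = (lift (1 : Uo ⟶ G) (𝟙 Uo)).left from pullback.lift_fst _ _ _,
        ← Over.comp_left, lift_fst]
      show (yU ≫ (1 : Uo ⟶ G)).left p₁ = _
      rw [MonObj.comp_one]
  haveI : CompactSpace G.left := inferInstance
  haveI := noetherianSpace_of_finiteType (X := G)
  let C : Set G.left := (fun g : 𝟙_ (Over (Spec (CommRingCat.of k))) ⟶ G => g.left p₁) '' StabPts a y
  haveI : DiscreteTopology C := by
    refine discreteTopology_iff_isOpen_singleton.2 fun c => ?_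
    obtain ⟨g₀, hg₀, hc⟩ := c.2
    let R : G ⟶ G := 𝟙 G * (toUnit G ≫ g₀⁻¹)
    have hR : ∀ g : 𝟙_ (Over (Spec (CommRingCat.of k))) ⟶ G, g ≫ R = g * g₀⁻¹ := fun g => by
      rw [MonObj.comp_mul, Category.comp_id, ← Category.assoc, toUnit_unique (g ≫ toUnit G) (𝟙 _), Category.id_comp]
    convert (hN₂.preimage R.left.continuous).preimage (continuous_subtype_val (p := (· ∈ C))) using 1
    ext c'
    constructor
    · intro (h : c' = c)
      show R.left c'.1 ∈ N₂
      rw [h, ← hc]
      show (g₀ ≫ R).left p₁ ∈ N₂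
      rw [hR, mul_inv_cancel]
      exact hone
    · intro hmem
      obtain ⟨g, hg, hc'⟩ := c'.2
      refine Subtype.ext ?_
      have h : g * g₀⁻¹ = 1 := hkey _ (stabPts_div hg hg₀) (by
        rw [← hR]
        show R.left (g.left p₁) ∈ N₂
        rw [show g.left p₁ = c'.1 from hc']
        exact hmem)
      rw [← hc', ← hc, mul_inv_eq_one.1 h]
  have hC : C.Finite := by
    haveI : CompactSpace C := isCompact_iff_compactSpace.1 (TopologicalSpace.NoetherianSpace.isCompact C)
    exact Set.finite_coe_iff.1 finite_of_compact_of_discrete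
  refine hC.of_finite_image fun g _ g' _ h => kpt_ext fun q => ?_
  rw [Subsingleton.elim (α := (Spec (CommRingCat.of k) : Scheme.{u})) q p₁]
  exact h

end Groth.Agent.GITHM15
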