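import Groth.Agent.Lib.GITHM15.Integral
import Groth.Agent.Lib.GITHM15.Orbit
import Groth.Agent.Lib.FormSub28.GLStable

/-!
# Positivity of the numerical function gives proper stability
-/

set_option autoImplicit false
set_option linter.style.haveILetI false
set_option backward.isDefEq.respectTransparency.types false
universe u

open CategoryTheory Limits MonoidalCategory CartesianMonoidalCategory MonObj AlgebraicGeometry TopologicalSpace
open scoped TensorProduct LaurentPolynomial
open WithConv

noncomputable section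

namespace Groth.Agent.GITHM15

open Groth.Agent.WtMu19
open Groth.Agent.FixLine19 (sp str)

attribute [local instance] HomSch19.algW

section Components

variable {k : Type u} [Field k] {A : Type u} [CommRing A] [HopfAlgebra k A] {κ : Type u} [Fintype κ]

/-- Scaling of the variables by a new variable. -/
def scaleVars : MvPolynomial κ k →ₐ[k] Polynomial (MvPolynomial κ k) :=
  MvPolynomial.aeval fun i => Polynomial.C (MvPolynomial.X i) * Polynomial.X

theorem scaleVars_monomial (s : κ →₀ ℕ) (c : k) :
    scaleVars (MvPolynomial.monomial s c) = Polynomial.monomial (Finsupp.degree s) (MvPolynomial.monomial s c) := by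
  rw [scaleVars, MvPolynomial.aeval_monomial, MvPolynomial.monomial_eq (s := s) (a := c)]
  simp only [mul_pow, Finsupp.prod, Finset.prod_mul_distrib, Finset.prod_pow_eq_pow_sum, ← map_pow, ← map_prod]
  rw [← Polynomial.C_mul_X_pow_eq_monomial, map_mul, ← _root_.mul_assoc]
  rfl

theorem coeff_scaleVars_homogeneous (P : MvPolynomial κ k) (e : ℕ) :
    ((scaleVars P).coeff e).IsHomogeneous e := by
  rw [P.as_sum, map_sum, Polynomial.finset_sum_coeff]
  refine MvPolynomial.IsHomogeneous.sum _ _ _ fun s _ => ?_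
  rw [scaleVars_monomial, Polynomial.coeff_monomial]
  split_ifs with h
  · exact MvPolynomial.isHomogeneous_monomial _ h
  · exact MvPolynomial.isHomogeneous_zero _ _ _

theorem eval_map_scaleVars (z : κ → k) (c : k) (P : MvPolynomial κ k) :
    ((scaleVars P).map (MvPolynomial.eval z)).eval c = MvPolynomial.eval (fun i => c * z i) P := by
  induction P using MvPolynomial.induction_on with
  | C r => simp [scaleVars]
  | add p q hp hq => simp only [map_add, Polynomial.map_add, Polynomial.eval_add, hp, hq]
  | mul_X p i hp =>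
    rw [map_mul, Polynomial.map_mul, Polynomial.eval_mul, hp, map_mul, MvPolynomial.eval_X, scaleVars,
      MvPolynomial.aeval_X, Polynomial.map_mul, Polynomial.map_C, Polynomial.map_X, Polynomial.eval_mul,
      Polynomial.eval_C, Polynomial.eval_X, MvPolynomial.eval_X]
    ring

theorem coactA_coeff_scaleVars (c : κ → κ → A) {P : MvPolynomial κ k}
    (hP : coactA (k := k) c P = P ⊗ₜ[k] (1 : A)) (e : ℕ) :
    coactA (k := k) c ((scaleVars P).coeff e) = (scaleVars P).coeff e ⊗ₜ[k] (1 : A) := by
  let inc : MvPolynomial κ k →ₐ[k] MvPolynomial κ k ⊗[k] A := Algebra.TensorProduct.includeLeft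
  let ψ : MvPolynomial κ k ⊗[k] A →ₐ[k] Polynomial (MvPolynomial κ k ⊗[k] A) :=
    Algebra.TensorProduct.lift ((Polynomial.mapAlgHom inc).comp scaleVars)
      ((Polynomial.CAlgHom (R := k) (A := MvPolynomial κ k ⊗[k] A)).comp
        Algebra.TensorProduct.includeRight)
      (fun x y => by simp only [Commute, SemiconjBy]; ring)
  have h : ψ.comp (coactA (k := k) c) = (Polynomial.mapAlgHom (coactA (k := k) c)).comp scaleVars := by
    refine MvPolynomial.algHom_ext fun i => ?_
    simp only [AlgHom.comp_apply, coactA, MvPolynomial.aeval_X, map_sum, ψ, Algebra.TensorProduct.lift_tmul,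
      scaleVars, map_mul, Polynomial.coe_mapAlgHom, Polynomial.map_C, Polynomial.map_X,
      Polynomial.map_mul]
    simp only [inc, Algebra.TensorProduct.includeLeft_apply, Polynomial.CAlgHom, AlgHom.coe_mk,
      Algebra.TensorProduct.includeRight_apply, Finset.sum_mul, RingHom.coe_coe]
    rw [MvPolynomial.aeval_X, map_sum, Finset.sum_mul]
    refine Finset.sum_congr rfl fun j _ => ?_
    rw [_root_.mul_assoc, Polynomial.X_mul_C, ← _root_.mul_assoc, ← Polynomial.C_mul,
      Algebra.TensorProduct.tmul_mul_tmul, _root_.one_mul, _root_.mul_one]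
  have h1 := congrArg (fun q => Polynomial.coeff q e) (AlgHom.congr_fun h P)
  simp only [AlgHom.comp_apply, hP, ψ, Algebra.TensorProduct.lift_tmul, map_one, _root_.mul_one,
    Polynomial.coe_mapAlgHom, Polynomial.coeff_map] at h1
  exact h1.symm

end Components

variable {k : Type u} [Field k] [IsAlgClosed k] [CharZero k]
  {G X : Over (Spec (CommRingCat.of k))} [GrpObj G] {a : AlgGrp.Action G X} (B : GLinSh.LinBun G a)
  {A : Type u} [CommRing A] [HopfAlgebra k A] [Algebra.FiniteType k A]
  (ei : G ⟶ CoactBr.sp k A) [IsIso ei] [IsMonHom ei]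

local notation "Gm₀" => Red.Gm (Spec (CommRingCat.of k))

omit [IsAlgClosed k] [Algebra.FiniteType k A] in
/-- A non-trivial cocharacter gives a non-trivial one-parameter subgroup. -/
theorem onePS_ne_one (lam : A →ₐc[k] k[T;T⁻¹]) (hlam : ¬ SGA3t2b.IsTrivialBialgHom lam) : onePS ei lam ≠ 1 := by
  intro h
  apply hlam
  intro x
  have hS : x = HopfAlgebra.antipodeAlgHom k A (HopfAlgebra.antipodeAlgHom k A x) := by
    rw [HopfAlgebra.antipodeAlgHom_apply, HopfAlgebra.antipodeAlgHom_apply,
      Groth.Agent.CoalgH23.antipode_antipode (k := k) x]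
  set y := HopfAlgebra.antipodeAlgHom k A x
  have key : ∀ u : kˣ, kv (evA ei (ptU u ≫ onePS ei lam) y) = CoalgebraStruct.counit (R := k) y := fun u => by
    rw [h, MonObj.comp_one, show (1 : 𝟙_ (Over (Spec (CommRingCat.of k))) ⟶ G) = gPt ei (Bialgebra.counitAlgHom k A)
      from (gPt_counit ei).symm, evA_gPt, kv_str]
    rfl
  have hc : ((lam : A →ₐ[k] k[T;T⁻¹]) x).coeff = Finsupp.single 0 (CoalgebraStruct.counit (R := k) y) := by
    refine sum_pow_smul_ext (k := k) fun u => ?_
    have h1 := key u
    rw [evA_onePS, ← hS, map_finsuppSum] at h1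
    refine Eq.trans ?_ (h1.trans ?_)
    · refine Finsupp.sum_congr fun n _ => ?_
      rw [map_mul, kv_str, zp_ptU, kv_str, smul_eq_mul, mul_comm]
    · rw [Finsupp.sum_single_index] <;> simp
  show (lam : A →ₐ[k] k[T;T⁻¹]) x = _
  refine AddMonoidAlgebra.ext ?_
  rw [hc, show CoalgebraStruct.counit (R := k) y = CoalgebraStruct.counit (R := k) x from
    HopfAlgebra.counit_antipode x, LaurentPolynomial.algebraMap_apply]
  rfl

include ei in
set_option maxHeartbeats 1600000 in
/-- A point with positive numerical function is properly stable. -/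
theorem isProperlyStable_of_pos [IsProper X.hom] [IsAffine G.left] [LocallyOfFiniteType G.hom]
    (hB : HMNum.AmpleCover B) (hLR : HopfRep.IsLinearlyReductive k A)
    (x : 𝟙_ (Over (Spec (CommRingCat.of k))) ⟶ X) (p : (𝟙_ (Over (Spec (CommRingCat.of k)))).left)
    (hpos : ∀ (l : Gm₀ ⟶ G) [IsMonHom l], l ≠ 1 → ∀ mu₁ : ℤ, HMNum.IsMu B l x mu₁ → 0 < mu₁) :
    B.IsProperlyStablePt (x.left.base p) := by
  classical
  haveI : CompactSpace X.left := hB.1
  haveI : X.left.IsSeparated := ⟨by rw [← terminal.comp_from X.hom]; infer_instance⟩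
  obtain ⟨N, κ, _, b, hN, hbli, hst, hb, ha, hcov⟩ := exists_basis B hB
  obtain ⟨m, hm⟩ := exists_matrix B ei b hbli hst
  letI := matComod (coef (k := k) m) (comul_coef B ei hm hbli) (counit_coef B ei hm hbli)
  haveI := isCoactAlg_matComod (coef (k := k) m) (comul_coef B ei hm hbli) (counit_coef B ei hm hbli)
  have hlin := isLinear_matComod (coef (k := k) m) (comul_coef B ei hm hbli) (counit_coef B ei hm hbli)
  obtain ⟨U, y, hy, hU⟩ := loc_tensorUnit.exists_chart B x
  obtain ⟨vx, hvx, hx₁, ex₁⟩ := exists_kpt_coord B x hy hU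
  let w : κ → k := fun i => kv (vx.left.appTop (b i))
  have hne : ∀ {n : ℕ} {f : Γ(B.V.left, ⊤)}, Homog B n f → Supp B x f → kv (vx.left.appTop f) ≠ 0 :=
    fun {n f} hf hs h0 => appTop_ne_zero_of_supp B hf hs hy hU hvx hx₁ ex₁
      (by rw [← str_kv (vx.left.appTop f), h0, map_zero])
  -- no limit along a non-trivial one-parameter subgroup
  have hnolim : ∀ lam : A →ₐc[k] k[T;T⁻¹], ¬ SGA3t2b.IsTrivialBialgHom lam →
      ∃ (i : κ) (n : ℤ), n < 0 ∧ (Comodule.coordOrbit lam w i).coeff n ≠ 0 := by
    intro lam hlam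
    haveI := isMonHom_onePS ei lam
    obtain ⟨h, ν, hh, hmu₁, -, -, hmem, -⟩ := exists_mu_data B (onePS ei lam) hN b hb hcov
      (κ' := PEmpty.{u + 1}) (fun e => e.elim) (fun e => e.elim) (fun e => e.elim) (fun e => e.elim) (fun e => e.elim) x
    have hν : ν < 0 := by
      have := hpos _ (onePS_ne_one ei lam hlam) _ hmu₁
      omega
    rcases hmem with ⟨i, n, hs, hn⟩ | ⟨e, -⟩
    · refine ⟨i, n, ?_, ?_⟩
      · rw [← hn]
        exact mul_neg_of_pos_of_neg (by exact_mod_cast hN) hν
      · intro h0
        refine hne (homog_coeff B (homog_of_hasWeight B (hb i)) _ (h i) (hh i) n) hs ?_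
        rw [← h0]
        let c : ℤ →₀ k := (h i).mapRange (fun t => kv (vx.left.appTop t)) (by rw [map_zero, map_zero])
        suffices hcd : c = (Comodule.coordOrbit lam w i).coeff by simpa [c] using DFunLike.congr_fun hcd n
        refine sum_pow_smul_ext (k := k) fun u => ?_
        have e1 := hh i _ (ptU u) vx
        rw [hm _ (ptU u ≫ onePS ei lam) vx i] at e1
        have e2 := congrArg kv e1
        rw [map_sum, map_finsuppSum] at e2
        refine Eq.trans ?_ (e2.symm.trans ?_)
        · rw [Finsupp.sum_mapRange_index (fun _ => smul_zero _)]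
          refine Finsupp.sum_congr fun n _ => ?_
          rw [map_mul, zp_ptU, kv_str, smul_eq_mul]
        · show _ = ((lam : A →ₐ[k] k[T;T⁻¹]) (GLin.orbitHom k A (GLin.vecPt k κ w) (MvPolynomial.X i))).coeff.sum _
          rw [orbitHom_matComod, map_sum]
          simp only [map_smul]
          rw [AddMonoidAlgebra.coeff_sum, ← Finsupp.sum_finset_sum_index (fun _ => smul_zero _)
            (fun _ _ _ => smul_add _ _ _)]
          refine Finset.sum_congr rfl fun j _ => ?_
          rw [map_mul, evA_onePS, map_finsuppSum, AddMonoidAlgebra.coeff_smul,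
            Finsupp.sum_smul_index' (fun _ => smul_zero _), Finsupp.sum_mul]
          refine Finsupp.sum_congr fun n _ => ?_
          rw [map_mul, kv_str, zp_ptU, kv_str]
          simp only [smul_eq_mul, w]
          ring
    · exact e.elim
  have hw : w ≠ 0 := by
    obtain ⟨i, hi⟩ := hcov (x.left.base p)
    intro h0
    exact hne (homog_of_hasWeight B (hb i)) ((mem_nv_iff_supp B (by omega) (hb i) x p).1 hi) (congrFun h0 i)
  -- a semistable invariant
  obtain ⟨P', hP', D', hD', hhom', hwP'⟩ : ∃ P', coactA (k := k) (coef (k := k) m) P' = P' ⊗ₜ[k] (1 : A) ∧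
      ∃ D', 0 < D' ∧ P'.IsHomogeneous D' ∧ MvPolynomial.eval w P' ≠ 0 := by
    by_contra! hcon
    obtain ⟨lam, hlam⟩ := Groth.Agent.HM15.exists_lam_of_isNullform hLR hlin hw
      (show GLin.IsNullform k A w from fun F hF d hd hhom => hcon F hF d hd hhom)
    by_cases htriv : SGA3t2b.IsTrivialBialgHom lam
    · refine hw (funext fun i => ?_)
      have h0 := hlam i 0 le_rfl
      have e : Comodule.coordOrbit lam w i = algebraMap k k[T;T⁻¹] (w i) := by
        show lam (GLin.orbitHom k A (GLin.vecPt k κ w) (MvPolynomial.X i)) = _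
        rw [htriv, Comodule.counit_orbitHom]
        simp [GLin.vecPt]
      rw [e, LaurentPolynomial.algebraMap_apply, Algebra.algebraMap_self, RingHom.id_apply] at h0
      rw [show (LaurentPolynomial.C (w i) : k[T;T⁻¹]) = AddMonoidAlgebra.single 0 (w i) from rfl,
        AddMonoidAlgebra.coeff_single, Finsupp.single_eq_same] at h0
      exact h0
    · obtain ⟨i, n, hn, hc⟩ := hnolim lam htriv
      exact hc (hlam i n hn.le)
  -- an invariant cutting out stable vectors
  have hsw : GLin.IsStableVec k A w := by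
    by_contra hcon
    obtain ⟨lam, hnt, hlam⟩ := HM15.exists_lam_of_not_isStableVec hLR hlin hcon
    obtain ⟨i, n, hn, hc⟩ := hnolim lam hnt
    exact hc (hlam i n hn)
  obtain ⟨d₀, hd₀, hd₀w, hd₀fin⟩ := OrbitH28.exists_invariant_finStab hLR
    ((OrbitH28.closed_iff_isClosedOrbit _).2 hsw.1) (FormSub28.finStab_of_hasFiniteStab hsw.2)
  have hstable : ∀ z : κ → k, MvPolynomial.eval z d₀ ≠ 0 → GLin.IsStableVec k A z := fun z hz => by
    obtain ⟨h1, h2⟩ := (OrbitH28.stable_iff hLR (GLin.vecPt k κ z)).2 fun u hu => hd₀fin u (by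
      rw [hu d₀ hd₀]
      simpa [GLin.vecPt] using hz)
    exact ⟨(OrbitH28.closed_iff_isClosedOrbit _).1 h1, FormSub28.hasFiniteStab_of_finStab h2⟩
  obtain ⟨e₀, he₀⟩ : ∃ e₀, MvPolynomial.eval w ((scaleVars d₀).coeff e₀) ≠ 0 := by
    by_contra! hcon
    have h0 : (scaleVars d₀).map (MvPolynomial.eval w) = 0 := Polynomial.ext fun n => by
      rw [Polynomial.coeff_map, hcon, Polynomial.coeff_zero]
    have h1 := eval_map_scaleVars w 1 d₀
    rw [h0, Polynomial.eval_zero] at h1
    simp only [_root_.one_mul] at h1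
    have h2 : MvPolynomial.eval w d₀ = 1 := by simpa [GLin.vecPt] using hd₀w
    exact zero_ne_one (h1.trans h2)
  let d := (scaleVars d₀).coeff e₀ * P'
  have hd : coactA (k := k) (coef (k := k) m) d = d ⊗ₜ[k] (1 : A) := by
    rw [map_mul, hP', coactA_coeff_scaleVars (coef (k := k) m) hd₀ e₀, Algebra.TensorProduct.tmul_mul_tmul, _root_.mul_one]
  have hdhom : d.IsHomogeneous (e₀ + D') := (coeff_scaleVars_homogeneous d₀ e₀).mul hhom'
  have hint : OrbitIntegral m d := fun M _ _ ev ζ e he r =>
    isIntegral_orbit hLR hlin (fun z hz lam hlam => by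
      have hze : MvPolynomial.eval z ((scaleVars d₀).coeff e₀) ≠ 0 := fun h => hz (by rw [map_mul, h, zero_mul])
      have hq : (scaleVars d₀).map (MvPolynomial.eval z) ≠ 0 := fun h => hze (by
        rw [← Polynomial.coeff_map, h, Polynomial.coeff_zero])
      obtain ⟨c, hc0, hc⟩ : ∃ c : k, c ≠ 0 ∧ ((scaleVars d₀).map (MvPolynomial.eval z)).eval c ≠ 0 := by
        by_contra! hcon
        exact hq (Polynomial.eq_zero_of_infinite_isRoot _
          (Set.Infinite.mono (s := {t : k | t ≠ 0}) (fun t ht => hcon t ht) (Set.finite_singleton (0 : k)).infinite_compl))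
      rw [eval_map_scaleVars] at hc
      by_contra! hcon
      refine HM15.not_hasLimit_of_isStableVec (hstable _ hc) hlam ((Comodule.hasLimit_iff lam _).2 fun i n hn => ?_)
      have esm : Comodule.coordOrbit lam (fun i => c * z i) i = c • Comodule.coordOrbit lam z i := by
        show lam (GLin.orbitHom k A _ (MvPolynomial.X i)) = c • lam (GLin.orbitHom k A _ (MvPolynomial.X i))
        rw [orbitHom_matComod, orbitHom_matComod, ← map_smul, Finset.smul_sum]
        simp only [smul_smul]
      rw [esm, AddMonoidAlgebra.coeff_smul, Finsupp.smul_apply, hcon i n hn, smul_zero]) ev ζ he r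
  obtain ⟨h1, h2, h3⟩ := exists_invSection B ei hN hm hb ha hd (Nat.add_pos_right e₀ hD') hdhom
  have hxf : x.left.base p ∈ nv B ((e₀ + D') * N) (MvPolynomial.aeval b d) := by
    rw [mem_nv_iff_supp B (by omega) h2.1]
    refine ⟨vx, hvx, fun h0 => ?_⟩
    rw [appTop_aeval] at h0
    have e : ∀ Q : MvPolynomial κ k,
        (MvPolynomial.aeval fun i => vx.left.appTop (b i)) Q = str _ (MvPolynomial.eval w Q) := by
      intro Q
      induction Q using MvPolynomial.induction_on with
      | C r => rw [MvPolynomial.aeval_C, MvPolynomial.eval_C, algebraMap_eq_str]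
      | add p q hp hq => simp only [map_add, hp, hq]
      | mul_X p i hp => simp only [map_mul, MvPolynomial.aeval_X, MvPolynomial.eval_X, hp, w, str_kv]
    rw [e] at h0
    have h4 : MvPolynomial.eval w d = 0 := by simpa [kv_str] using congrArg kv h0
    rw [map_mul] at h4
    exact (mul_ne_zero he₀ hwP') h4
  have key := orbit_closed_finite B ei hm hb (Nat.add_pos_right e₀ hD') hint h2.1 h2.2 h3
  refine ⟨⟨_, _, h1, h2, ?_, _, coe_nv B h2.1, h3, fun Ω _ _ T e fT hr => (key Ω T e fT hr).1⟩,
    fun Ω _ _ T e fT hr => (key Ω T e fT (hr ▸ Set.singleton_subset_iff.2 hxf)).2⟩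
  rw [← coe_nv B h2.1]
  exact hxf

end Groth.Agent.GITHM15
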