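import Groth.Agent.Lib.GITHM15.Semistable
import Mathlib.AlgebraicGeometry.AlgClosed.Basic
import Mathlib.AlgebraicGeometry.Morphisms.Finite

/-!
# A properly stable point has positive numerical function
-/

set_option autoImplicit false
set_option linter.style.haveILetI false
set_option backward.isDefEq.respectTransparency.types false
universe u

open CategoryTheory Limits MonoidalCategory CartesianMonoidalCategory MonObj AlgebraicGeometry TopologicalSpace
open scoped TensorProduct LaurentPolynomial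
open WithConv

noncomputable section

namespace Groth.Agent.GITHM15

open Groth.Agent.WtMu19
open Groth.Agent.FixLine19 (sp str)

attribute [local instance] HomSch19.algW

variable {k : Type u} [Field k] [IsAlgClosed k]
  {G X : Over (Spec (CommRingCat.of k))} [GrpObj G] {a : AlgGrp.Action G X}

local notation "Gm₀" => Red.Gm (Spec (CommRingCat.of k))

/-- A closed point of a scheme of finite type is a rational point. -/
theorem exists_kpt_mem {Y : Over (Spec (CommRingCat.of k))} [LocallyOfFiniteType Y.hom] {Z : Set Y.left}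
    (hZ : IsLocallyClosed Z) (hne : Z.Nonempty) :
    ∃ g : 𝟙_ (Over (Spec (CommRingCat.of k))) ⟶ Y, ∀ p, g.left p ∈ Z := by
  haveI : JacobsonSpace Y.left := LocallyOfFiniteType.jacobsonSpace Y.hom
  haveI : Subsingleton (Spec (CommRingCat.of k) : Scheme.{u}) := inferInstanceAs (Subsingleton (PrimeSpectrum k))
  obtain ⟨z, hz, hzc⟩ := nonempty_inter_closedPoints hne hZ
  let f := (pointEquivClosedPoint Y.hom).symm ⟨z, hzc⟩
  refine ⟨Over.homMk f.1 f.2, fun p => ?_⟩
  have h := congrArg Subtype.val ((pointEquivClosedPoint Y.hom).apply_symm_apply ⟨z, hzc⟩)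
  have hp : p = IsLocalRing.closedPoint k := Subsingleton.elim (α := (Spec (CommRingCat.of k) : Scheme.{u})) _ _
  show f.1 p ∈ Z
  rw [hp]
  have h' : f.1 (IsLocalRing.closedPoint k) = z := h
  rw [h']
  exact hz

/-- Rational points with the same image are equal. -/
theorem kpt_ext {Y : Over (Spec (CommRingCat.of k))} [LocallyOfFiniteType Y.hom]
    {g g' : 𝟙_ (Over (Spec (CommRingCat.of k))) ⟶ Y} (h : ∀ p, g.left p = g'.left p) : g = g' :=
  Over.OverMorphism.ext (ext_of_apply_closedPoint_eq Y.hom (Over.w g) (Over.w g') (h _))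

variable {A : Type u} [CommRing A] [HopfAlgebra k A] (ei : G ⟶ CoactBr.sp k A) [IsIso ei] [IsMonHom ei]

include ei in
/-- A one-parameter subgroup in a finite stabiliser is trivial. -/
theorem eq_one_of_fixing (l : Gm₀ ⟶ G) (hl : η[Gm₀] ≫ l = η[G]) (x : 𝟙_ (Over (Spec (CommRingCat.of k))) ⟶ X)
    (hfin : IsFinite (GLinSh.stabTo a x)) (hx : lift l (toUnit _ ≫ x) ≫ a.act = toUnit _ ≫ x) : l = 1 := by
  classical
  haveI : IsIso (ei.left) := inferInstanceAs (IsIso ((Over.forget _).map ei))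
  let P : Gm₀ ⟶ G ⊗ 𝟙_ (Over (Spec (CommRingCat.of k))) := lift l (toUnit _)
  have hP : P.left ≫ (GIT.psi a x).left =
      (toUnit Gm₀).left ≫ (lift x (𝟙 (𝟙_ (Over (Spec (CommRingCat.of k)))))).left := by
    rw [← Over.comp_left, ← Over.comp_left]
    congr 1
    rw [GIT.psi, comp_lift, comp_lift, ← Category.assoc, lift_whiskerLeft, hx, lift_snd, Category.comp_id]
  let L : (Gm₀).left ⟶ GLinSh.stab a x := pullback.lift P.left (toUnit Gm₀).left hP
  refine (cancel_mono ei).1 (DiagGL.ev_injective fun r => ?_)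
  show evA ei l r = evA ei 1 r
  obtain ⟨c, hc⟩ := exists_expand (evA ei l r)
  haveI : IsAffine (𝟙_ (Over (Spec (CommRingCat.of k)))).left :=
    inferInstanceAs (IsAffine (Spec (CommRingCat.of k)))
  -- integrality on the stabiliser
  have hint : (GLinSh.stabTo a x).appTop.hom.IsIntegral :=
    RingHom.Finite.to_isIntegral ((IsFinite.finite_app _ ⊤ (isAffineOpen_top _)))
  obtain ⟨q, hq, hq0⟩ := hint ((pullback.fst (GIT.psi a x).left _ ≫ (fst G (𝟙_ _)).left).appTop (evA ei (𝟙 G) r))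
  have hF : evA ei l r = L.appTop ((pullback.fst (GIT.psi a x).left _ ≫ (fst G (𝟙_ _)).left).appTop
      (evA ei (𝟙 G) r)) := by
    show _ = (L ≫ pullback.fst (GIT.psi a x).left _ ≫ (fst G (𝟙_ _)).left).appTop (evA ei (𝟙 G) r)
    have e1 : L ≫ pullback.fst (GIT.psi a x).left _ ≫ (fst G (𝟙_ _)).left = (P ≫ fst G (𝟙_ _)).left :=
      (pullback.lift_fst_assoc _ _ _ _).trans rfl
    refine Eq.trans ?_ (congrArg (fun e => (Scheme.Hom.appTop e) (evA ei (𝟙 G) r)) e1).symm
    show _ = (P ≫ fst G (𝟙_ _)).left.appTop (evA ei (𝟙 G) r)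
    rw [lift_fst, ← evA_comp, Category.comp_id]
  let q' : Polynomial k := q.map (kv (k := k)).toRingHom
  have hq' : q' ≠ 0 := (hq.map _).ne_zero
  have hroot : ∀ u : kˣ, q'.IsRoot (kv ((ptU u).left.appTop (evA ei l r))) := fun u => by
    have h1 := congrArg (kv ∘ (ptU u).left.appTop ∘ L.appTop) hq0
    simp only [Function.comp_apply, map_zero] at h1
    refine Eq.trans ?_ h1
    show Polynomial.eval _ q' = kv.toRingHom ((ptU u).left.appTop.hom (L.appTop.hom _))
    rw [Polynomial.hom_eval₂, Polynomial.hom_eval₂, Polynomial.hom_eval₂, ← hF, Polynomial.eval_map]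
    congr 1
    refine RingHom.ext fun t => ?_
    show kv t = kv ((ptU u).left.appTop (L.appTop ((GLinSh.stabTo a x).appTop t)))
    rw [show L.appTop ((GLinSh.stabTo a x).appTop t) = (L ≫ GLinSh.stabTo a x).appTop t from rfl,
      show L ≫ GLinSh.stabTo a x = (toUnit Gm₀).left from pullback.lift_snd _ _ _,
      show (ptU u).left.appTop ((toUnit Gm₀).left.appTop t) = (ptU u ≫ toUnit Gm₀).left.appTop t from rfl,
      toUnit_unique (ptU u ≫ toUnit Gm₀) (𝟙 _)]
    simp
  -- finitely many values force a constant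
  let p : k[T;T⁻¹] := c.sum fun n a => LaurentPolynomial.C a * LaurentPolynomial.T n
  have hp : ∀ u : kˣ, HM15.evL u p = kv ((ptU u).left.appTop (evA ei l r)) := fun u => by
    rw [hc, kv_ev, map_finsuppSum]
    exact Finsupp.sum_congr fun n _ => by rw [map_mul, HM15.evL_C, HM15.evL_T]
  obtain ⟨v, hv⟩ : ∃ v : k, p = LaurentPolynomial.C v := by
    have h0 : ∏ v ∈ q'.roots.toFinset, (p - LaurentPolynomial.C v) = 0 := by
      refine HM15.eq_zero_of_evL fun u => ?_
      rw [map_prod]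
      refine Finset.prod_eq_zero (Multiset.mem_toFinset.2 ((Polynomial.mem_roots hq').2 (hroot u))) ?_
      rw [map_sub, HM15.evL_C, hp, sub_self]
    obtain ⟨v, -, hv⟩ := Finset.prod_eq_zero_iff.1 h0
    exact ⟨v, sub_eq_zero.1 hv⟩
  have hcv : c = Finsupp.single 0 v := by
    refine sum_pow_smul_ext (k := k) fun u => ?_
    rw [Finsupp.sum_single_index (by simp)]
    have h1 := hp u
    rw [hv, HM15.evL_C, hc, kv_ev] at h1
    simp only [smul_eq_mul, zpow_zero, Units.val_one, _root_.one_mul]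
    rw [h1]
    exact Finsupp.sum_congr fun n _ => mul_comm _ _
  have hconst : evA ei l r = str _ v := by
    have h1 := hc _ (𝟙 _)
    rw [hcv, ev, Finsupp.sum_single_index (by simp), zp_zero, _root_.mul_one] at h1
    simpa using h1
  rw [hconst, show (1 : Gm₀ ⟶ G) = toUnit Gm₀ ≫ η[Gm₀] ≫ l by rw [hl, Hom.one_def], evA_comp, evA_comp, hconst,
    str_nat, str_nat]

variable [CharZero k]

include ei in
set_option maxHeartbeats 1600000 in
/-- The numerical function of a properly stable point is positive. -/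
theorem pos_of_properlyStable [IsProper X.hom] [IsAffine G.left] [LocallyOfFiniteType G.hom]
    (B : GLinSh.LinBun G a) (hB : HMNum.AmpleCover B)
    (x : 𝟙_ (Over (Spec (CommRingCat.of k))) ⟶ X) (p : (𝟙_ (Over (Spec (CommRingCat.of k)))).left)
    (hx : B.IsProperlyStablePt (x.left.base p)) (l : Gm₀ ⟶ G) [IsMonHom l] (hl : l ≠ 1) (mu₁ : ℤ)
    (hmu₁ : HMNum.IsMu B l x mu₁) : 0 < mu₁ := by
  haveI : CompactSpace X.left := hB.1
  haveI : Subsingleton (Spec (CommRingCat.of k) : Scheme.{u}) := inferInstanceAs (Subsingleton (PrimeSpectrum k))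
  have hsub : ∀ t : (𝟙_ (Over (Spec (CommRingCat.of k)))).left, t = p :=
    fun t => Subsingleton.elim (α := (Spec (CommRingCat.of k) : Scheme.{u})) t p
  obtain ⟨⟨n, f, hn, ⟨hf, hinv⟩, hxf, U, hU, hUaff, hclosed⟩, hfin⟩ := hx
  obtain ⟨N, κ, _, b, hN, -, -, hb, -, hcov⟩ := exists_basis B hB
  obtain ⟨h, w, -, -, huniq, hle, -, hlimit⟩ := exists_mu_data B l hN b hb hcov (κ' := PUnit.{u + 1}) (fun _ => f)
    (fun _ => n) (fun _ => hn) (fun _ => homog_of_hasWeight B hf) (fun _ => eig_zero_of_isInvFn B hinv l) x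
  have hs : Supp B x f := supp_of_nonvanishing B hf (by omega) x p hxf
  have hw : w ≤ 0 := nonpos_of_mul_nonpos_right (hle PUnit.unit hs) (by exact_mod_cast hn)
  rw [huniq mu₁ hmu₁]
  by_contra hle'
  have hw0 : w = 0 := by omega
  obtain ⟨ψ, hψ, hlim⟩ := exists_isLimitPt a l x
  have hfix := HMNum19.isFixedBy_of_isLimitPt hlim
  set y₀ := HMNum.origin (Spec (CommRingCat.of k)) ≫ ψ with hy₀
  have hy : y₀.left p ∈ U := by
    show y₀.left p ∈ (U : Set X.left)
    rw [hU]
    exact mem_nonvanishing B y₀ p (hlimit y₀ hlim PUnit.unit hs (by rw [hw0, mul_zero]))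
  have hxU : Set.range x.left.base ⊆ (U : Set X.left) := by
    rintro _ ⟨t, rfl⟩
    rw [hsub t, hU]
    exact hxf
  -- the limit lies in the orbit
  let T₀ : Over (Spec (CommRingCat.of k)) := 𝟙_ _
  have hC := hclosed k T₀ (Iso.refl _) x hxU
  let q : sp (k := k) (PS k) ⟶ X ⊗ T₀ := lift (genA ≫ ψ) (toUnit _)
  have hq : locM ≫ q = lift (genG ≫ l) (toUnit _) ≫ GIT.psi a x := by
    ext1
    · simp only [q, GIT.psi, Category.assoc, lift_fst]
      rw [← Category.assoc, locM_genA, Category.assoc, hψ, comp_lift_assoc, comp_toUnit_assoc,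
        lift_fst, lift_whiskerLeft_assoc]
    · exact toUnit_unique _ _
  have hq0 : clM ≫ q = lift y₀ (𝟙 T₀) := by
    ext1
    · simp only [q, Category.assoc, lift_fst]
      rw [← Category.assoc, clM_genA]
    · exact toUnit_unique _ _
  let z : (sp (k := k) (PS k)).left := IsLocalRing.closedPoint (PS k)
  have hz : (lift y₀ (𝟙 T₀)).left p = q.left z := by
    rw [← hq0]
    show q.left ((clM (k := k)).left p) = q.left z
    congr 1
    haveI : IsSeparated (sp (k := k) (PS k)).hom :=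
      inferInstanceAs (IsSeparated (Spec.map (CommRingCat.ofHom (algebraMap k (PS k)))))
    haveI := isClosedImmersion_of_comp_eq_id (sp (k := k) (PS k)).hom (clM (k := k)).left (Over.w _)
    obtain ⟨t', ht'⟩ := (IsLocalRing.specializes_closedPoint ((clM (k := k)).left p)).mem_closed
      (clM (k := k)).left.isClosedEmbedding.isClosed_range ⟨p, rfl⟩
    rw [← hsub t']
    exact ht'
  have hqz : q.left z ∈ (fst X T₀).left ⁻¹ᵁ U := by
    rw [← hz]
    show (lift y₀ (𝟙 T₀) ≫ fst X T₀).left p ∈ U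
    rw [lift_fst]
    exact hy
  obtain ⟨t⟩ : Nonempty (sp (k := k) (LS k)).left := ⟨IsLocalRing.closedPoint (LS k)⟩
  have hspec : q.left ((locM (k := k)).left t) ⤳ q.left z :=
    (IsLocalRing.specializes_closedPoint _).map q.left.continuous
  have hgen : q.left ((locM (k := k)).left t) ∈ Set.range (GIT.psi a x).left.base := by
    show (locM ≫ q).left t ∈ _
    rw [hq]
    exact ⟨_, rfl⟩
  have hmem : q.left z ∈ Set.range (GIT.psi a x).left.base := by
    have h1 : (⟨_, hspec.mem_open ((fst X T₀).left ⁻¹ᵁ U).2 hqz⟩ : ((fst X T₀).left ⁻¹ᵁ U)) ⤳ ⟨_, hqz⟩ :=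
      (subtype_specializes_iff _ _).2 hspec
    exact h1.mem_closed hC hgen
  haveI : LocallyOfFiniteType T₀.hom := inferInstanceAs (LocallyOfFiniteType (𝟙 (Spec (CommRingCat.of k))))
  haveI : IsSeparated T₀.hom := inferInstanceAs (IsSeparated (𝟙 (Spec (CommRingCat.of k))))
  haveI : LocallyOfFiniteType (G ⊗ T₀).hom := by
    show LocallyOfFiniteType (pullback.fst G.hom T₀.hom ≫ G.hom)
    infer_instance
  haveI : LocallyOfFiniteType (X ⊗ T₀).hom := by
    show LocallyOfFiniteType (pullback.fst X.hom T₀.hom ≫ X.hom)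
    infer_instance
  haveI : IsSeparated (X ⊗ T₀).hom := by
    show IsSeparated (pullback.fst X.hom T₀.hom ≫ X.hom)
    infer_instance
  obtain ⟨g₀, hg₀⟩ := exists_kpt_mem (Y := G ⊗ T₀) (Z := (GIT.psi a x).left ⁻¹' {q.left z}) (by
    refine (IsClosed.preimage (GIT.psi a x).left.continuous ?_).isLocallyClosed
    rw [← hz, ← show Set.range (lift y₀ (𝟙 T₀)).left = {(lift y₀ (𝟙 T₀)).left p} from
      Set.ext fun s => ⟨fun ⟨t', ht⟩ => by rw [← ht, hsub t']; rfl, fun hs' => ⟨p, hs'.symm⟩⟩]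
    haveI := isClosedImmersion_of_comp_eq_id (X ⊗ T₀).hom (lift y₀ (𝟙 T₀)).left (Over.w _)
    exact (lift y₀ (𝟙 T₀)).left.isClosedEmbedding.isClosed_range)
    (by obtain ⟨s, hs'⟩ := hmem; exact ⟨s, hs'⟩)
  have hg : g₀ ≫ GIT.psi a x = lift y₀ (𝟙 T₀) := kpt_ext fun s => by
    rw [hsub s, hz]
    exact hg₀ p
  let g : T₀ ⟶ G := g₀ ≫ fst G T₀
  have hgx : lift g x ≫ a.act = y₀ := by
    have h1 := congrArg (fun e => e ≫ fst X T₀) hg
    simp only [GIT.psi, Category.assoc, lift_fst] at h1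
    rw [← h1, ← Category.assoc]
    congr 1
    ext1
    · simp [g]
    · simp only [lift_snd, Category.assoc, whiskerLeft_snd]
      rw [← Category.assoc, toUnit_unique (g₀ ≫ snd G T₀) (𝟙 _), Category.id_comp]
  -- the conjugate fixes the point
  let cg : Gm₀ ⟶ G := toUnit _ ≫ g
  let l' : Gm₀ ⟶ G := cg⁻¹ * l * cg
  have hl' : η[Gm₀] ≫ l' = η[G] := by
    rw [MonObj.comp_mul, MonObj.comp_mul, IsMonHom.one_hom (f := l), GrpObj.comp_inv,
      show η[G] = (1 : T₀ ⟶ G) by rw [Hom.one_def, toUnit_unique (toUnit T₀) (𝟙 _)]; exact (Category.id_comp _).symm,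
      _root_.mul_one, inv_mul_cancel]
  have hfixy : lift l (toUnit Gm₀ ≫ y₀) ≫ a.act = toUnit Gm₀ ≫ y₀ := by
    have := hfix Gm₀ (toUnit _) (𝟙 _)
    rwa [Category.id_comp] at this
  have hcy : lift cg (toUnit Gm₀ ≫ x) ≫ a.act = toUnit Gm₀ ≫ y₀ := by
    rw [← hgx, comp_lift_assoc]
  have hx' : lift l' (toUnit Gm₀ ≫ x) ≫ a.act = toUnit Gm₀ ≫ x := by
    rw [AlgGrpBasic19.act_mul, hcy, AlgGrpBasic19.act_mul, hfixy, ← hcy, ← AlgGrpBasic19.act_mul, inv_mul_cancel,
      AlgGrpBasic19.act_one]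
  have h1 := eq_one_of_fixing ei l' hl' x (hfin k T₀ (Iso.refl _) x (Set.eq_singleton_iff_unique_mem.2
    ⟨⟨p, rfl⟩, fun s ⟨t', ht⟩ => by rw [← ht, hsub t']⟩)) hx'
  refine hl ?_
  have h2 : l = cg * l' * cg⁻¹ := by simp only [l']; group
  rw [h2, h1, _root_.mul_one, mul_inv_cancel]

end Groth.Agent.GITHM15
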