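import Groth.Agent.Lib.GITHM15.Model
import Groth.Agent.Lib.GITHM15.Positive
import Groth.Agent.Lib.GITHM15.Locus
import Groth.Agent.Lib.GITHM15.StableMu

/-!
# Neighbourhoods with closed orbits, finite stabilisers and integral orbit maps
-/

set_option autoImplicit false
set_option linter.style.haveILetI false
set_option backward.isDefEq.respectTransparency.types false
universe u

open CategoryTheory Limits MonoidalCategory CartesianMonoidalCategory MonObj AlgebraicGeometry TopologicalSpace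
open scoped TensorProduct LaurentPolynomial
open WithConv

noncomputable section

namespace Groth.Agent.GITHM15

open Groth.Agent.WtMu19
open Groth.Agent.FixLine19 (sp str)

attribute [local instance] HomSch19.algW

variable {k : Type u} [Field k]
  {G X : Over (Spec (CommRingCat.of k))} [GrpObj G] {a : AlgGrp.Action G X} (B : GLinSh.LinBun G a)

/-- The rational points fixing a rational point. -/
def StabPts (a : AlgGrp.Action G X) (x : 𝟙_ (Over (Spec (CommRingCat.of k))) ⟶ X) :
    Set (𝟙_ (Over (Spec (CommRingCat.of k))) ⟶ G) :=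
  {g | lift g x ≫ a.act = x}

/-- Evaluation of functions on an open at a rational point in it. -/
def evPt (y : 𝟙_ (Over (Spec (CommRingCat.of k))) ⟶ X) {U : X.left.Opens} (h : ⊤ ≤ y.left ⁻¹ᵁ U) :
    Γ(X.left, U) →ₐ[k] k :=
  { (kv (k := k)).toRingHom.comp (y.left.appLE U ⊤ h).hom with
    commutes' := fun c => by
      show kv (y.left.appLE U ⊤ h (algebraMap k _ c)) = _
      rw [HomSch19.map_commutes, algebraMap_eq_str, kv_str]
      rfl }

omit [GrpObj G] in
theorem evPt_apply (y : 𝟙_ (Over (Spec (CommRingCat.of k))) ⟶ X) {U : X.left.Opens} (h : ⊤ ≤ y.left ⁻¹ᵁ U)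
    (r : Γ(X.left, U)) : evPt y h r = kv (y.left.appLE U ⊤ h r) := rfl

omit [GrpObj G] in
/-- A point is in a basic open exactly when the function does not vanish at it. -/
theorem mem_basicOpen_iff_evPt (y : 𝟙_ (Over (Spec (CommRingCat.of k))) ⟶ X) {U : X.left.Opens}
    (h : ⊤ ≤ y.left ⁻¹ᵁ U) (r : Γ(X.left, U)) (p : (𝟙_ (Over (Spec (CommRingCat.of k)))).left) :
    y.left p ∈ X.left.basicOpen r ↔ evPt y h r ≠ 0 := by
  have h1 : y.left p ∈ X.left.basicOpen r ↔
      p ∈ (𝟙_ (Over (Spec (CommRingCat.of k)))).left.basicOpen (y.left.appLE U ⊤ h r) := by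
    rw [Scheme.basicOpen_appLE]
    exact ⟨fun hm => ⟨trivial, hm⟩, fun hm => hm.2⟩
  rw [h1, evPt_apply]
  constructor
  · intro hm h0
    rw [← str_kv (y.left.appLE U ⊤ h r), h0, map_zero, Scheme.basicOpen_zero] at hm
    exact hm
  · intro h0
    rw [← str_kv (y.left.appLE U ⊤ h r), Scheme.basicOpen_of_isUnit _ ((IsUnit.mk0 _ h0).map _)]
    trivial

omit [GrpObj G] in
/-- Points of an affine open with the same values are equal. -/
theorem evPt_ext {U : X.left.Opens} (hU : IsAffineOpen U) {y y' : 𝟙_ (Over (Spec (CommRingCat.of k))) ⟶ X}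
    (h : ⊤ ≤ y.left ⁻¹ᵁ U) (h' : ⊤ ≤ y'.left ⁻¹ᵁ U) (e : evPt y h = evPt y' h') : y = y' := by
  haveI : IsAffine U.toScheme := hU
  have e1 : y.left.appLE U ⊤ h = y'.left.appLE U ⊤ h' := CommRingCat.hom_ext <| RingHom.ext fun r => by
    have := AlgHom.congr_fun e r
    rw [evPt_apply, evPt_apply] at this
    exact kv.injective this
  have e2 : y.left.resLE U ⊤ h = y'.left.resLE U ⊤ h' := ext_of_isAffine (by
    show (y.left.resLE U ⊤ h).app ⊤ = (y'.left.resLE U ⊤ h').app ⊤
    rw [Scheme.Hom.resLE_app_top, Scheme.Hom.resLE_app_top, e1])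
  have e3 := congrArg (· ≫ U.ι) e2
  simp only [Scheme.Hom.resLE_comp_ι] at e3
  haveI : IsIso (⊤ : (𝟙_ (Over (Spec (CommRingCat.of k)))).left.Opens).ι :=
    inferInstanceAs (IsIso (Scheme.topIso _).hom)
  exact Over.OverMorphism.ext ((cancel_epi _).1 e3)

/-- The locus of an invariant function is stable under rational points of the group. -/
theorem act_mem_nv {n : ℕ} {f : Γ(B.V.left, ⊤)} (hf : B.IsInvSection n f)
    {y : 𝟙_ (Over (Spec (CommRingCat.of k))) ⟶ X} (h : ⊤ ≤ y.left ⁻¹ᵁ nv B n f)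
    (g : 𝟙_ (Over (Spec (CommRingCat.of k))) ⟶ G) : ⊤ ≤ (lift g y ≫ a.act).left ⁻¹ᵁ nv B n f := by
  intro p _
  show a.act.left ((lift g y).left p) ∈ (nv B n f : Set X.left)
  rw [coe_nv B hf.1]
  refine (Set.ext_iff.1 (act_preimage_nonvanishing B hf.2) ((lift g y).left p)).2 ?_
  show (lift g y ≫ snd G X).left p ∈ GLinSh.nonvanishing B.π f
  rw [lift_snd, ← coe_nv B hf.1]
  exact h trivial

/-- A homogeneous polynomial in functions of one weight has weight. -/
theorem hasWeight_aeval {N D : ℕ} {κ : Type u} {b : κ → Γ(B.V.left, ⊤)}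
    (hb : ∀ i, GLinSh.HasWeight B.atlas.chart N (b i)) {P : MvPolynomial κ k} (hP : P.IsHomogeneous D) :
    GLinSh.HasWeight B.atlas.chart (D * N) (MvPolynomial.aeval b P) := by
  classical
  rw [P.as_sum, map_sum]
  refine Finset.sum_induction _ (GLinSh.HasWeight B.atlas.chart (D * N)) (fun _ _ => HasWeight.add B)
    (HasWeight.zero B _) fun s hs => ?_
  rw [MvPolynomial.aeval_monomial, algebraMap_eq_str]
  refine HasWeight.str_mul B ?_ _
  have hcard : s.sum (fun _ e => e) = D := by
    have := hP (MvPolynomial.mem_support_iff.1 hs)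
    rw [Finsupp.weight_apply] at this
    simpa [Finsupp.sum] using this
  rw [← hcard]
  clear hs hcard
  induction s using Finsupp.induction with
  | zero => simpa using HasWeight.one B
  | single_add i e s hi he ih =>
    rw [Finsupp.sum_add_index' (fun _ => rfl) (fun _ _ _ => rfl), Finsupp.sum_single_index rfl,
      Finsupp.prod_add_index' (fun _ => pow_zero _) (fun _ _ _ => pow_add _ _ _),
      show ((Finsupp.single i e).prod fun x => HPow.hPow (b x)) = b i ^ e from Finsupp.prod_single_index (pow_zero _),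
      add_mul]
    exact HasWeight.mul B (HasWeight.pow B (hb i) e) ih

/-- A homogeneous polynomial at a multiple of a vector. -/
theorem eval_smul_of_isHomogeneous {D : ℕ} {κ : Type u} (w : κ → k) (c : k) {P : MvPolynomial κ k}
    (hP : P.IsHomogeneous D) : MvPolynomial.eval (fun i => w i * c) P = c ^ D * MvPolynomial.eval w P := by
  classical
  rw [P.as_sum, map_sum, map_sum, Finset.mul_sum]
  refine Finset.sum_congr rfl fun s hs => ?_
  have hcard : ∑ i ∈ s.support, s i = D := by
    have := hP (MvPolynomial.mem_support_iff.1 hs)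
    rw [Finsupp.weight_apply] at this
    simpa [Finsupp.sum] using this
  rw [MvPolynomial.eval_monomial, MvPolynomial.eval_monomial, ← hcard]
  simp only [Finsupp.prod, mul_pow, Finset.prod_mul_distrib, Finset.prod_pow_eq_pow_sum]
  ring

variable [IsAlgClosed k] [CharZero k] {A : Type u} [CommRing A] [HopfAlgebra k A] [Algebra.FiniteType k A]
  (ei : G ⟶ CoactBr.sp k A) [IsIso ei] [IsMonHom ei]

/-- An invariant locus with integral orbit maps. -/
def Good (U : X.left.Opens) : Prop :=
  ∃ (N : ℕ) (κ : Type u) (_ : Fintype κ) (b : κ → Γ(B.V.left, ⊤)) (m : κ → κ → A) (d : MvPolynomial κ k) (D : ℕ),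
    1 ≤ D * N ∧ 0 < D ∧ IsMatrix B ei b m ∧ (∀ i, GLinSh.HasWeight B.atlas.chart N (b i)) ∧ OrbitIntegral m d ∧
      B.IsInvSection (D * N) (MvPolynomial.aeval b d) ∧
      IsAffineOpen (nv B (D * N) (MvPolynomial.aeval b d)) ∧ U = nv B (D * N) (MvPolynomial.aeval b d)

include ei in
/-- Every point of a good locus is properly stable. -/
theorem Good.subset_psLocus [IsAffine G.left] [LocallyOfFiniteType G.hom] {U : X.left.Opens} (h : Good B ei U) :
    (U : Set X.left) ⊆ B.psLocus := by
  obtain ⟨N, κ, _, b, m, d, D, h1, hD, hm, hb, hint, hf, haff, rfl⟩ := h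
  intro x hx
  have key := orbit_closed_finite B ei hm hb hD hint hf.1 hf.2 haff
  refine ⟨⟨_, _, h1, hf, ?_, _, coe_nv B hf.1, haff, fun Ω _ _ T e fT hr => (key Ω T e fT hr).1⟩,
    fun Ω _ _ T e fT hr => (key Ω T e fT (hr ▸ Set.singleton_subset_iff.2 hx)).2⟩
  rw [← coe_nv B hf.1]
  exact hx

include ei in
set_option maxHeartbeats 3200000 in
/-- A rational point with finite stabiliser in an affine invariant locus with closed orbits lies in a good locus. -/
theorem exists_good_nhd [IsAffine G.left] [LocallyOfFiniteType G.hom] [LocallyOfFiniteType X.hom]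
    [CompactSpace X.left] (hLR : HopfRep.IsLinearlyReductive k A) {n : ℕ} {f : Γ(B.V.left, ⊤)} (hn : 1 ≤ n)
    (hf : B.IsInvSection n f) (ha : IsAffineOpen (nv B n f)) (hcl : GLinSh.ClosedOrbitsOn a (nv B n f))
    (y : 𝟙_ (Over (Spec (CommRingCat.of k))) ⟶ X) (hy : ⊤ ≤ y.left ⁻¹ᵁ nv B n f) (hfin : (StabPts a y).Finite) :
    ∃ U, Good B ei U ∧ U ≤ nv B n f ∧ ⊤ ≤ y.left ⁻¹ᵁ U := by
  classical
  haveI : IsReduced A := Groth.Agent.HopfRedH28.isReduced_of_charZero k A
  set U := nv B n f with hUdef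
  obtain ⟨M, κ, _, b, m, d₁, q, hM, hm, hbli, hb, hd₁, hd₁c, hd₁f, hq, hqs⟩ := exists_model B ei hf ha
  set F := f ^ M
  letI := matComod (coef (k := k) m) (comul_coef B ei hm hbli) (counit_coef B ei hm hbli)
  haveI := isCoactAlg_matComod (coef (k := k) m) (comul_coef B ei hm hbli) (counit_coef B ei hm hbli)
  have hlin := isLinear_matComod (coef (k := k) m) (comul_coef B ei hm hbli) (counit_coef B ei hm hbli)
  let φ : MvPolynomial κ k →ₐ[k] Γ(X.left, U) := MvPolynomial.aeval q
  let w : κ → k := fun i => evPt y hy (q i)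
  have hFinv : GLinSh.IsInvFn B.lift F := by
    show B.lift.act.left.appTop (f ^ M) = _
    rw [map_pow, map_pow, show B.lift.act.left.appTop f = _ from hf.2]
  haveI : Subsingleton (Spec (CommRingCat.of k) : Scheme.{u}) := inferInstanceAs (Subsingleton (PrimeSpectrum k))
  let p₁ : (𝟙_ (Over (Spec (CommRingCat.of k)))).left := IsLocalRing.closedPoint k
  obtain ⟨v, hv, hu⟩ := exists_pt_unit B (T := 𝟙_ (Over (Spec (CommRingCat.of k)))) (Iso.refl _) y hf.1
    (by rintro _ ⟨p, rfl⟩; exact hy trivial)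
  have huF : IsUnit (v.left.appTop F) := by
    rw [show v.left.appTop (f ^ M) = v.left.appTop f ^ M from map_pow v.left.appTop.hom f M]
    exact hu.pow M
  -- the coordinates along the orbit
  have hval : ∀ (g : 𝟙_ (Over (Spec (CommRingCat.of k))) ⟶ G) (h : ⊤ ≤ (lift g y ≫ a.act).left ⁻¹ᵁ U) (i : κ),
      evPt (lift g y ≫ a.act) h (q i) * kv (v.left.appTop F) =
        ∑ j, kv (evA ei g (m i j)) * kv (v.left.appTop (b j)) := by
    intro g h i
    let v' := lift g v ≫ B.lift.act
    have hv' : v' ≫ B.π = lift g y ≫ a.act := by rw [lift_act_π, hv]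
    have h' : ⊤ ≤ v'.left ⁻¹ᵁ (B.π.left ⁻¹ᵁ U) := by
      show ⊤ ≤ (v' ≫ B.π).left ⁻¹ᵁ U
      rw [hv']
      exact h
    have hF : v'.left.appTop F = v.left.appTop F := by
      rw [show v'.left.appTop F = (lift g v).left.appTop (B.lift.act.left.appTop F) from rfl,
        show B.lift.act.left.appTop F = _ from hFinv]
      show (lift g v ≫ snd G B.V).left.appTop F = _
      rw [lift_snd]
    have e := congrArg kv (appTop_of_ratio B (hq i) v' h')
    rw [hm _ g v i, map_sum, hF, map_mul] at e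
    simp only [map_mul] at e
    rw [e, evPt_apply]
    congr 2
    exact (ConcreteCategory.congr_hom (HMNum19.appLE_congr (congrArg (fun e => CommaMorphism.left e) hv')
      (show ⊤ ≤ (v' ≫ B.π).left ⁻¹ᵁ U from h')) _).symm
  have hwb : ∀ i, w i * kv (v.left.appTop F) = kv (v.left.appTop (b i)) := fun i => by
    have e := congrArg kv (appTop_of_ratio B (hq i) v
      (show ⊤ ≤ (v ≫ B.π).left ⁻¹ᵁ U by rw [hv]; exact hy))
    rw [map_mul] at e
    rw [e]
    congr 1
    show kv _ = kv _
    congr 1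
    exact (ConcreteCategory.congr_hom (HMNum19.appLE_congr (congrArg (fun e => CommaMorphism.left e) hv) _) _).symm
  have hcF : kv (v.left.appTop F) ≠ 0 := (huF.map kv).ne_zero
  have hmv : ∀ g : OrbitH28.Pts k A, OrbitH28.mv g (GLin.vecPt k κ w) =
      (evPt _ (act_mem_nv B hf hy (gPt ei (RedLR15.ptInv g.ofConv)))).comp φ := fun g => by
    refine MvPolynomial.algHom_ext fun i => ?_
    rw [OrbitH28.mv_apply, orbitHom_matComod, map_sum, AlgHom.comp_apply,
      show φ (MvPolynomial.X i) = q i from MvPolynomial.aeval_X _ i]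
    refine mul_right_cancel₀ hcF ?_
    rw [hval, Finset.sum_mul]
    refine Finset.sum_congr rfl fun j _ => ?_
    rw [evA_gPt, kv_str, map_smul, smul_eq_mul, ← hwb j]
    show w j * g.ofConv (coef (k := k) m i j) * _ = g.ofConv (coef (k := k) m i j) * _
    ring
  have hsurjPts : ∀ g : 𝟙_ (Over (Spec (CommRingCat.of k))) ⟶ G,
      ∃ h : OrbitH28.Pts k A, gPt ei (RedLR15.ptInv h.ofConv) = g := fun g => by
    let χ : A →ₐ[k] k :=
      { (kv (k := k)).toRingHom.comp (evA ei g).toRingHom with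
        commutes' := fun c => by
          show kv (evA ei g (algebraMap k A c)) = _
          rw [AlgHom.commutes, algebraMap_eq_str, kv_str]
          rfl }
    refine ⟨toConv (RedLR15.ptInv χ), (cancel_mono ei).1 (DiagGL.ev_injective fun x => ?_)⟩
    show evA ei (gPt ei (RedLR15.ptInv (RedLR15.ptInv χ))) x = evA ei g x
    rw [evA_gPt]
    show str _ (χ (HopfAlgebra.antipodeAlgHom k A (HopfAlgebra.antipodeAlgHom k A x))) = _
    rw [HopfAlgebra.antipodeAlgHom_apply, HopfAlgebra.antipodeAlgHom_apply,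
      Groth.Agent.CoalgH23.antipode_antipode (k := k) x]
    exact str_kv _
  have hwy : GLin.vecPt k κ w = (evPt y hy).comp φ := MvPolynomial.algHom_ext fun i => by
    simp [GLin.vecPt, w, φ]
  -- finite stabiliser
  have hwfin : OrbitH28.FinStab A (GLin.vecPt k κ w) := by
    refine Set.Finite.of_finite_image (f := fun g : OrbitH28.Pts k A => gPt ei (RedLR15.ptInv g.ofConv))
      (hfin.subset ?_) fun g _ g' _ he => ?_
    · rintro _ ⟨g, hg, rfl⟩
      refine evPt_ext ha (act_mem_nv B hf hy _) hy ?_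
      refine (AlgHom.cancel_right hqs).1 ?_
      exact ((hmv g).symm.trans hg).trans hwy
    · refine WithConv.ofConv_injective (AlgHom.ext fun x => ?_)
      have := congrArg (fun t => kv (evA ei t (HopfAlgebra.antipodeAlgHom k A x))) he
      simp only [evA_gPt, kv_str] at this
      simpa [RedLR15.ptInv, Groth.Agent.CoalgH23.antipode_antipode] using this
  -- closed orbit
  have hwcl : OrbitH28.Closed A (GLin.vecPt k κ w) := by
    intro z hz
    have hzero : ∀ P : MvPolynomial κ k,
        (∀ g : OrbitH28.Pts k A, evPt _ (act_mem_nv B hf hy (gPt ei (RedLR15.ptInv g.ofConv))) (φ P) = 0) →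
          z P = 0 := fun P hP => hz (RedLR15.eq_zero_of_forall_pts (k := k) fun χ => by
        have := AlgHom.congr_fun (hmv (toConv χ)) P
        rw [AlgHom.comp_apply, hP] at this
        exact this)
    have hker : RingHom.ker φ ≤ RingHom.ker z := fun P hP => hzero P fun g => by
      rw [RingHom.mem_ker.1 hP, map_zero]
    let ζ : Γ(X.left, U) →ₐ[k] k := (Ideal.Quotient.liftₐ (RingHom.ker φ) z fun P hP => hker hP).comp
      (Ideal.quotientKerAlgEquivOfSurjective hqs).symm.toAlgHom
    have hζ : ∀ P, ζ (φ P) = z P := fun P => by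
      have e : (Ideal.quotientKerAlgEquivOfSurjective hqs).symm (φ P) = Ideal.Quotient.mk _ P := by
        apply (Ideal.quotientKerAlgEquivOfSurjective hqs).injective
        rw [AlgEquiv.apply_symm_apply]
        rfl
      show Ideal.Quotient.liftₐ (RingHom.ker φ) z (fun a ha => hker ha) ((Ideal.quotientKerAlgEquivOfSurjective hqs).symm (φ P)) = _
      rw [e]
      rfl
    let p₀ : X.left := ha.fromSpec ⟨RingHom.ker ζ, RingHom.ker_isPrime ζ⟩
    have hp₀ : ∀ r : Γ(X.left, U), p₀ ∈ X.left.basicOpen r ↔ ζ r ≠ 0 := fun r => by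
      show _ ∈ ha.fromSpec ⁻¹ᵁ X.left.basicOpen r ↔ _
      rw [ha.fromSpec_preimage_basicOpen]
      exact Iff.rfl
    have hp₀U : p₀ ∈ U := by
      have h := Set.mem_range_self (f := ha.fromSpec.base) (⟨RingHom.ker ζ, RingHom.ker_isPrime ζ⟩ : PrimeSpectrum _)
      rwa [ha.range_fromSpec] at h
    let o : G ⊗ 𝟙_ (Over (Spec (CommRingCat.of k))) ⟶ X := (G ◁ y) ≫ a.act
    have ho : p₀ ∈ Set.range o.left.base := by
      by_contra hno
      obtain ⟨C, hC, hCeq⟩ := isClosed_induced_iff.1
        (hcl k (𝟙_ (Over (Spec (CommRingCat.of k)))) (Iso.refl _) y (by rintro _ ⟨p, rfl⟩; exact hy trivial))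
      let s : X ⟶ X ⊗ 𝟙_ (Over (Spec (CommRingCat.of k))) := lift (𝟙 X) (toUnit X)
      have hs : ∀ z, (fst X _).left (s.left z) = z := fun z => by
        show (s ≫ fst X _).left z = z
        rw [lift_fst]
        rfl
      have hnC : s.left p₀ ∉ C := fun hmem => hno (by
        obtain ⟨t, ht⟩ := (Set.ext_iff.1 hCeq ⟨s.left p₀, show (fst X _).left (s.left p₀) ∈ U by
          rw [hs]; exact hp₀U⟩).1 hmem
        refine ⟨t, ?_⟩
        have := congrArg (fst X (𝟙_ (Over (Spec (CommRingCat.of k))))).left ht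
        rw [hs] at this
        rw [← this]
        show o.left t = (GIT.psi a y ≫ fst X _).left t
        rw [GIT.psi, lift_fst])
      obtain ⟨r, hrle, hr⟩ := ha.exists_basicOpen_le
        (V := ⟨(s.left ⁻¹' C)ᶜ, (hC.preimage s.left.continuous).isOpen_compl⟩) ⟨p₀, hnC⟩ hp₀U
      obtain ⟨P, hP⟩ := hqs r
      refine (hp₀ r).1 hr ?_
      rw [← hP, hζ]
      refine hzero P fun g => ?_
      rw [show φ P = r from hP]
      by_contra hne
      have hmem := (mem_basicOpen_iff_evPt _ _ r p₁).2 hne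
      refine hrle hmem ?_
      set g₀ := gPt ei (RedLR15.ptInv g.ofConv)
      have hU' := act_mem_nv B hf hy g₀ (trivial : p₁ ∈ _)
      refine (Set.ext_iff.1 hCeq ⟨s.left ((lift g₀ y ≫ a.act).left p₁), show (fst X _).left _ ∈ U by
        rw [hs]; exact hU'⟩).2 ⟨(lift g₀ (𝟙 _)).left p₁, ?_⟩
      show (lift g₀ (𝟙 _) ≫ GIT.psi a y).left p₁ = (lift g₀ y ≫ a.act ≫ s).left p₁
      congr 2
      rw [GIT.psi]
      ext1 <;> simp [s]
    obtain ⟨t, ht⟩ := ho
    let Z : Set X.left := (U : Set X.left) ∩ ⋂ r ∈ RingHom.ker ζ, (X.left.basicOpen r : Set X.left)ᶜ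
    have hZ : IsLocallyClosed Z := U.2.isLocallyClosed.inter
      (isClosed_biInter fun r _ => (X.left.basicOpen r).2.isClosed_compl).isLocallyClosed
    haveI : LocallyOfFiniteType (G ⊗ 𝟙_ (Over (Spec (CommRingCat.of k)))).hom :=
      inferInstanceAs (LocallyOfFiniteType (pullback.fst G.hom (𝟙 _) ≫ G.hom))
    obtain ⟨t', ht'⟩ := exists_kpt_mem (hZ.preimage o.left.continuous) ⟨t, by
      rw [Set.mem_preimage, ht]
      exact ⟨hp₀U, Set.mem_iInter₂.2 fun r hr hr' => (hp₀ r).1 hr' hr⟩⟩
    obtain ⟨g, hg⟩ := hsurjPts (t' ≫ fst G _)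
    refine ⟨g, ?_⟩
    rw [hmv, ← (MvPolynomial.algHom_ext fun i => hζ (MvPolynomial.X i) : ζ.comp φ = z)]
    congr 1
    refine OrbitH28.eq_of_ker_le fun r hr => ?_
    by_contra hne
    have hmem := (mem_basicOpen_iff_evPt _ (act_mem_nv B hf hy (gPt ei (RedLR15.ptInv g.ofConv))) r p₁).2 hne
    refine (Set.mem_iInter₂.1 (ht' p₁).2 r hr) ?_
    have e : lift (gPt ei (RedLR15.ptInv g.ofConv)) y ≫ a.act = t' ≫ o := by
      rw [hg]
      show _ = t' ≫ (G ◁ y) ≫ a.act
      rw [← Category.assoc t']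
      congr 1
      ext1
      · simp
      · simp only [lift_snd, Category.assoc, whiskerLeft_snd]
        rw [← Category.assoc, toUnit_unique (t' ≫ snd G _) (𝟙 _), Category.id_comp]
    rw [e] at hmem
    exact hmem
  obtain ⟨d₀, hd₀, hd₀w, hd₀fin⟩ := OrbitH28.exists_invariant_finStab hLR hwcl hwfin
  have hstable : ∀ z : κ → k, MvPolynomial.eval z d₀ ≠ 0 → GLin.IsStableVec k A z := fun z hz => by
    obtain ⟨h1, h2⟩ := (OrbitH28.stable_iff hLR (GLin.vecPt k κ z)).2 fun u hu => hd₀fin u (by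
      rw [hu d₀ hd₀]
      simpa [GLin.vecPt] using hz)
    exact ⟨(OrbitH28.closed_iff_isClosedOrbit _).1 h1, FormSub28.hasFiniteStab_of_finStab h2⟩
  obtain ⟨e₀, he₀⟩ : ∃ e₀, MvPolynomial.eval w ((scaleVars d₀).coeff e₀) ≠ 0 := by
    by_contra! hcon
    have h0 : (scaleVars d₀).map (MvPolynomial.eval w) = 0 := Polynomial.ext fun n => by
      rw [Polynomial.coeff_map, hcon, Polynomial.coeff_zero]
    have h1 := eval_map_scaleVars w 1 d₀
    rw [h0, Polynomial.eval_zero] at h1
    simp only [_root_.one_mul] at h1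
    have h2 : MvPolynomial.eval w d₀ = 1 := by simpa [GLin.vecPt] using hd₀w
    exact zero_ne_one (h1.trans h2)
  let d := (scaleVars d₀).coeff e₀ * d₁
  have hd : coactA (k := k) (coef (k := k) m) d = d ⊗ₜ[k] (1 : A) := by
    rw [map_mul, hd₁c, coactA_coeff_scaleVars (coef (k := k) m) hd₀ e₀, Algebra.TensorProduct.tmul_mul_tmul,
      _root_.mul_one]
  have hdhom : d.IsHomogeneous (e₀ + 1) := (coeff_scaleVars_homogeneous d₀ e₀).mul hd₁
  have hint : OrbitIntegral m d := fun R _ _ ev ζ e he r =>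
    isIntegral_orbit hLR hlin (fun z hz lam hlam => by
      have hze : MvPolynomial.eval z ((scaleVars d₀).coeff e₀) ≠ 0 := fun h => hz (by rw [map_mul, h, zero_mul])
      have hq' : (scaleVars d₀).map (MvPolynomial.eval z) ≠ 0 := fun h => hze (by
        rw [← Polynomial.coeff_map, h, Polynomial.coeff_zero])
      obtain ⟨c, hc0, hc⟩ : ∃ c : k, c ≠ 0 ∧ ((scaleVars d₀).map (MvPolynomial.eval z)).eval c ≠ 0 := by
        by_contra! hcon
        exact hq' (Polynomial.eq_zero_of_infinite_isRoot _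
          (Set.Infinite.mono (s := {t : k | t ≠ 0}) (fun t ht => hcon t ht) (Set.finite_singleton (0 : k)).infinite_compl))
      rw [eval_map_scaleVars] at hc
      by_contra! hcon
      refine HM15.not_hasLimit_of_isStableVec (hstable _ hc) hlam ((Comodule.hasLimit_iff lam _).2 fun i n hn => ?_)
      have esm : Comodule.coordOrbit lam (fun i => c * z i) i = c • Comodule.coordOrbit lam z i := by
        show lam (GLin.orbitHom k A _ (MvPolynomial.X i)) = c • lam (GLin.orbitHom k A _ (MvPolynomial.X i))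
        rw [orbitHom_matComod, orbitHom_matComod, ← map_smul, Finset.smul_sum]
        simp only [smul_smul]
      rw [esm, AddMonoidAlgebra.coeff_smul, Finsupp.smul_apply, hcon i n hn, smul_zero]) ev ζ he r
  have hwt := hasWeight_aeval B hb hdhom
  have hg₀ := hasWeight_aeval B hb (coeff_scaleVars_homogeneous d₀ e₀)
  set N := M * n
  have hval' : MvPolynomial.aeval b d = MvPolynomial.aeval b ((scaleVars d₀).coeff e₀) * F := by
    rw [map_mul, hd₁f]
  have hle : nv B ((e₀ + 1) * N) (MvPolynomial.aeval b d) ≤ U := by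
    rw [hval', Nat.succ_mul, nv_mul B hg₀ (HasWeight.pow B hf.1 M), nv_pow B hf.1 M hM]
    exact inf_le_right
  have haff : IsAffineOpen (nv B ((e₀ + 1) * N) (MvPolynomial.aeval b d)) := by
    have h1 : nv B (((e₀ + 1) * M) * n) (f ^ ((e₀ + 1) * M)) = U :=
      nv_pow B hf.1 _ (Nat.mul_pos (Nat.succ_pos _) hM)
    rw [Nat.mul_assoc] at h1
    have h2 := isAffineOpen_nv_inf B (g := f ^ ((e₀ + 1) * M))
      (by have := HasWeight.pow B hf.1 ((e₀ + 1) * M); rwa [Nat.mul_assoc] at this) hwt (by rw [h1]; exact ha)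
    rwa [h1, inf_eq_right.2 hle] at h2
  refine ⟨_, ⟨N, κ, inferInstance, b, m, d, e₀ + 1, Nat.mul_pos (Nat.succ_pos _) (Nat.mul_pos hM hn),
    Nat.succ_pos _, hm, hb, hint, ⟨hwt, isInvFn_aeval B ei hm hd⟩, haff, rfl⟩, hle, ?_⟩
  intro p _
  show y.left p ∈ nv B ((e₀ + 1) * N) (MvPolynomial.aeval b d)
  rw [mem_nv_iff_supp B (Nat.mul_pos (Nat.succ_pos _) (Nat.mul_pos hM hn)).ne' hwt]
  refine ⟨v, hv, fun h0 => ?_⟩
  have e : ∀ Q : MvPolynomial κ k,
      kv (v.left.appTop (MvPolynomial.aeval b Q)) = MvPolynomial.eval (fun i => w i * kv (v.left.appTop F)) Q := by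
    intro Q
    induction Q using MvPolynomial.induction_on with
    | C r => rw [MvPolynomial.aeval_C, MvPolynomial.eval_C, algebraMap_eq_str, str_nat, kv_str]
    | add p q hp hq => simp only [map_add, hp, hq]
    | mul_X p i hp => simp only [map_mul, MvPolynomial.aeval_X, MvPolynomial.eval_X, hp, hwb]
  have h1 := e d
  rw [h0, map_zero, eval_smul_of_isHomogeneous _ _ hdhom, map_mul] at h1
  refine mul_ne_zero (pow_ne_zero _ hcF) (mul_ne_zero he₀ ?_) h1.symm
  have h2 := e d₁
  rw [hd₁f, eval_smul_of_isHomogeneous _ _ hd₁, pow_one] at h2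
  intro h3
  rw [h3, mul_zero] at h2
  exact hcF h2

end Groth.Agent.GITHM15
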