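import Groth.Agent.Lib.GITHM15.Rep
import Groth.Agent.Lib.UniStr23.Good
import Mathlib.RingTheory.Bialgebra.MonoidAlgebra

/-!
# One-parameter subgroups from cocharacters of the algebra
-/

set_option autoImplicit false
set_option linter.style.haveILetI false
set_option backward.isDefEq.respectTransparency.types false
universe u

open CategoryTheory Limits MonoidalCategory CartesianMonoidalCategory MonObj AlgebraicGeometry
open scoped TensorProduct LaurentPolynomial
open WithConv

noncomputable section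

namespace Groth.Agent.GITHM15

open Groth.Agent.WtMu19
open Groth.Agent.FixLine19 (sp str)

attribute [local instance] HomSch19.algW

variable {k : Type u} [Field k]

local notation "Gm₀" => Red.Gm (Spec (CommRingCat.of k))

/-- The monomials as functions on the multiplicative group, with exponents negated. -/
def negMon {T : Over (Spec (CommRingCat.of k))} (g : T ⟶ Gm₀) : Multiplicative ℤ →* Γ(T.left, ⊤) where
  toFun n := zp g (-(Multiplicative.toAdd n))
  map_one' := zp_zero g
  map_mul' a b := by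
    show zp g (-(Multiplicative.toAdd a + Multiplicative.toAdd b)) = _
    rw [neg_add, zp_add]

/-- The identification of the multiplicative group with the spectrum of Laurent polynomials, inverted. -/
def jneg : Gm₀ ⟶ CoactBr.sp k k[T;T⁻¹] :=
  DiagGL.mk (AddMonoidAlgebra.lift k Γ((Gm₀).left, ⊤) ℤ (negMon (𝟙 _))).toRingHom fun r => by
    show AddMonoidAlgebra.lift k Γ((Gm₀).left, ⊤) ℤ (negMon (𝟙 _)) (algebraMap k _ r) = _
    rw [AlgHom.commutes, algebraMap_eq_str]
    rfl

theorem ev_jneg {T : Over (Spec (CommRingCat.of k))} (g : T ⟶ Gm₀) (q : k[T;T⁻¹]) :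
    DiagGL.ev (g ≫ jneg) q = q.coeff.sum fun n r => str T r * zp g (-n) := by
  rw [DiagGL.ev_comp, jneg, DiagGL.ev_mk]
  show g.left.appTop (AddMonoidAlgebra.lift k Γ((Gm₀).left, ⊤) ℤ (negMon (𝟙 _)) q) = _
  rw [AddMonoidAlgebra.lift_apply, map_finsuppSum]
  refine Finsupp.sum_congr fun n _ => ?_
  rw [smul_eq_str, map_mul, str_nat]
  show str T _ * g.left.appTop (zp (𝟙 _) (-n)) = _
  rw [← zp_nat, Category.comp_id]

theorem ev_jneg_T {T' : Over (Spec (CommRingCat.of k))} (g : T' ⟶ Gm₀) (n : ℤ) :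
    DiagGL.ev (g ≫ jneg) (LaurentPolynomial.T n : k[T;T⁻¹]) = zp g (-n) := by
  rw [ev_jneg]
  rw [show (LaurentPolynomial.T n : k[T;T⁻¹]).coeff = Finsupp.single n 1 from rfl, Finsupp.sum_single_index,
    map_one, _root_.one_mul]
  rw [map_zero, zero_mul]

theorem isMonHom_jneg : IsMonHom (jneg (k := k)) := by
  refine TorsorSch25.isMonHom_of_points jneg fun X x y => DiagGL.ev_injective fun q => ?_
  induction q using LaurentPolynomial.induction_on' with
  | add p q hp hq => rw [map_add, map_add, hp, hq]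
  | C_mul_T n r =>
    have e : LaurentPolynomial.C r = algebraMap k k[T;T⁻¹] r := rfl
    rw [map_mul, map_mul, e, DiagGL.ev_algebraMap, DiagGL.ev_algebraMap, ev_jneg_T,
      DiagGL.ev_mul_glike _ _ (LaurentPolynomial.comul_T n), ev_jneg_T, ev_jneg_T]
    congr 1
    rw [zp, zp, zp, GmPts.unitOfPt_mul, mul_zpow, Units.val_mul]

variable {A : Type u} [CommRing A] [HopfAlgebra k A] {G : Over (Spec (CommRingCat.of k))} [GrpObj G]
  (ei : G ⟶ CoactBr.sp k A) [IsIso ei] [IsMonHom ei]

/-- The one-parameter subgroup of a cocharacter. -/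
def onePS (lam : A →ₐc[k] k[T;T⁻¹]) : Gm₀ ⟶ G := jneg ≫ CoactBr.pt (lam : A →ₐ[k] k[T;T⁻¹]) ≫ inv ei

theorem isMonHom_onePS (lam : A →ₐc[k] k[T;T⁻¹]) : IsMonHom (onePS ei lam) := by
  haveI := isMonHom_jneg (k := k)
  haveI := Groth.Agent.UniStr23.isMonHom_pt lam
  haveI : IsMonHom (inv ei) :=
    { one_hom := by rw [IsIso.comp_inv_eq]; exact (IsMonHom.one_hom ei).symm
      mul_hom := by
        rw [IsIso.comp_inv_eq, Category.assoc, IsMonHom.mul_hom ei, ← Category.assoc,
          tensorHom_comp_tensorHom, IsIso.inv_hom_id, id_tensorHom_id, Category.id_comp] }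
  exact inferInstanceAs (IsMonHom (jneg ≫ CoactBr.pt (lam : A →ₐ[k] k[T;T⁻¹]) ≫ inv ei))

omit [GrpObj G] [IsIso ei] [IsMonHom ei] in
theorem ev_pt_comp {B : Type u} [CommRing B] [Algebra k B] {T : Over (Spec (CommRingCat.of k))}
    (t : T ⟶ CoactBr.sp k B) (φ : A →ₐ[k] B) (x : A) :
    DiagGL.ev (t ≫ CoactBr.pt φ) x = DiagGL.ev t (φ x) := by
  rw [DiagGL.ev_comp, DiagGL.ev_pt]
  rfl

omit [IsMonHom ei] in
/-- The coordinates of the one-parameter subgroup at the antipode. -/
theorem evA_onePS (lam : A →ₐc[k] k[T;T⁻¹]) {T' : Over (Spec (CommRingCat.of k))} (g : T' ⟶ Gm₀) (x : A) :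
    evA ei (g ≫ onePS ei lam) x =
      ((lam : A →ₐ[k] k[T;T⁻¹]) (HopfAlgebra.antipodeAlgHom k A x)).coeff.sum
        fun n r => str T' r * zp g n := by
  haveI := isMonHom_jneg (k := k)
  haveI := Groth.Agent.UniStr23.isMonHom_pt lam
  let f : T' ⟶ CoactBr.sp k A := g ≫ jneg ≫ CoactBr.pt (lam : A →ₐ[k] k[T;T⁻¹])
  show DiagGL.ev ((g ≫ onePS ei lam) ≫ ei) x = _
  rw [onePS, Category.assoc, Category.assoc, Category.assoc, IsIso.inv_hom_id, Category.comp_id]
  show DiagGL.ev f x = _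
  have hinv : ∀ h : T' ⟶ CoactBr.sp k A,
      DiagGL.ev h⁻¹ x = DiagGL.ev h (HopfAlgebra.antipodeAlgHom k A x) := fun h => by
    rw [Hom.inv_def, show ι[CoactBr.sp k A] = CoactBr.pt (HopfAlgebra.antipodeAlgHom k A) from
      Over.OverMorphism.ext CoactBr.inv_left, ev_pt_comp]
  have e : f = (g⁻¹ ≫ jneg ≫ CoactBr.pt (lam : A →ₐ[k] k[T;T⁻¹]))⁻¹ := by
    rw [GrpObj.inv_comp, _root_.inv_inv]
  rw [e, hinv, ← Category.assoc, ev_pt_comp, ev_jneg]
  refine Finsupp.sum_congr fun n _ => ?_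
  congr 1
  rw [zp, zp, GmPts.unitOfPt_inv, inv_zpow', neg_neg]

end Groth.Agent.GITHM15
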