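import Groth.Agent.Lib.GITHM15.Nearby

/-!
# The action on the properly stable locus is proper
-/

set_option autoImplicit false
set_option linter.style.haveILetI false
set_option backward.isDefEq.respectTransparency.types false
universe u

open CategoryTheory Limits MonoidalCategory CartesianMonoidalCategory MonObj AlgebraicGeometry TopologicalSpace
open scoped TensorProduct

noncomputable section

namespace Groth.Agent.GITHM15

open Groth.Agent.WtMu19
open Groth.Agent.FixLine19 (sp str)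

attribute [local instance] HomSch19.algW

theorem finite_comp_of_range_le {A B C : Type u} [CommRing A] [CommRing B] [CommRing C] {f : A →+* B} {g : C →+* A}
    (hf : f.Finite) (h : ∀ x, f x ∈ (f.comp g).range) : (f.comp g).Finite := by
  letI := f.toAlgebra
  obtain ⟨s, hs⟩ := (hf : Module.Finite A B).fg_top
  letI := (f.comp g).toAlgebra
  refine ⟨⟨s, eq_top_iff.2 fun x _ => ?_⟩⟩
  have hx : x ∈ Submodule.span A (s : Set B) := hs ▸ trivial
  induction hx using Submodule.span_induction with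
  | mem x hx => exact Submodule.subset_span hx
  | zero => exact zero_mem _
  | add x y _ _ hx hy => exact add_mem (hx trivial) (hy trivial)
  | smul r x _ hx =>
    obtain ⟨c, hc⟩ := h r
    have e : r • x = c • x := by
      show f r * x = f (g c) * x
      rw [← hc]
      rfl
    rw [e]
    exact Submodule.smul_mem _ c (hx trivial)

variable {k : Type u} [Field k] {G X : Over (Spec (CommRingCat.of k))} [GrpObj G] {a : AlgGrp.Action G X}
  (B : GLinSh.LinBun G a)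

/-- A family of points in an affine coordinate domain lifts with coordinate one. -/
theorem exists_pt_coord_affine {U W : X.left.Opens} {y : Γ(B.V.left, B.π.left ⁻¹ᵁ U)} (hy : y ∈ B.atlas.chart U)
    (hW : IsAffineOpen W) (hWU : W ≤ U) {T : Over (Spec (CommRingCat.of k))} (p : T ⟶ X)
    (hpT : ⊤ ≤ p.left ⁻¹ᵁ W) :
    ∃ (v : T ⟶ B.V) (_ : v ≫ B.π = p) (h : ⊤ ≤ v.left ⁻¹ᵁ (B.π.left ⁻¹ᵁ U)),
      HMNum.evalFn B.π y v h = 1 := by
  haveI := B.atlas.affine
  have hpW : Set.range p.left ⊆ Set.range hW.fromSpec := by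
    rw [hW.range_fromSpec]
    rintro _ ⟨z, rfl⟩
    exact hpT trivial
  let t : T.left ⟶ Spec Γ(X.left, W) := IsOpenImmersion.lift hW.fromSpec p.left hpW
  have hV : IsAffineOpen (B.π.left ⁻¹ᵁ W) := hW.preimage B.π.left
  let e := RingEquiv.ofBijective _ (B.atlas.coord U y hy W hW hWU)
  let ψ : Γ(B.V.left, B.π.left ⁻¹ᵁ W) →+* Γ(X.left, W) :=
    (Polynomial.eval₂RingHom (RingHom.id _) 1).comp e.symm.toRingHom
  have hψC : B.π.left.appLE W (B.π.left ⁻¹ᵁ W) le_rfl ≫ CommRingCat.ofHom ψ = 𝟙 _ := by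
    ext c
    rw [← Scheme.Hom.app_eq_appLE]
    show Polynomial.eval₂RingHom (RingHom.id _) _ (e.symm (B.π.left.app W c)) = c
    rw [show B.π.left.app W c = e (Polynomial.C c) by simp [e], RingEquiv.symm_apply_apply]
    simp
  have hbase : (t ≫ Spec.map (CommRingCat.ofHom ψ) ≫ hV.fromSpec) ≫ B.π.left = p.left := by
    rw [Category.assoc, Category.assoc, ← hW.SpecMap_appLE_fromSpec B.π.left hV le_rfl, ← Spec.map_comp_assoc, hψC,
      Spec.map_id, Category.id_comp]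
    exact IsOpenImmersion.lift_fac _ _ _
  let v : T ⟶ B.V := Over.homMk (t ≫ Spec.map (CommRingCat.ofHom ψ) ≫ hV.fromSpec) (by
    rw [← Over.w B.π, ← Category.assoc, hbase, Over.w])
  have hvW : ⊤ ≤ v.left ⁻¹ᵁ (B.π.left ⁻¹ᵁ W) := fun z _ => by
    show (t ≫ Spec.map (CommRingCat.ofHom ψ) ≫ hV.fromSpec) z ∈ B.π.left ⁻¹ᵁ W
    exact hV.range_fromSpec.le ⟨_, rfl⟩
  refine ⟨v, Over.OverMorphism.ext hbase, hvW.trans (v.left.preimage_mono (B.π.left.preimage_mono hWU)), ?_⟩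
  rw [← evalFn_res B hWU y v hvW]
  have h1 : hV.fromSpec.appLE (B.π.left ⁻¹ᵁ W) ⊤ hV.fromSpec_preimage_self.ge =
      (Scheme.ΓSpecIso Γ(B.V.left, B.π.left ⁻¹ᵁ W)).inv := by
    rw [Scheme.Hom.appLE, hV.fromSpec_app_self, Category.assoc, ← Functor.map_comp]
    exact (congrArg (_ ≫ ·) ((congrArg _ (Subsingleton.elim _ _)).trans (CategoryTheory.Functor.map_id _ _))).trans
      (Category.comp_id _)
  show (t ≫ Spec.map (CommRingCat.ofHom ψ) ≫ hV.fromSpec).appLE (B.π.left ⁻¹ᵁ W) ⊤ hvW (GLinSh.res B.π hWU y) = 1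
  rw [← Scheme.Hom.appLE_comp_appLE _ _ (V := ⊤)
      (e₁ := show ⊤ ≤ (Spec.map (CommRingCat.ofHom ψ) ≫ hV.fromSpec) ⁻¹ᵁ (B.π.left ⁻¹ᵁ W) from fun z _ =>
        hV.range_fromSpec.le ⟨_, rfl⟩) (e₂ := fun _ _ => trivial),
    ← Scheme.Hom.appLE_comp_appLE _ _ (V := ⊤) (e₁ := hV.fromSpec_preimage_self.ge) (e₂ := fun _ _ => trivial), h1,
    show (Spec.map (CommRingCat.ofHom ψ)).appLE ⊤ ⊤ (fun _ _ => trivial) = (Spec.map (CommRingCat.ofHom ψ)).appTop
      from ((Spec.map (CommRingCat.ofHom ψ)).app_eq_appLE (U := ⊤)).symm,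
    ← Scheme.ΓSpecIso_inv_naturality]
  show t.appLE ⊤ ⊤ _ ((Scheme.ΓSpecIso Γ(X.left, W)).inv (ψ (GLinSh.res B.π hWU y))) = 1
  have hy1 : ψ (GLinSh.res B.π hWU y) = 1 := by
    rw [show GLinSh.res B.π hWU y = e Polynomial.X by simp [e]]
    show Polynomial.eval₂RingHom (RingHom.id _) 1 (e.symm (e Polynomial.X)) = 1
    rw [RingEquiv.symm_apply_apply]
    simp
  rw [hy1, map_one, map_one]

variable [IsAlgClosed k] [CharZero k] {A : Type u} [CommRing A] [HopfAlgebra k A] [Algebra.FiniteType k A]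
  (ei : G ⟶ CoactBr.sp k A) [IsIso ei] [IsMonHom ei]

set_option maxHeartbeats 3200000 in
include ei in
/-- The orbit map is finite over a product of a good locus with an affine coordinate domain in an invariant locus. -/
theorem isFinite_orbit_chart [IsAffine G.left] [LocallyOfFiniteType G.hom] [LocallyOfFiniteType X.hom]
    {W₁ : X.left.Opens} (hW₁ : Good B ei W₁) {n₂ : ℕ} (hn₂ : 1 ≤ n₂) {f₂ : Γ(B.V.left, ⊤)}
    (hf₂ : B.IsInvSection n₂ f₂) {U W' : X.left.Opens} {y : Γ(B.V.left, B.π.left ⁻¹ᵁ U)}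
    (hy : y ∈ B.atlas.chart U) (hW' : IsAffineOpen W') (hW'U : W' ≤ U) (hW'2 : W' ≤ nv B n₂ f₂) :
    ∃ hUo : G ⊗ Over.mk ((W₁ ⊓ W').ι ≫ X.hom) ⟶ Over.mk (W₁.ι ≫ X.hom),
      hUo ≫ Over.homMk W₁.ι rfl = (G ◁ Over.homMk (W₁ ⊓ W').ι rfl) ≫ a.act ∧
      IsFinite (lift hUo (snd G (Over.mk ((W₁ ⊓ W').ι ≫ X.hom)) ≫
        (Over.homMk (X.left.homOfLE inf_le_right) (by simp) :
          Over.mk ((W₁ ⊓ W').ι ≫ X.hom) ⟶ Over.mk (W'.ι ≫ X.hom)))).left := by
  classical
  obtain ⟨N, κ, _, b, m, d, D, h1, hD, hm, hb, hint, hf, haff, rfl⟩ := hW₁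
  set n₁ := D * N with hn₁
  set f₁ := MvPolynomial.aeval b d with hf₁def
  set W₁ := nv B n₁ f₁ with hW₁def
  obtain ⟨c, hc⟩ := coef_of_hasWeight B hf.1 hy
  obtain ⟨c', hc'⟩ := coef_of_hasWeight B hf₂.1 hy
  let cW := resX hW'U c
  let cW' := resX hW'U c'
  have hTeq : X.left.basicOpen cW = W₁ ⊓ W' := by
    rw [basicOpen_resX, ← nv_inf B hy hc, ← inf_assoc, inf_eq_left.2 hW'U, inf_comm]
  have hcW' : IsUnit cW' := by
    have e : X.left.basicOpen cW' = W' := by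
      rw [basicOpen_resX, ← nv_inf B hy hc', ← inf_assoc, inf_eq_left.2 hW'U, inf_eq_left.2 hW'2]
    rw [show cW' = resX e.ge (resX (X.left.basicOpen_le cW') cW') from
      ((resX_resX _ _ _).trans (resX_rfl _)).symm]
    exact (RingedSpace.isUnit_res_basicOpen _ cW').map _
  set T₀ := W₁ ⊓ W' with hT₀
  have hTaff : IsAffineOpen T₀ := hTeq ▸ hW'.basicOpen cW
  let T : Over (Spec (CommRingCat.of k)) := Over.mk (T₀.ι ≫ X.hom)
  let pT : T ⟶ X := Over.homMk T₀.ι rfl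
  let W'o : Over (Spec (CommRingCat.of k)) := Over.mk (W'.ι ≫ X.hom)
  let r : T ⟶ W'o := Over.homMk (X.left.homOfLE inf_le_right) (by simp [T, W'o, T₀])
  haveI : IsAffine T.left := hTaff
  have hpT : ⊤ ≤ pT.left ⁻¹ᵁ W' := fun z _ => (z.2).2
  obtain ⟨v, hv, hvU, hv1⟩ := exists_pt_coord_affine B hy hW' hW'U pT hpT
  let ρ : Γ(X.left, W') →+* Γ(T.left, ⊤) := (pT.left.appLE W' ⊤ hpT).hom
  have hval : ∀ {n : ℕ} {f : Γ(B.V.left, ⊤)} {e : Γ(X.left, U)}, Coef B n f y le_rfl e →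
      v.left.appTop f = ρ (resX hW'U e) := fun {n f e} he => by
    rw [appTop_of_weight B ((coef_iff B).1 he) v hvU, hv1, one_pow, _root_.mul_one]
    show _ = (X.left.presheaf.map _ ≫ pT.left.appLE W' ⊤ hpT) e
    rw [Scheme.Hom.map_appLE]
    exact ConcreteCategory.congr_hom (HMNum19.appLE_congr (congrArg (fun q => CommaMorphism.left q) hv)
      (show ⊤ ≤ (v ≫ B.π).left ⁻¹ᵁ U from hvU)) e
  have hu : IsUnit (v.left.appTop f₁) := by
    rw [hval hc]
    show IsUnit (pT.left.appLE W' ⊤ hpT cW)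
    have e : pT.left.appLE W' ⊤ hpT cW =
        pT.left.appLE (X.left.basicOpen cW) ⊤ (fun z _ => hTeq.ge z.2) (resX (X.left.basicOpen_le cW) cW) := by
      show _ = (X.left.presheaf.map _ ≫ pT.left.appLE _ ⊤ _) cW
      rw [Scheme.Hom.map_appLE]
    rw [e]
    exact (RingedSpace.isUnit_res_basicOpen _ cW).map _
  obtain ⟨hUo, hUoj, hfin⟩ := orbit_finite B ei hm hb hD hint hf.1 hf.2 haff v hv hu
  refine ⟨hUo, hUoj, ?_⟩
  show IsFinite (lift hUo (snd G T ≫ r)).left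
  haveI : IsAffine W₁.toScheme := haff
  let Uo : Over (Spec (CommRingCat.of k)) := Over.mk (W₁.ι ≫ X.hom)
  let jU : Uo ⟶ X := Over.homMk W₁.ι rfl
  haveI : IsAffine Uo.left := haff
  haveI : IsAffine W'o.left := hW'
  haveI : IsAffine (G ⊗ T).left := inferInstanceAs (IsAffine (pullback G.hom T.hom))
  haveI : IsAffine (Uo ⊗ T).left := inferInstanceAs (IsAffine (pullback Uo.hom T.hom))
  haveI : IsAffine (Uo ⊗ W'o).left := inferInstanceAs (IsAffine (pullback Uo.hom W'o.hom))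
  let h₁ : G ⊗ T ⟶ Uo ⊗ T := lift hUo (snd G T)
  have h12 : lift hUo (snd G T ≫ r) = h₁ ≫ (Uo ◁ r) := by
    rw [lift_whiskerLeft]
  rw [h12, Over.comp_left, HasAffineProperty.iff_of_isAffine (P := @IsFinite)]
  haveI : IsFinite h₁.left := hfin
  have hfin₁ : h₁.left.appTop.hom.Finite := (HasAffineProperty.iff_of_isAffine (P := @IsFinite).1 hfin).2
  refine ⟨inferInstance, ?_⟩
  rw [Scheme.Hom.comp_appTop, CommRingCat.hom_comp]
  refine finite_comp_of_range_le hfin₁ fun z => ?_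
  let E := (h₁.left.appTop.hom.comp (Uo ◁ r).left.appTop.hom).range
  show h₁.left.appTop z ∈ E
  -- pullbacks from the two factors
  have hfst : ∀ x : Γ(Uo.left, ⊤), hUo.left.appTop x ∈ E := fun x => ⟨(fst Uo W'o).left.appTop x, by
    show (h₁ ≫ (Uo ◁ r) ≫ fst Uo W'o).left.appTop x = _
    rw [whiskerLeft_fst, lift_fst]⟩
  have hsnd : ∀ x : Γ(W'o.left, ⊤), (snd G T).left.appTop (r.left.appTop x) ∈ E := fun x =>
    ⟨(snd Uo W'o).left.appTop x, by
      show (h₁ ≫ (Uo ◁ r) ≫ snd Uo W'o).left.appTop x = (snd G T ≫ r).left.appTop x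
      rw [whiskerLeft_snd, lift_snd_assoc]⟩
  have hρ : ∀ x : Γ(X.left, W'), (snd G T).left.appTop (ρ x) ∈ E := fun x => by
    let jW : W'o ⟶ X := Over.homMk W'.ι rfl
    have hjW : ⊤ ≤ jW.left ⁻¹ᵁ W' := fun z _ => z.2
    have e : ρ x = r.left.appTop (jW.left.appLE W' ⊤ hjW x) := by
      show pT.left.appLE W' ⊤ hpT x = _
      rw [show r.left.appTop = r.left.appLE ⊤ ⊤ (fun _ _ => trivial) from r.left.app_eq_appLE (U := ⊤),
        ← CommRingCat.comp_apply, Scheme.Hom.appLE_comp_appLE]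
      refine ConcreteCategory.congr_hom (HMNum19.appLE_congr ?_ _) x
      show T₀.ι = X.left.homOfLE (inf_le_right : T₀ ≤ W') ≫ W'.ι
      rw [Scheme.homOfLE_ι]
    rw [e]
    exact hsnd _
  have hinv : ∃ u ∈ E, (snd G T).left.appTop (ρ cW) * u = 1 := by
    have hw₁ : GLinSh.HasWeight B.atlas.chart (n₂ * n₁) (f₁ ^ n₂) := HasWeight.pow B hf.1 n₂
    have hw₂ : GLinSh.HasWeight B.atlas.chart (n₂ * n₁) (f₂ ^ n₁) := by
      rw [Nat.mul_comm]; exact HasWeight.pow B hf₂.1 n₁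
    have hpow : nv B (n₂ * n₁) (f₁ ^ n₂) = W₁ := nv_pow B hf.1 n₂ hn₂
    obtain ⟨s, hs⟩ : ∃ s : Γ(X.left, W₁), GLinSh.resTop B.π W₁ (f₂ ^ n₁) =
        B.π.left.app W₁ s * GLinSh.resTop B.π W₁ (f₁ ^ n₂) := by
      have h := exists_ratio_eq B hw₁ hw₂
      rwa [hpow] at h
    let v' := lift (fst G T) (snd G T ≫ v) ≫ B.lift.act
    have hv'π : v' ≫ B.π = hUo ≫ jU := by
      refine Eq.trans ?_ hUoj.symm
      rw [lift_act_π, Category.assoc, hv]
      congr 1
    have hjU : ⊤ ≤ jU.left ⁻¹ᵁ W₁ := fun z _ => z.2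
    have hv'W : ⊤ ≤ v'.left ⁻¹ᵁ (B.π.left ⁻¹ᵁ W₁) := by
      show ⊤ ≤ (v' ≫ B.π).left ⁻¹ᵁ W₁
      rw [hv'π]
      exact fun z _ => (hUo.left z).2
    have hinvf : ∀ {n : ℕ} {f : Γ(B.V.left, ⊤)}, B.IsInvSection n f → ∀ l : ℕ,
        v'.left.appTop (f ^ l) = (snd G T).left.appTop (v.left.appTop (f ^ l)) := fun {n f} h l => by
      rw [map_pow, map_pow, map_pow]
      congr 1
      rw [show v'.left.appTop f = (lift (fst G T) (snd G T ≫ v)).left.appTop (B.lift.act.left.appTop f) from rfl,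
        show B.lift.act.left.appTop f = _ from h.2]
      show (lift (fst G T) (snd G T ≫ v) ≫ snd G B.V).left.appTop f = _
      rw [lift_snd]
      rfl
    have e := appTop_of_ratio B hs v' hv'W
    rw [hinvf hf₂, hinvf hf, map_pow, map_pow, map_pow, map_pow, hval hc, hval hc'] at e
    have hσ : (v' ≫ B.π).left.appLE W₁ ⊤ hv'W s ∈ E := by
      have e1 : (v' ≫ B.π).left.appLE W₁ ⊤ hv'W s = hUo.left.appTop (jU.left.appLE W₁ ⊤ hjU s) := by
        rw [show hUo.left.appTop = hUo.left.appLE ⊤ ⊤ (fun _ _ => trivial) from hUo.left.app_eq_appLE (U := ⊤),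
          ← CommRingCat.comp_apply, Scheme.Hom.appLE_comp_appLE]
        exact ConcreteCategory.congr_hom (HMNum19.appLE_congr
          (congrArg (fun q : G ⊗ T ⟶ X => q.left) hv'π) (show ⊤ ≤ (v' ≫ B.π).left ⁻¹ᵁ W₁ from hv'W)) s
      rw [e1]
      exact hfst _
    obtain ⟨w, hw⟩ := isUnit_iff_exists_inv.1 hcW'
    refine ⟨(snd G T).left.appTop (ρ cW) ^ (n₂ - 1) * ((v' ≫ B.π).left.appLE W₁ ⊤ hv'W s *
      (snd G T).left.appTop (ρ w) ^ n₁), E.mul_mem (E.pow_mem (hρ _) _) (E.mul_mem hσ (E.pow_mem (hρ _) _)), ?_⟩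
    have key : ∀ {R : Type u} [CommRing R] {a b c σ : R}, c ^ n₁ = σ * a ^ n₂ → c * b = 1 →
        a * (a ^ (n₂ - 1) * (σ * b ^ n₁)) = 1 := fun {R} _ {a b c σ} h h' => by
      obtain ⟨l, hl⟩ : ∃ l, n₂ = l + 1 := ⟨n₂ - 1, (Nat.sub_add_cancel hn₂).symm⟩
      subst hl
      calc a * (a ^ (l + 1 - 1) * (σ * b ^ n₁)) = (σ * a ^ (l + 1)) * b ^ n₁ := by
            rw [Nat.add_sub_cancel]; ring
        _ = 1 := by rw [← h, ← mul_pow, h', one_pow]
    exact key e (by rw [← map_mul, ← map_mul, hw, map_one, map_one])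
  obtain ⟨u, huE, hu1⟩ := hinv
  have hsndT : ∀ t : Γ(T.left, ⊤), (snd G T).left.appTop t ∈ E := fun t => by
    haveI := hW'.isLocalization_basicOpen cW
    let t' : Γ(X.left, X.left.basicOpen cW) := resX hTeq.le (T₀.topIso.hom t)
    obtain ⟨l, s, hs⟩ := IsLocalization.Away.surj cW t'
    have hp : ⊤ ≤ pT.left ⁻¹ᵁ X.left.basicOpen cW := fun z _ => hTeq.ge z.2
    have ht : pT.left.appLE (X.left.basicOpen cW) ⊤ hp t' = t := by
      show (X.left.presheaf.map _ ≫ pT.left.appLE (X.left.basicOpen cW) ⊤ hp) (T₀.topIso.hom t) = t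
      rw [Scheme.Hom.map_appLE]
      show (T₀.topIso.hom ≫ T₀.ι.appLE T₀ ⊤ _) t = t
      rw [show T₀.topIso.hom ≫ T₀.ι.appLE T₀ ⊤ (fun z _ => z.2) = 𝟙 _ by
        rw [Scheme.Opens.topIso, Scheme.Opens.ι_appLE]
        simp only [Functor.mapIso_hom, Iso.op_hom, eqToIso.hom, eqToHom_op]
        erw [← Functor.map_comp]
        exact (congrArg _ (Subsingleton.elim _ _)).trans (CategoryTheory.Functor.map_id _ _)]
      rfl
    have hres : ∀ x : Γ(X.left, W'),
        pT.left.appLE (X.left.basicOpen cW) ⊤ hp (resX (X.left.basicOpen_le cW) x) = ρ x := fun x => by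
      show (X.left.presheaf.map _ ≫ pT.left.appLE (X.left.basicOpen cW) ⊤ hp) x = _
      rw [Scheme.Hom.map_appLE]
    have h := congrArg (fun x => (snd G T).left.appTop (pT.left.appLE (X.left.basicOpen cW) ⊤ hp x))
      (show t' * resX (X.left.basicOpen_le cW) cW ^ l = resX (X.left.basicOpen_le cW) s from hs)
    simp only [map_mul, map_pow, ht, hres] at h
    have : (snd G T).left.appTop t = (snd G T).left.appTop (ρ s) * u ^ l := by
      rw [← h, _root_.mul_assoc, ← mul_pow, hu1, one_pow, _root_.mul_one]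
    rw [this]
    exact E.mul_mem (hρ _) (E.pow_mem huE _)
  obtain ⟨z', hz'⟩ := (HomSch19.theta_bijective Uo T).2 z
  have hzz : thetaT Uo T z' = z := hz'
  rw [← hzz]
  clear hz' hzz
  induction z' with
  | zero => rw [map_zero, map_zero]; exact E.zero_mem
  | add p q hp hq => rw [map_add, map_add]; exact E.add_mem hp hq
  | tmul x s =>
    show (lift hUo (snd G T)).left.appTop (thetaT Uo T (x ⊗ₜ s)) ∈ E
    rw [pair_theta]
    exact E.mul_mem (hfst x) (hsndT s)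

end Groth.Agent.GITHM15
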