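import Groth.Agent.Lib.GITHM15.Ratio
import Groth.Agent.Lib.GITHM15.Rep
import Groth.Agent.Lib.GITHM15.OnePS

/-!
# Finitely many functions spanning a stable space, with affine loci covering the scheme
-/

set_option autoImplicit false
set_option linter.style.haveILetI false
set_option backward.isDefEq.respectTransparency.types false
universe u

open CategoryTheory Limits MonoidalCategory CartesianMonoidalCategory MonObj AlgebraicGeometry TopologicalSpace
open scoped TensorProduct LaurentPolynomial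
open WithConv

noncomputable section

namespace Groth.Agent.GITHM15

open Groth.Agent.WtMu19
open Groth.Agent.FixLine19 (sp str)

attribute [local instance] HomSch19.algW

variable {k : Type u} [Field k]
  {G X : Over (Spec (CommRingCat.of k))} [GrpObj G] {a : AlgGrp.Action G X} (B : GLinSh.LinBun G a)

/-- The translation of the total space by a rational point. -/
def trV (d : 𝟙_ (Over (Spec (CommRingCat.of k))) ⟶ G) : B.V ⟶ B.V :=
  lift (toUnit B.V ≫ d) (𝟙 B.V) ≫ B.lift.act

/-- The translation of the base by a rational point. -/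
def trX (d : 𝟙_ (Over (Spec (CommRingCat.of k))) ⟶ G) : X ⟶ X :=
  lift (toUnit X ≫ d) (𝟙 X) ≫ a.act

theorem trV_π (d : 𝟙_ (Over (Spec (CommRingCat.of k))) ⟶ G) : trV B d ≫ B.π = B.π ≫ trX (a := a) d := by
  rw [trV, lift_act_π, trX, comp_lift_assoc, comp_toUnit_assoc, Category.id_comp, Category.comp_id]

theorem trX_trX (d e : 𝟙_ (Over (Spec (CommRingCat.of k))) ⟶ G) :
    trX (a := a) d ≫ trX (a := a) e = trX (a := a) (e * d) := by
  rw [trX, trX, Category.assoc, comp_lift_assoc, Category.comp_id, comp_lift_assoc, comp_toUnit_assoc,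
    comp_toUnit_assoc, ← AlgGrpBasic19.act_mul, ← MonObj.comp_mul]
  rfl

theorem trV_trV (d e : 𝟙_ (Over (Spec (CommRingCat.of k))) ⟶ G) : trV B d ≫ trV B e = trV B (e * d) := by
  rw [trV, trV, Category.assoc, comp_lift_assoc, Category.comp_id, comp_lift_assoc, comp_toUnit_assoc,
    comp_toUnit_assoc, ← AlgGrpBasic19.act_mul, ← MonObj.comp_mul]
  rfl

theorem trV_one : trV B (1 : 𝟙_ (Over (Spec (CommRingCat.of k))) ⟶ G) = 𝟙 _ := by
  rw [trV, MonObj.comp_one, AlgGrpBasic19.act_one]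

theorem trX_one : trX (a := a) (1 : 𝟙_ (Over (Spec (CommRingCat.of k))) ⟶ G) = 𝟙 _ := by
  rw [trX, MonObj.comp_one, AlgGrpBasic19.act_one]

theorem isIso_trX (d : 𝟙_ (Over (Spec (CommRingCat.of k))) ⟶ G) : IsIso (trX (a := a) d).left := by
  haveI : IsIso (trX (a := a) d) :=
    ⟨trX d⁻¹, by rw [trX_trX, inv_mul_cancel, trX_one], by rw [trX_trX, mul_inv_cancel, trX_one]⟩
  exact inferInstanceAs (IsIso ((Over.forget _).map (trX (a := a) d)))

/-- The locus of a translate. -/
theorem nonvanishing_Op (d : 𝟙_ (Over (Spec (CommRingCat.of k))) ⟶ G) (g : Γ(B.V.left, ⊤)) :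
    GLinSh.nonvanishing B.π (Op B d g) = (trX (a := a) d).left ⁻¹' GLinSh.nonvanishing B.π g := by
  have e : ∀ v, B.π.left ((trV B d).left v) = (trX (a := a) d).left (B.π.left v) := fun v => by
    show (trV B d ≫ B.π).left v = (B.π ≫ trX (a := a) d).left v
    rw [trV_π]
  have hb : B.V.left.basicOpen (Op B d g) = (trV B d).left ⁻¹ᵁ B.V.left.basicOpen g :=
    (Scheme.preimage_basicOpen_top (trV B d).left g).symm
  ext z
  constructor
  · rintro ⟨v, hv, rfl⟩
    rw [hb] at hv
    exact ⟨(trV B d).left v, hv, e v⟩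
  · rintro ⟨w, hw, hwz⟩
    refine ⟨(trV B d⁻¹).left w, ?_, ?_⟩
    · rw [hb]
      show (trV B d⁻¹ ≫ trV B d).left w ∈ B.V.left.basicOpen g
      rw [trV_trV, mul_inv_cancel, trV_one]
      exact hw
    · show (trV B d⁻¹ ≫ B.π).left w = z
      rw [trV_π]
      show (trX (a := a) d⁻¹).left (B.π.left w) = z
      rw [show B.π.left w = (trX (a := a) d).left z from hwz]
      show (trX (a := a) d ≫ trX (a := a) d⁻¹).left z = z
      rw [trX_trX, inv_mul_cancel, trX_one]
      rfl

theorem hasWeight_Op {N : ℕ} {g : Γ(B.V.left, ⊤)} (hg : GLinSh.HasWeight B.atlas.chart N g)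
    (d : 𝟙_ (Over (Spec (CommRingCat.of k))) ⟶ G) : GLinSh.HasWeight B.atlas.chart N (Op B d g) :=
  hasWeight_of_homog B (Op_mem B (homog_of_hasWeight B hg) d)

theorem isAffineOpen_nv_Op {N : ℕ} {g : Γ(B.V.left, ⊤)} (hg : GLinSh.HasWeight B.atlas.chart N g)
    (ha : IsAffineOpen (nv B N g)) (d : 𝟙_ (Over (Spec (CommRingCat.of k))) ⟶ G) :
    IsAffineOpen (nv B N (Op B d g)) := by
  haveI := isIso_trX (a := a) d
  have e : nv B N (Op B d g) = (trX (a := a) d).left ⁻¹ᵁ nv B N g := by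
    refine Opens.ext ?_
    rw [coe_nv B (hasWeight_Op B hg d), nonvanishing_Op]
    show _ = (trX (a := a) d).left ⁻¹' (nv B N g : Set X.left)
    rw [coe_nv B hg]
  rw [e]
  exact ha.preimage_of_isIso _

theorem nv_pow {n : ℕ} {f : Γ(B.V.left, ⊤)} (hf : GLinSh.HasWeight B.atlas.chart n f) :
    ∀ m : ℕ, 1 ≤ m → nv B (m * n) (f ^ m) = nv B n f := by
  intro m hm
  induction m with
  | zero => omega
  | succ m ih =>
    rcases Nat.eq_zero_or_pos m with rfl | hm'
    · simp
    · rw [Nat.succ_mul, pow_succ, nv_mul B (HasWeight.pow B hf m) hf, ih hm', inf_idem]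

theorem nv_add_le {n : ℕ} {f g : Γ(B.V.left, ⊤)} (hf : GLinSh.HasWeight B.atlas.chart n f)
    (hg : GLinSh.HasWeight B.atlas.chart n g) : nv B n (f + g) ≤ nv B n f ⊔ nv B n g := by
  intro z hz
  by_contra hcon
  obtain ⟨U, y, hy, c, hc, hzU⟩ := exists_chart_coef B hf z
  obtain ⟨c', hc'⟩ := coef_of_hasWeight B hg hy
  have hcc : Coef B n (f + g) y le_rfl (c + c') := by
    rw [coef_iff] at hc hc' ⊢
    refine (map_add (B.V.left.presheaf.map _).hom f g).trans ((congrArg₂ (· + ·) hc hc').trans ?_)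
    rw [map_add, add_mul]
  have h1 : z ∈ X.left.basicOpen (c + c') := (nv_inf B hy hcc).le ⟨hzU, hz⟩
  rw [Scheme.mem_basicOpen _ _ _ hzU, map_add] at h1
  rcases IsLocalRing.isUnit_or_isUnit_of_isUnit_add h1 with h2 | h2
  · exact hcon (Or.inl ((nv_inf B hy hc).ge ((Scheme.mem_basicOpen _ _ _ hzU).2 h2)).2)
  · exact hcon (Or.inr ((nv_inf B hy hc').ge ((Scheme.mem_basicOpen _ _ _ hzU).2 h2)).2)

theorem nv_zero (n : ℕ) : nv B n (0 : Γ(B.V.left, ⊤)) = ⊥ := by
  refine eq_bot_iff.2 fun z hz => ?_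
  obtain ⟨U, y, hy, c, hc, hzc⟩ := (mem_nv B).1 hz
  have h0 : Coef B n (0 : Γ(B.V.left, ⊤)) y le_rfl (0 : Γ(X.left, U)) := by
    rw [coef_iff, GLinSh.resTop, map_zero, map_zero, zero_mul]
  rw [hc.unique B hy h0, Scheme.basicOpen_zero] at hzc
  exact hzc

theorem nv_smul_le {n : ℕ} {f : Γ(B.V.left, ⊤)} (hf : GLinSh.HasWeight B.atlas.chart n f) (r : k) :
    nv B n (r • f) ≤ nv B n f := by
  rw [smul_eq_str]
  intro z hz
  obtain ⟨U, y, hy, c, hc, hzU⟩ := exists_chart_coef B hf z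
  have hcc : Coef B n (str B.V r * f) y le_rfl (resX le_top (str X r) * c) := by
    rw [coef_iff] at hc ⊢
    refine (map_mul (B.V.left.presheaf.map _).hom _ f).trans ((congrArg₂ (· * ·) rfl hc).trans ?_)
    rw [map_mul, _root_.mul_assoc]
    congr 1
    rw [← str_nat B.π r]
    exact (ConcreteCategory.congr_hom (B.π.left.naturality (homOfLE le_top).op) (str X r)).symm
  have h1 : z ∈ X.left.basicOpen (resX le_top (str X r) * c) := (nv_inf B hy hcc).le ⟨hzU, hz⟩
  rw [Scheme.basicOpen_mul] at h1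
  exact ((nv_inf B hy hc).ge h1.2).2

set_option maxHeartbeats 800000 in
/-- Finitely many translates with affine covering loci spanning a stable space. -/
theorem exists_basis [IsAffine G.left] (hB : HMNum.AmpleCover B) :
    ∃ (N : ℕ) (κ : Type u) (_ : Fintype κ) (b : κ → Γ(B.V.left, ⊤)), 1 ≤ N ∧ LinearIndependent k b ∧
      (∀ d i, Op B d (b i) ∈ Submodule.span k (Set.range b)) ∧
      (∀ i, GLinSh.HasWeight B.atlas.chart N (b i)) ∧ (∀ i, IsAffineOpen (nv B N (b i))) ∧
      ∀ z : X.left, ∃ i, z ∈ nv B N (b i) := by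
  classical
  obtain ⟨hc, hcov⟩ := hB
  haveI := hc
  choose n f hn hf hmem U hU hUaff using hcov
  obtain ⟨s, hs⟩ := IsCompact.elim_finite_subcover (isCompact_univ (X := X.left)) (fun z => (U z : Set X.left))
    (fun z => (U z).2) (fun z _ => Set.mem_iUnion.2 ⟨z, by rw [hU z]; exact hmem z⟩)
  let N := ∏ z ∈ s, n z
  have hN : 1 ≤ N := Finset.one_le_prod' fun z _ => hn z
  have hdvd : ∀ z ∈ s, N / n z * n z = N := fun z hz => Nat.div_mul_cancel (Finset.dvd_prod_of_mem _ hz)
  have hm : ∀ z ∈ s, 1 ≤ N / n z := fun z hz => by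
    have := hdvd z hz
    rcases Nat.eq_zero_or_pos (N / n z) with h | h
    · rw [h, zero_mul] at this; omega
    · exact h
  let g : s → Γ(B.V.left, ⊤) := fun z => f z.1 ^ (N / n z.1)
  have hg : ∀ z, GLinSh.HasWeight B.atlas.chart N (g z) := fun z => by
    have := HasWeight.pow B (hf z.1) (N / n z.1)
    rwa [hdvd _ z.2] at this
  have hgU : ∀ z : s, nv B N (g z) = U z.1 := fun z => by
    refine Eq.trans ?_ (Opens.ext (by rw [coe_nv B (hf z.1), hU z.1]) : nv B (n z.1) (f z.1) = U z.1)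
    have := nv_pow B (hf z.1) (N / n z.1) (hm _ z.2)
    rwa [hdvd _ z.2] at this
  choose W hW hWmem using fun z : s => exists_finite_translates B (g z)
  let S : Set Γ(B.V.left, ⊤) := ⋃ z : s, Set.range fun d => Op B d (g z)
  obtain ⟨bs, hbsS, hbsspan, hbsli⟩ := exists_linearIndependent k S
  have hfin : (⨆ z : s, W z).FG := Submodule.fg_iSup _ hW
  haveI : Module.Finite k (⨆ z : s, W z : Submodule k Γ(B.V.left, ⊤)) := Module.Finite.iff_fg.2 hfin
  have hSle : Submodule.span k S ≤ ⨆ z : s, W z := Submodule.span_le.2 fun x hx => by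
    obtain ⟨z, d, rfl⟩ := Set.mem_iUnion.1 hx
    exact Submodule.mem_iSup_of_mem z (hWmem z d)
  haveI : Finite bs := by
    have hli : LinearIndependent k (fun x : bs =>
        (⟨x.1, hSle (Submodule.subset_span (hbsS x.2))⟩ : (⨆ z : s, W z : Submodule k Γ(B.V.left, ⊤)))) :=
      LinearIndependent.of_comp (⨆ z : s, W z : Submodule k Γ(B.V.left, ⊤)).subtype hbsli
    exact hli.finite
  letI := Fintype.ofFinite bs
  have hspan : Submodule.span k (Set.range (Subtype.val : bs → Γ(B.V.left, ⊤))) = Submodule.span k S := by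
    rw [Subtype.range_coe_subtype]
    exact hbsspan
  have hbg : ∀ i : bs, ∃ (z : s) (d : 𝟙_ (Over (Spec (CommRingCat.of k))) ⟶ G), Op B d (g z) = i.1 := fun i => by
    obtain ⟨z, d, hd⟩ := Set.mem_iUnion.1 (hbsS i.2)
    exact ⟨z, d, hd⟩
  have hbW : ∀ i : bs, GLinSh.HasWeight B.atlas.chart N i.1 := fun i => by
    obtain ⟨z, d, hd⟩ := hbg i
    rw [← hd]
    exact hasWeight_Op B (hg z) d
  refine ⟨N, bs, inferInstance, Subtype.val, hN, hbsli, fun d i => ?_, hbW, fun i => ?_, fun x => ?_⟩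
  · obtain ⟨z, e, he⟩ := hbg i
    rw [hspan, ← he, Op_Op]
    exact Submodule.subset_span (Set.mem_iUnion.2 ⟨z, _, rfl⟩)
  · obtain ⟨z, d, hd⟩ := hbg i
    rw [← hd]
    exact isAffineOpen_nv_Op B (hg z) (by rw [hgU]; exact hUaff z.1) d
  · obtain ⟨z, hz, hxz⟩ := Set.mem_iUnion₂.1 (hs (Set.mem_univ x))
    have hx : x ∈ nv B N (g ⟨z, hz⟩) := by rw [hgU]; exact hxz
    by_contra hall
    push Not at hall
    have key : ∀ h ∈ Submodule.span k (Set.range (Subtype.val : bs → Γ(B.V.left, ⊤))),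
        GLinSh.HasWeight B.atlas.chart N h ∧ x ∉ nv B N h := by
      intro h hh
      induction hh using Submodule.span_induction with
      | mem h hh =>
        obtain ⟨i, rfl⟩ := hh
        exact ⟨hbW i, hall i⟩
      | zero => exact ⟨HasWeight.zero B N, by rw [nv_zero]; exact id⟩
      | add h h' _ _ ih ih' =>
        exact ⟨HasWeight.add B ih.1 ih'.1, fun hx' => (nv_add_le B ih.1 ih'.1 hx').elim ih.2 ih'.2⟩
      | smul r h _ ih =>
        exact ⟨by rw [smul_eq_str]; exact HasWeight.str_mul B ih.1 r, fun hx' => ih.2 (nv_smul_le B ih.1 r hx')⟩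
    refine (key (g ⟨z, hz⟩) ?_).2 hx
    rw [hspan]
    exact Submodule.subset_span (Set.mem_iUnion.2 ⟨⟨z, hz⟩, 1, Op_one B _⟩)

end Groth.Agent.GITHM15
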