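import Groth.Agent.Lib.WtMu19.Op
import Groth.Agent.Lib.WtMu19.Coord
import Mathlib.RingTheory.PowerSeries.Inverse
import Mathlib.RingTheory.Localization.AtPrime.Basic

/-!
# Weight functions on the total space: coefficients, and homogeneous functions have weight
-/

set_option autoImplicit false
set_option linter.style.haveILetI false
set_option backward.isDefEq.respectTransparency.types false
universe u

open CategoryTheory Limits MonoidalCategory CartesianMonoidalCategory MonObj AlgebraicGeometry TopologicalSpace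
  Opposite

noncomputable section

namespace Groth.Agent.GITHM15

open Groth.Agent.WtMu19
open Groth.Agent.FixLine19 (sp str)

attribute [local instance] HomSch19.algW

variable {k : Type u} [Field k] {G X : Over (Spec (CommRingCat.of k))} [GrpObj G] {a : AlgGrp.Action G X}
  (B : GLinSh.LinBun G a)

/-- Restriction of functions on the base. -/
abbrev resX {U W : X.left.Opens} (h : W ≤ U) (c : Γ(X.left, U)) : Γ(X.left, W) :=
  X.left.presheaf.map (homOfLE h).op c

theorem res_app {U W : X.left.Opens} (h : W ≤ U) (c : Γ(X.left, U)) :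
    GLinSh.res B.π h (B.π.left.app U c) = B.π.left.app W (resX h c) :=
  (ConcreteCategory.congr_hom (B.π.left.naturality (homOfLE h).op) c).symm

theorem res_res {U W W' : X.left.Opens} (h : W ≤ U) (h' : W' ≤ W) (y : Γ(B.V.left, B.π.left ⁻¹ᵁ U)) :
    GLinSh.res B.π h' (GLinSh.res B.π h y) = GLinSh.res B.π (h'.trans h) y := by
  rw [GLinSh.res, GLinSh.res, GLinSh.res, ← CommRingCat.comp_apply, ← Functor.map_comp]
  rfl

theorem res_resTop {U W : X.left.Opens} (h : W ≤ U) (f : Γ(B.V.left, ⊤)) :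
    GLinSh.res B.π h (GLinSh.resTop B.π U f) = GLinSh.resTop B.π W f := by
  rw [GLinSh.res, GLinSh.resTop, GLinSh.resTop, ← CommRingCat.comp_apply, ← Functor.map_comp]
  rfl

theorem resX_resX {U W W' : X.left.Opens} (h : W ≤ U) (h' : W' ≤ W) (c : Γ(X.left, U)) :
    resX h' (resX h c) = resX (h'.trans h) c := by
  rw [resX, resX, resX, ← CommRingCat.comp_apply, ← Functor.map_comp]
  rfl

theorem res_mul {U W : X.left.Opens} (h : W ≤ U) (y z : Γ(B.V.left, B.π.left ⁻¹ᵁ U)) :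
    GLinSh.res B.π h (y * z) = GLinSh.res B.π h y * GLinSh.res B.π h z :=
  map_mul (B.V.left.presheaf.map (homOfLE (B.π.left.preimage_mono h)).op).hom y z

theorem res_pow {U W : X.left.Opens} (h : W ≤ U) (y : Γ(B.V.left, B.π.left ⁻¹ᵁ U)) (n : ℕ) :
    GLinSh.res B.π h (y ^ n) = GLinSh.res B.π h y ^ n :=
  map_pow (B.V.left.presheaf.map (homOfLE (B.π.left.preimage_mono h)).op).hom y n

/-- The coefficient of a function in a coordinate, on a smaller open. -/
def Coef (n : ℕ) (f : Γ(B.V.left, ⊤)) {U W : X.left.Opens} (y : Γ(B.V.left, B.π.left ⁻¹ᵁ U)) (h : W ≤ U)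
    (c : Γ(X.left, W)) : Prop :=
  GLinSh.resTop B.π W f = B.π.left.app W c * GLinSh.res B.π h y ^ n

theorem Coef.res {n : ℕ} {f : Γ(B.V.left, ⊤)} {U W W' : X.left.Opens} {y : Γ(B.V.left, B.π.left ⁻¹ᵁ U)}
    {h : W ≤ U} {c : Γ(X.left, W)} (hc : Coef B n f y h c) (h' : W' ≤ W) :
    Coef B n f y (h'.trans h) (resX h' c) := by
  have e := congrArg (GLinSh.res B.π h') hc
  rw [res_resTop, res_mul, res_pow] at e
  rw [Coef, e]
  erw [res_app, res_res]

theorem coef_iff {n : ℕ} {f : Γ(B.V.left, ⊤)} {U : X.left.Opens} {y : Γ(B.V.left, B.π.left ⁻¹ᵁ U)}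
    {c : Γ(X.left, U)} : Coef B n f y le_rfl c ↔ GLinSh.resTop B.π U f = B.π.left.app U c * y ^ n := by
  rw [Coef, show GLinSh.res B.π (le_refl U) y = y from
    ConcreteCategory.congr_hom (B.V.left.presheaf.map_id (op (B.π.left ⁻¹ᵁ U))) y]

theorem coef_of_hasWeight {n : ℕ} {f : Γ(B.V.left, ⊤)} (hf : GLinSh.HasWeight B.atlas.chart n f)
    {U : X.left.Opens} {y : Γ(B.V.left, B.π.left ⁻¹ᵁ U)} (hy : y ∈ B.atlas.chart U) :
    ∃ c : Γ(X.left, U), Coef B n f y le_rfl c := by
  obtain ⟨c, hc⟩ := hf U y hy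
  exact ⟨c, (coef_iff B).2 hc⟩

/-- Coefficients are unique. -/
theorem Coef.unique {n : ℕ} {f : Γ(B.V.left, ⊤)} {U W : X.left.Opens} {y : Γ(B.V.left, B.π.left ⁻¹ᵁ U)}
    (hy : y ∈ B.atlas.chart U) {h : W ≤ U} {c c' : Γ(X.left, W)} (hc : Coef B n f y h c)
    (hc' : Coef B n f y h c') : c = c' := by
  refine TopCat.Sheaf.eq_of_locally_eq' X.left.sheaf
    (fun W' : {W' : X.left.Opens // IsAffineOpen W' ∧ W' ≤ W} => W'.1) W (fun W' => homOfLE W'.2.2) ?_ c c'
    fun W' => ?_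
  · intro z hz
    obtain ⟨W', hW', hzW', hW'W⟩ := exists_isAffineOpen_mem_and_subset (X := X.left) (x := z) (U := W) hz
    exact Opens.mem_iSup.2 ⟨⟨W', hW', hW'W⟩, hzW'⟩
  · have e : Polynomial.eval₂RingHom (B.π.left.app W'.1).hom (GLinSh.res B.π (W'.2.2.trans h) y)
        (Polynomial.C (resX W'.2.2 c) * Polynomial.X ^ n) =
        Polynomial.eval₂RingHom (B.π.left.app W'.1).hom (GLinSh.res B.π (W'.2.2.trans h) y)
        (Polynomial.C (resX W'.2.2 c') * Polynomial.X ^ n) := by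
      simp only [map_mul, map_pow, Polynomial.coe_eval₂RingHom, Polynomial.eval₂_C, Polynomial.eval₂_X]
      exact ((hc.res B W'.2.2).symm.trans (hc'.res B W'.2.2))
    have e2 := congrArg (Polynomial.coeff · n) ((B.atlas.coord U y hy W'.1 W'.2.1 (W'.2.2.trans h)).1 e)
    simp only [Polynomial.coeff_C_mul_X_pow, if_true] at e2
    exact e2

theorem HasWeight.mul {n n' : ℕ} {f f' : Γ(B.V.left, ⊤)} (hf : GLinSh.HasWeight B.atlas.chart n f)
    (hf' : GLinSh.HasWeight B.atlas.chart n' f') : GLinSh.HasWeight B.atlas.chart (n + n') (f * f') := by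
  intro U y hy
  obtain ⟨c, hc⟩ := hf U y hy
  obtain ⟨c', hc'⟩ := hf' U y hy
  refine ⟨c * c', ?_⟩
  refine (map_mul (B.V.left.presheaf.map _).hom f f').trans ((congrArg₂ (· * ·) hc hc').trans ?_)
  rw [map_mul, pow_add]
  ring

theorem HasWeight.one : GLinSh.HasWeight B.atlas.chart 0 (1 : Γ(B.V.left, ⊤)) := fun U y _ =>
  ⟨1, by rw [GLinSh.resTop, map_one, map_one, pow_zero, _root_.mul_one]⟩

theorem HasWeight.pow {n : ℕ} {f : Γ(B.V.left, ⊤)} (hf : GLinSh.HasWeight B.atlas.chart n f) :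
    ∀ m : ℕ, GLinSh.HasWeight B.atlas.chart (m * n) (f ^ m)
  | 0 => by rw [Nat.zero_mul, pow_zero]; exact HasWeight.one B
  | m + 1 => by rw [Nat.succ_mul, pow_succ]; exact HasWeight.mul B (HasWeight.pow hf m) hf

theorem HasWeight.add {n : ℕ} {f f' : Γ(B.V.left, ⊤)} (hf : GLinSh.HasWeight B.atlas.chart n f)
    (hf' : GLinSh.HasWeight B.atlas.chart n f') : GLinSh.HasWeight B.atlas.chart n (f + f') := by
  intro U y hy
  obtain ⟨c, hc⟩ := hf U y hy
  obtain ⟨c', hc'⟩ := hf' U y hy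
  refine ⟨c + c', ?_⟩
  refine (map_add (B.V.left.presheaf.map _).hom f f').trans ((congrArg₂ (· + ·) hc hc').trans ?_)
  rw [map_add, add_mul]

theorem HasWeight.zero (n : ℕ) : GLinSh.HasWeight B.atlas.chart n (0 : Γ(B.V.left, ⊤)) := fun U y _ =>
  ⟨0, by rw [GLinSh.resTop, map_zero, map_zero, zero_mul]⟩

theorem HasWeight.str_mul {n : ℕ} {f : Γ(B.V.left, ⊤)} (hf : GLinSh.HasWeight B.atlas.chart n f) (r : k) :
    GLinSh.HasWeight B.atlas.chart n (str B.V r * f) := by
  intro U y hy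
  obtain ⟨c, hc⟩ := hf U y hy
  refine ⟨resX le_top (str X r) * c, ?_⟩
  refine (map_mul (B.V.left.presheaf.map _).hom _ f).trans ((congrArg₂ (· * ·) rfl hc).trans ?_)
  rw [map_mul, _root_.mul_assoc]
  congr 1
  rw [← str_nat B.π r]
  exact (ConcreteCategory.congr_hom (B.π.left.naturality (homOfLE le_top).op) (str X r)).symm

/-- Evaluation of a function written as a polynomial in a coordinate. -/
theorem appTop_eq_eval {U W : X.left.Opens} (hWU : W ≤ U) {y : Γ(B.V.left, B.π.left ⁻¹ᵁ U)}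
    {f : Γ(B.V.left, ⊤)} {P : Polynomial Γ(X.left, W)}
    (hP : Polynomial.eval₂RingHom (B.π.left.app W).hom (GLinSh.res B.π hWU y) P = GLinSh.resTop B.π W f)
    {T : Over (Spec (CommRingCat.of k))} (v : T ⟶ B.V) (h : ⊤ ≤ v.left ⁻¹ᵁ (B.π.left ⁻¹ᵁ W)) :
    v.left.appTop f = Polynomial.eval₂ ((v ≫ B.π).left.appLE W ⊤ h).hom
      (HMNum.evalFn B.π y v (h.trans (v.left.preimage_mono (B.π.left.preimage_mono hWU)))) P := by
  have e := congrArg (v.left.appLE (B.π.left ⁻¹ᵁ W) ⊤ h).hom hP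
  rw [Polynomial.coe_eval₂RingHom, Polynomial.hom_eval₂] at e
  rw [← evalFn_res B hWU y v h]
  refine Eq.trans ?_ (Eq.trans e.symm ?_)
  · rw [GLinSh.resTop, ← CommRingCat.comp_apply, Scheme.Hom.map_appLE]
    exact ConcreteCategory.congr_hom (v.left.app_eq_appLE (U := ⊤)) f
  · congr 1

set_option maxHeartbeats 800000 in
/-- On an affine open inside a coordinate domain a homogeneous function is a multiple of the power of the
coordinate. -/
theorem coef_of_homog_affine {N : ℕ} {f : Γ(B.V.left, ⊤)} (hf : Homog B N f) {U W : X.left.Opens}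
    {y : Γ(B.V.left, B.π.left ⁻¹ᵁ U)} (hy : y ∈ B.atlas.chart U) (hW : IsAffineOpen W) (hWU : W ≤ U) :
    ∃ c : Γ(X.left, W), Coef B N f y hWU c := by
  obtain ⟨P, hP⟩ := (B.atlas.coord U y hy W hW hWU).2 (GLinSh.resTop B.π W f)
  have hcoeff : ∀ i, i ≠ N → P.coeff i = 0 := by
    intro i hi
    by_contra hne
    obtain ⟨q, hq, hqle⟩ := Ideal.exists_le_maximal
      ((Submodule.span Γ(X.left, W) {P.coeff i}).annihilator) (by
        intro htop
        apply hne
        have h1 := Submodule.annihilator_eq_top_iff.1 htop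
        exact (Submodule.span_singleton_eq_bot).1 h1)
    haveI := hq.isPrime
    let L := Localization.AtPrime q
    let R := PowerSeries L
    let φ : Γ(X.left, W) →+* R := (PowerSeries.C (R := L)).comp (algebraMap Γ(X.left, W) L)
    let pm : Spec (CommRingCat.of R) ⟶ X.left := Spec.map (CommRingCat.ofHom φ) ≫ hW.fromSpec
    letI : Algebra k R := (Spec.preimage (pm ≫ X.hom)).hom.toAlgebra
    let p : sp (k := k) R ⟶ X := Over.homMk pm (Spec.map_preimage (pm ≫ X.hom)).symm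
    have hpW : p.left ⁻¹ᵁ W = ⊤ := by
      show Spec.map (CommRingCat.ofHom φ) ⁻¹ᵁ (hW.fromSpec ⁻¹ᵁ W) = ⊤
      rw [hW.fromSpec_preimage_self]
      rfl
    have hpU : p.left ⁻¹ᵁ U = ⊤ := eq_top_iff.2 (hpW.ge.trans (p.left.preimage_mono hWU))
    let s : Γ((sp (k := k) R).left, ⊤) := FixLine19.el (k := k) (PowerSeries.X : R)
    obtain ⟨v, hv, h, he⟩ := exists_pt_coord B hy p hpU 1
    obtain ⟨v', hv', h', he'⟩ := exists_pt_coord B hy p hpU s
    have hmul : IsMul B v v' s := ⟨by rw [hv, hv'], U, y, hy, h, h', by rw [he, he', _root_.mul_one]⟩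
    have h1 := hf (loc_sp (k := k) R) v v' s hmul
    have hvW : ∀ w : sp (k := k) R ⟶ B.V, w ≫ B.π = p → ⊤ ≤ w.left ⁻¹ᵁ (B.π.left ⁻¹ᵁ W) := fun w hw => by
      show ⊤ ≤ (w ≫ B.π).left ⁻¹ᵁ W
      rw [hw, hpW]
    rw [appTop_eq_eval B hWU hP v (hvW v hv), appTop_eq_eval B hWU hP v' (hvW v' hv'), he, he'] at h1
    have happ : ∀ (w : sp (k := k) R ⟶ B.V) (hw : w ≫ B.π = p) (e : ⊤ ≤ (w ≫ B.π).left ⁻¹ᵁ W),
        ((w ≫ B.π).left.appLE W ⊤ e).hom =
          ((Scheme.ΓSpecIso (CommRingCat.of R)).inv.hom).comp φ := by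
      intro w hw e
      rw [HMNum19.appLE_congr (show (w ≫ B.π).left = pm by rw [hw]; rfl) e]
      show ((Spec.map (CommRingCat.ofHom φ) ≫ hW.fromSpec).appLE W ⊤ _).hom = _
      rw [← Scheme.Hom.appLE_comp_appLE _ _ (V := ⊤) (e₁ := hW.fromSpec_preimage_self.ge)
        (e₂ := fun _ _ => trivial)]
      rw [show hW.fromSpec.appLE W ⊤ hW.fromSpec_preimage_self.ge = (Scheme.ΓSpecIso Γ(X.left, W)).inv from ?_,
        show (Spec.map (CommRingCat.ofHom φ)).appLE ⊤ ⊤ (fun _ _ => trivial) =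
          (Spec.map (CommRingCat.ofHom φ)).appTop from
          ((Spec.map (CommRingCat.ofHom φ)).app_eq_appLE (U := ⊤)).symm,
        ← Scheme.ΓSpecIso_inv_naturality]
      · rfl
      · rw [Scheme.Hom.appLE, hW.fromSpec_app_self, Category.assoc, ← Functor.map_comp]
        exact (congrArg (_ ≫ ·) ((congrArg _ (Subsingleton.elim _ _)).trans (CategoryTheory.Functor.map_id _ _))).trans
          (Category.comp_id _)
    rw [happ v hv, happ v' hv'] at h1
    have h2 := congrArg (Scheme.ΓSpecIso (CommRingCat.of R)).hom.hom h1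
    have hinv : ((Scheme.ΓSpecIso (CommRingCat.of R)).hom.hom).comp
        ((Scheme.ΓSpecIso (CommRingCat.of R)).inv.hom) = RingHom.id R := by
      rw [← CommRingCat.hom_comp, Iso.inv_hom_id]
      rfl
    have hs : (Scheme.ΓSpecIso (CommRingCat.of R)).hom.hom s = (PowerSeries.X : R) :=
      RingHom.congr_fun hinv _
    rw [Polynomial.hom_eval₂, map_mul, map_pow, Polynomial.hom_eval₂, ← RingHom.comp_assoc, hinv,
      RingHom.id_comp, map_one, hs] at h2
    have h3 := congrArg (PowerSeries.coeff i) h2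
    rw [Polynomial.eval₂_eq_sum, Polynomial.eval₂_eq_sum, Polynomial.sum, Polynomial.sum, map_sum] at h3
    have hL : PowerSeries.coeff i ((PowerSeries.X : R) ^ N *
        ∑ j ∈ P.support, φ (P.coeff j) * 1 ^ j) = 0 := by
      simp only [one_pow, _root_.mul_one, φ, RingHom.comp_apply, ← map_sum, mul_comm (PowerSeries.X ^ N : R)]
      rw [PowerSeries.coeff_C_mul_X_pow, if_neg hi]
    rw [hL, Finset.sum_eq_single i (fun j _ hj => by
      simp only [φ, RingHom.comp_apply]
      rw [PowerSeries.coeff_C_mul_X_pow, if_neg (Ne.symm hj)])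
      (fun hi' => by simp [Polynomial.notMem_support_iff.1 hi'])] at h3
    simp only [φ, RingHom.comp_apply] at h3
    rw [PowerSeries.coeff_C_mul_X_pow, if_pos rfl] at h3
    obtain ⟨⟨t, ht⟩, htz⟩ := (IsLocalization.map_eq_zero_iff q.primeCompl L _).1 h3
    exact ht (hqle ((Submodule.mem_annihilator_span_singleton _ _).2 htz))
  refine ⟨P.coeff N, ?_⟩
  rw [Coef, ← hP]
  conv_lhs => rw [show P = Polynomial.C (P.coeff N) * Polynomial.X ^ N from by
    ext i
    rw [Polynomial.coeff_C_mul_X_pow]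
    split_ifs with h
    · rw [h]
    · exact hcoeff i h]
  simp

/-- A homogeneous function has weight. -/
theorem hasWeight_of_homog {N : ℕ} {f : Γ(B.V.left, ⊤)} (hf : Homog B N f) :
    GLinSh.HasWeight B.atlas.chart N f := by
  intro U y hy
  let I := {W : X.left.Opens // IsAffineOpen W ∧ W ≤ U}
  choose c hc using fun W : I => coef_of_homog_affine B hf hy W.2.1 W.2.2
  have hcov : U ≤ iSup fun W : I => W.1 := fun z hz => by
    obtain ⟨W, hW, hzW, hWU⟩ := exists_isAffineOpen_mem_and_subset (X := X.left) (x := z) (U := U) hz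
    exact Opens.mem_iSup.2 ⟨⟨W, hW, hWU⟩, hzW⟩
  obtain ⟨s, hs, -⟩ := TopCat.Sheaf.existsUnique_gluing' X.left.sheaf (fun W : I => W.1) U
    (fun W => homOfLE W.2.2) hcov c fun W W' =>
      (hc W).res B inf_le_left |>.unique B hy ((hc W').res B inf_le_right)
  refine ⟨s, ?_⟩
  refine TopCat.Sheaf.eq_of_locally_eq' B.V.left.sheaf (fun W : I => B.π.left ⁻¹ᵁ W.1) (B.π.left ⁻¹ᵁ U)
    (fun W => homOfLE (B.π.left.preimage_mono W.2.2)) ?_ _ _ fun W => ?_
  · intro z hz
    obtain ⟨W, hW⟩ := Opens.mem_iSup.1 (hcov hz)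
    exact Opens.mem_iSup.2 ⟨W, hW⟩
  · show GLinSh.res B.π W.2.2 (GLinSh.resTop B.π U f) = GLinSh.res B.π W.2.2 (B.π.left.app U s * y ^ N)
    erw [res_resTop, res_mul, res_pow, res_app]
    rw [show resX W.2.2 s = c W from hs W]
    exact hc W

end Groth.Agent.GITHM15
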